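import Mathlib
set_option linter.all false

/-!
# The two residual configurations for primitive groups with a suborbit of length 4

`Conf432 A Q S g`: `A = N(Q)` is a maximal subgroup of the simple group `G` of shape `3²:GL₂(3)` and `S` is a Sylow
3-subgroup of `G` of order 27 contained in `A`, normalised by an element `g` moving `Q`.

`Conf11664 A S z g`: `A = N(⟨z⟩)` is a maximal subgroup of the simple group `G` of order `11664 = 2⁴·3⁶` and `S` is a
Sylow 3-subgroup of `G` contained in `A`, normalised by an element `g` moving `⟨z⟩`.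
-/

set_option autoImplicit false

open Pointwise

namespace Cfsg.Agent.H399

universe u

/-- The configuration `3²:GL₂(3)`. -/
structure Conf432 {G : Type u} [Group G] (A Q S : Subgroup G) (g : G) : Prop where
  simple : IsSimpleGroup G
  max : IsCoatom A
  cardA : Nat.card A = 432
  cardQ : Nat.card Q = 9
  comm : ∀ x ∈ Q, ∀ y ∈ Q, x * y = y * x
  cent : Subgroup.centralizer (Q : Set G) = Q
  norm : Subgroup.normalizer (Q : Set G) = A
  trans : ∀ x ∈ Q, ∀ y ∈ Q, x ≠ 1 → y ≠ 1 → ∃ a ∈ A, a * x * a⁻¹ = y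
  QS : Q ≤ S
  SA : S ≤ A
  cardS : Nat.card S = 27
  exp : ∀ x ∈ S, x ^ 3 = 1
  sylow : ¬ 81 ∣ Nat.card G
  gS : g ∈ Subgroup.normalizer (S : Set G)
  gQ : MulAut.conj g • Q ≠ Q
  idx : (MulAut.conj g • A).relIndex A = 4
  cardN : Nat.card (Subgroup.normalizer (S : Set G)) = 216 ∨ Nat.card (Subgroup.normalizer (S : Set G)) = 432
  four : ∃ D : Subgroup G, D ≤ Subgroup.normalizer (S : Set G) ∧ D ≤ A ∧ Nat.card D = 4 ∧ ∀ d ∈ D, d * d = 1

/-- The configuration of order `11664`. -/
structure Conf11664 {G : Type u} [Group G] (A S : Subgroup G) (z g : G) : Prop where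
  simple : IsSimpleGroup G
  max : IsCoatom A
  cardA : Nat.card A = 11664
  orderz : orderOf z = 3
  norm : Subgroup.normalizer (Subgroup.zpowers z : Set G) = A
  cardC : Nat.card (Subgroup.centralizer {z}) = 5832
  SA : S ≤ A
  cardS : Nat.card S = 729
  sylow : ¬ 2187 ∣ Nat.card G
  gS : g ∈ Subgroup.normalizer (S : Set G)
  cent : Subgroup.centralizer {z, g * z * g⁻¹} = S
  idx : (MulAut.conj g • A).relIndex A = 4
  cardN : Nat.card (Subgroup.normalizer (S : Set G)) = 5832

end Cfsg.Agent.H399
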