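import Cfsg.Agent.H399.LocalG
import Cfsg.Agent.H399.Defs
import Cfsg.Agent.H345.EOneMcL
import Cfsg.Agent.H128.Val3
import Cfsg.Agent.H130.GLn
import Cfsg.Agent.H322.Cent.Uni
import Cfsg.Agent.LieClassical.SLTwoUnipotent
import Cfsg.Agent.S0243
import Cfsg.Agent.S0278
import Cfsg.Agent.S0281
import Cfsg.Agent.H344.List81
import Cfsg.Agent.CpAutHN.Second
import Cfsg.Agent.H352.Elim.Main
import Cfsg.Agent.S0279
import Cfsg.Agent.FastGrp
import Cfsg.Agent.Prune
set_option linter.all false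

section
prune_inst 0x7ff0bcfb0bf939dfdfff7e7faed0dffc3b901fffe6def94bffe46bff0bdf031009c563a58de010fe0e96c21410a87843f97eeeffe86bdc7ffffd5ff45ffbee0ff5f6bd0851968c340fbc0fff63f0778e7f3fffffffffffffffffffffffffffbeffbfffffffff

-- part: H399/KillC_mg
section
prune_inst 0xe4200a402040020000000512d0003c06ce000190102b000199400b420686ff230980a720ee801a06130aa22500310008100000790010000020000200411900a0902a52069308a104060009809885100000000000000000000000000000041004000000000
set_option linter.all false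
open scoped Cfsg.Agent.FastGrp

-- part: H399/Kill
section
/-!
# Consequences of the configuration `3²:GL₂(3)` for elements and subgroups of `G`
-/

set_option autoImplicit false
set_option linter.unusedSectionVars false
set_option linter.unnecessarySeqFocus false

open Pointwise

namespace Cfsg.Agent.H399

variable {G : Type*} [Group G]

/-! ### groups of order 27 generated by two subgroups of order 9 -/

/-- `S = Q Q'` of order 27 with `Z = Q ∩ Q'` of order 3. -/
structure Lines (S Q Q' Z : Subgroup G) : Prop where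
  eq : EA Q
  eq' : EA Q'
  cq : Nat.card Q = 9
  cq' : Nat.card Q' = 9
  cz : Nat.card Z = 3
  cs : Nat.card S = 27
  inf : Q ⊓ Q' = Z
  le : Q ≤ S
  le' : Q' ≤ S
  nq : S ≤ Nm Q
  nq' : S ≤ Nm Q'

section

variable [Finite G] {S Q Q' Z : Subgroup G}

theorem finite_of_card {X : Subgroup G} {n : ℕ} (h : Nat.card X = n + 1) : Finite X :=
  Nat.finite_of_card_ne_zero (by rw [h]; omega)

theorem Lines.symm (h : Lines S Q Q' Z) : Lines S Q' Q Z where
  eq := h.eq'
  eq' := h.eq
  cq := h.cq'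
  cq' := h.cq
  cz := h.cz
  cs := h.cs
  inf := by rw [inf_comm, h.inf]
  le := h.le'
  le' := h.le
  nq := h.nq'
  nq' := h.nq

theorem Lines.zle (h : Lines S Q Q' Z) : Z ≤ Q := by
  rw [← h.inf]
  exact inf_le_left

theorem Lines.zle' (h : Lines S Q Q' Z) : Z ≤ Q' := by
  rw [← h.inf]
  exact inf_le_right

theorem Lines.idx (h : Lines S Q Q' Z) : Z.relIndex Q = 3 := by
  have h2 := card_mul_relIndex h.zle
  rw [h.cq, h.cz] at h2
  omega

theorem Lines.idxS (h : Lines S Q Q' Z) : Q.relIndex S = 3 := by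
  have h2 := card_mul_relIndex h.le
  rw [h.cq, h.cs] at h2
  omega

theorem Lines.not_le (h : Lines S Q Q' Z) : ¬ Q' ≤ Q := by
  intro h0
  have h1 := h.inf
  rw [inf_of_le_right h0] at h1
  have h2 := h.cq'
  rw [h1, h.cz] at h2
  omega

theorem Lines.sup (h : Lines S Q Q' Z) : Q ⊔ Q' = S :=
  eq_of_prime_relIndex Nat.prime_three le_sup_left (sup_le h.le h.le') h.idxS
    fun h0 => h.not_le (le_sup_right.trans h0)

theorem Lines.cent (h : Lines S Q Q' Z) {z s : G} (hz : z ∈ Z) (hs : s ∈ S) : z * s = s * z := by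
  have h1 : S ≤ Subgroup.centralizer {z} := by
    rw [← h.sup]
    refine sup_le ?_ ?_
    · intro y hy
      rw [Subgroup.mem_centralizer_singleton_iff]
      exact h.eq.comm y hy z (h.zle hz)
    · intro y hy
      rw [Subgroup.mem_centralizer_singleton_iff]
      exact h.eq'.comm y hy z (h.zle' hz)
  exact (Subgroup.mem_centralizer_singleton_iff.1 (h1 hs)).symm

theorem Lines.comm_mem (h : Lines S Q Q' Z) {x y : G} (hx : x ∈ S) (hy : y ∈ S) : x * y * x⁻¹ * y⁻¹ ∈ Z := by
  have key : ∀ {Q Q' : Subgroup G}, Lines S Q Q' Z → x * y * x⁻¹ * y⁻¹ ∈ Q := by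
    intro Q Q' h
    have hx0 := hx
    have hy0 := hy
    rw [← h.sup, mul_mem_sup_iff (h.le.trans h.nq')] at hx0 hy0
    obtain ⟨a, ha, b, hb2, rfl⟩ := hx0
    obtain ⟨c, hc, d, hd, rfl⟩ := hy0
    have e : a * b * (c * d) * (a * b)⁻¹ * (c * d)⁻¹ =
        a * (b * c * b⁻¹) * ((b * d * b⁻¹ * d⁻¹)) * (d * a⁻¹ * d⁻¹) * c⁻¹ := by group
    have e2 : b * d * b⁻¹ * d⁻¹ = 1 := by
      rw [h.eq'.comm b hb2 d hd]
      group
    rw [e, e2, mul_one]
    have hbN : b ∈ Nm Q := h.nq (h.le' hb2)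
    have hdN : d ∈ Nm Q := h.nq (h.le' hd)
    exact Subgroup.mul_mem _ (Subgroup.mul_mem _ (Subgroup.mul_mem _ ha (Nm_conj hbN hc))
      (Nm_conj hdN (Subgroup.inv_mem _ ha))) (Subgroup.inv_mem _ hc)
  rw [← h.inf]
  exact ⟨key h, key h.symm⟩

theorem Lines.cases (h : Lines S Q Q' Z) {q q' : G} (hq : q ∈ Q) (hqZ : q ∉ Z) (hq' : q' ∈ Q') (hqZ' : q' ∉ Z)
    {X : Subgroup G} (hZX : Z ≤ X) (hXS : X ≤ S) (hX9 : Nat.card X = 9) :
    X = Q ∨ X = Q' ∨ X = Z ⊔ Subgroup.zpowers (q * q') ∨ X = Z ⊔ Subgroup.zpowers (q * q'⁻¹) := by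
  have hfQ : Finite Q := finite_of_card h.cq
  have hfQ' : Finite Q' := finite_of_card h.cq'
  have hfX : Finite X := finite_of_card hX9
  by_cases hXA : X = Q
  · exact Or.inl hXA
  by_cases hXB : X = Q'
  · exact Or.inr (Or.inl hXB)
  right; right
  have hXA' : ¬ X ≤ Q := fun h0 => hXA (Subgroup.eq_of_le_of_card_ge h0 (by rw [hX9, h.cq]))
  have hXB' : ¬ X ≤ Q' := fun h0 => hXB (Subgroup.eq_of_le_of_card_ge h0 (by rw [hX9, h.cq']))
  obtain ⟨x, hx, hxA, hxB⟩ := exists_not_mem_union hXA' hXB'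
  have hxS := hXS hx
  rw [← h.sup, mul_mem_sup_iff (h.le.trans h.nq')] at hxS
  obtain ⟨a, ha, b, hb2, rfl⟩ := hxS
  have haZ : a ∉ Z := fun h0 => hxB (Subgroup.mul_mem _ (h.zle' h0) hb2)
  have hbZ : b ∉ Z := fun h0 => hxA (Subgroup.mul_mem _ ha (h.zle h0))
  have hidx : Z.relIndex X = 3 := by
    have h2 := card_mul_relIndex hZX
    rw [hX9, h.cz] at h2
    omega
  have hqS := h.le hq
  have hqS' := h.le' hq'
  have haS : a ∈ S := h.le ha
  have hbS : b ∈ S := h.le' hb2
  have hPX : q * q' ∈ X → X = Z ⊔ Subgroup.zpowers (q * q') := by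
    intro h0
    refine (eq_of_prime_relIndex Nat.prime_three le_sup_left (sup_le hZX ?_) hidx ?_).symm
    · rwa [Subgroup.zpowers_le]
    · intro h2
      have h3 : q * q' ∈ Z := h2 (Subgroup.mem_sup_right (Subgroup.mem_zpowers _))
      apply hqZ
      rw [← h.inf]
      refine ⟨hq, ?_⟩
      have := Subgroup.mul_mem _ (h.zle' h3) (Subgroup.inv_mem _ hq')
      rwa [mul_inv_cancel_right] at this
  have hMX : q * q'⁻¹ ∈ X → X = Z ⊔ Subgroup.zpowers (q * q'⁻¹) := by
    intro h0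
    refine (eq_of_prime_relIndex Nat.prime_three le_sup_left (sup_le hZX ?_) hidx ?_).symm
    · rwa [Subgroup.zpowers_le]
    · intro h2
      have h3 : q * q'⁻¹ ∈ Z := h2 (Subgroup.mem_sup_right (Subgroup.mem_zpowers _))
      apply hqZ
      rw [← h.inf]
      refine ⟨hq, ?_⟩
      have := Subgroup.mul_mem _ (h.zle' h3) hq'
      rwa [inv_mul_cancel_right] at this
  have hca : a * q⁻¹ ∈ Z ∨ a * q ∈ Z := by
    rcases h.eq.tri h.zle h.idx hq hqZ ha with h2 | h2 | h2
    · exact absurd h2 haZ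
    · exact Or.inl h2
    · exact Or.inr h2
  have hcb : b * q'⁻¹ ∈ Z ∨ b * q' ∈ Z := by
    rcases h.eq'.tri h.zle' h.symm.idx hq' hqZ' hb2 with h2 | h2 | h2
    · exact absurd h2 hbZ
    · exact Or.inl h2
    · exact Or.inr h2
  have hZc : ∀ z ∈ Z, ∀ s ∈ S, z * s = s * z := fun z hz s hs => h.cent hz hs
  rcases hca with hca | hca <;> rcases hcb with hcb | hcb
  · left
    apply hPX
    have e : q * q' = (a * q⁻¹)⁻¹ * ((a * b) * (b * q'⁻¹)⁻¹) := by
      have e1 : (a * b) * (b * q'⁻¹)⁻¹ = a * q' := by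
        have h3 := hZc _ (Subgroup.inv_mem _ hcb) b hbS
        rw [mul_assoc, ← h3]
        group
      rw [e1]
      group
    rw [e]
    exact X.mul_mem (X.inv_mem (hZX hca)) (X.mul_mem hx (X.inv_mem (hZX hcb)))
  · right
    apply hMX
    have e : q * q'⁻¹ = (a * q⁻¹)⁻¹ * ((a * b) * (b * q')⁻¹) := by
      have e1 : (a * b) * (b * q')⁻¹ = a * q'⁻¹ := by
        have h3 := hZc _ (Subgroup.inv_mem _ hcb) b hbS
        rw [mul_assoc, ← h3]
        group
      rw [e1]
      group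
    rw [e]
    exact X.mul_mem (X.inv_mem (hZX hca)) (X.mul_mem hx (X.inv_mem (hZX hcb)))
  · right
    apply hMX
    have e1 : q⁻¹ * q' = (a * q)⁻¹ * ((a * b) * (b * q'⁻¹)⁻¹) := by
      have e1 : (a * b) * (b * q'⁻¹)⁻¹ = a * q' := by
        have h3 := hZc _ (Subgroup.inv_mem _ hcb) b hbS
        rw [mul_assoc, ← h3]
        group
      rw [e1]
      group
    have h2 : q⁻¹ * q' ∈ X := by
      rw [e1]
      exact X.mul_mem (X.inv_mem (hZX hca)) (X.mul_mem hx (X.inv_mem (hZX hcb)))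
    have e2 : q * q'⁻¹ = (q * q'⁻¹ * q⁻¹ * q'⁻¹⁻¹) * (q⁻¹ * q')⁻¹ := by group
    rw [e2]
    exact X.mul_mem (hZX (h.comm_mem hqS (Subgroup.inv_mem _ hqS'))) (X.inv_mem h2)
  · left
    apply hPX
    have e1 : q⁻¹ * q'⁻¹ = (a * q)⁻¹ * ((a * b) * (b * q')⁻¹) := by
      have e1 : (a * b) * (b * q')⁻¹ = a * q'⁻¹ := by
        have h3 := hZc _ (Subgroup.inv_mem _ hcb) b hbS
        rw [mul_assoc, ← h3]
        group
      rw [e1]
      group
    have h2 : q⁻¹ * q'⁻¹ ∈ X := by
      rw [e1]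
      exact X.mul_mem (X.inv_mem (hZX hca)) (X.mul_mem hx (X.inv_mem (hZX hcb)))
    have e2 : q * q' = (q * q' * q⁻¹ * q'⁻¹) * (q⁻¹ * q'⁻¹)⁻¹ := by group
    rw [e2]
    exact X.mul_mem (hZX (h.comm_mem hqS hqS')) (X.inv_mem h2)

end

end Cfsg.Agent.H399
end

-- part: H399/KillB
section
/-!
# Consequences of the configuration `3²:GL₂(3)`, second part
-/

set_option autoImplicit false
set_option linter.unusedSectionVars false
set_option linter.unnecessarySeqFocus false

open Pointwise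

namespace Cfsg.Agent.H399

variable {G : Type*} [Group G]

section

variable [Finite G] {A Q S : Subgroup G} {g : G}

namespace Conf432

theorem S3 (h : Conf432 A Q S g) : IsPGroup 3 S := IsPGroup.of_card (n := 3) (by rw [h.cardS]; norm_num)

theorem conj_le (h : Conf432 A Q S g) {P : Subgroup G} (hP : IsPGroup 3 P) : ∃ x, cj x P ≤ S := by
  have : Fact (Nat.Prime 3) := ⟨Nat.prime_three⟩
  obtain ⟨T, hT⟩ := hP.exists_le_sylow
  have hS : ¬ 3 ∣ S.index := by
    intro h0
    apply h.sylow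
    obtain ⟨k, hk⟩ := h0
    rw [← S.card_mul_index, h.cardS, hk]
    exact ⟨k, by ring⟩
  obtain ⟨x, hx⟩ := MulAction.exists_smul_eq G T (h.S3.toSylow hS)
  have h0 : (MulAut.conj x • (T : Subgroup G) : Subgroup G) = S :=
    congrArg (fun P : Sylow 3 G => (P : Subgroup G)) hx
  refine ⟨x, ?_⟩
  rw [← h0]
  exact cj_le_cj.2 hT

theorem conj_eq (h : Conf432 A Q S g) {P : Subgroup G} (hP : Nat.card P = 27) : ∃ x, cj x P = S := by
  obtain ⟨x, hx⟩ := h.conj_le (P := P) (IsPGroup.of_card (n := 3) (by rw [hP]; norm_num))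
  exact ⟨x, Subgroup.eq_of_le_of_card_ge hx (by rw [card_cj, hP, h.cardS])⟩

theorem mem_of_cent (h : Conf432 A Q S g) {t : G} (hc : ∀ s ∈ Q, s * t = t * s) : t ∈ Q := by
  rw [← h.cent, Subgroup.mem_centralizer_iff]
  exact hc

theorem eq_one_of (h : Conf432 A Q S g) {t : G} (hc : ∀ s ∈ Q, s * t = t * s) (h3 : ¬ 3 ∣ orderOf t) : t = 1 := by
  have h1 := h.exp t (h.QS (h.mem_of_cent hc))
  have h2 := orderOf_dvd_of_pow_eq_one h1
  rcases (Nat.dvd_prime Nat.prime_three).1 h2 with h4 | h4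
  · exact orderOf_eq_one_iff.1 h4
  · exact absurd (by rw [h4]) h3

theorem orderOf_conj' (x t : G) : orderOf (x * t * x⁻¹) = orderOf t := by
  rw [← MulAut.conj_apply]
  exact orderOf_injective (MulAut.conj x).toMonoidHom (MulAut.conj x).injective t

/-- (K1) -/
theorem K1 (h : Conf432 A Q S g) {t : G} (ht : t ≠ 1) (h3 : ¬ 3 ∣ orderOf t) :
    ¬ 27 ∣ Nat.card (Subgroup.centralizer {t}) := by
  intro h27
  have : Fact (Nat.Prime 3) := ⟨Nat.prime_three⟩
  obtain ⟨P, hP⟩ := Sylow.exists_subgroup_card_pow_prime (G := Subgroup.centralizer {t}) 3 (n := 3)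
    (by norm_num; exact h27)
  obtain ⟨x, hx⟩ := h.conj_eq (P := P.map (Subgroup.centralizer {t}).subtype)
    (by rw [Subgroup.card_map_of_injective (Subgroup.subtype_injective _), hP]; norm_num)
  have h1 : x * t * x⁻¹ = 1 := by
    refine h.eq_one_of ?_ (by rw [orderOf_conj']; exact h3)
    intro s hs
    have hs' := h.QS hs
    rw [← hx, mem_cj] at hs'
    obtain ⟨y, hy, hy'⟩ := hs'
    have h4 := Subgroup.mem_centralizer_singleton_iff.1 y.2
    have h5 : (y : G) = x⁻¹ * s * x := hy'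
    have e : s = x * y * x⁻¹ := by
      rw [h5]
      group
    have e1 : s * (x * t * x⁻¹) = x * (y * t) * x⁻¹ := by
      rw [e]
      group
    have e2 : x * t * x⁻¹ * s = x * (t * y) * x⁻¹ := by
      rw [e]
      group
    rw [e1, e2, h4]
  apply ht
  have e : t = x⁻¹ * (x * t * x⁻¹) * x := by group
  rw [e, h1]
  group

theorem cj_QS (h : Conf432 A Q S g) {n : G} (hn : n ∈ Nm S) : cj n Q ≤ S := by
  rw [← cj_of_mem_Nm hn, cj_le_cj]
  exact h.QS

theorem cent_cj (h : Conf432 A Q S g) (x : G) : Subgroup.centralizer (cj x Q : Set G) = cj x Q := by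
  rw [← cj_centralizer, h.cent]

theorem norm_cj (h : Conf432 A Q S g) (x : G) : Nm (cj x Q) = cj x A := by
  rw [← cj_Nm]
  congr 1
  exact h.norm

theorem gen (h : Conf432 A Q S g) : A ⊔ cj g A = ⊤ := by
  refine h.max.2 _ (lt_of_le_not_ge le_sup_left fun h0 => ?_)
  have h1 : cj g A ≤ A := le_sup_right.trans h0
  have h2 : cj g A = A := Subgroup.eq_of_le_of_card_ge h1 (by rw [card_cj])
  have h3 := h.idx
  have h4 : (cj g A).relIndex A = 4 := h3
  rw [h2, Subgroup.relIndex_self] at h4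
  omega

/-- an automorphism of order prime to 3 fixing `S` fixes the normaliser of a self-centralising subgroup. -/
theorem fix_aux {R : Subgroup G} {ψ : MulAut G} (hR : Subgroup.centralizer (R : Set G) = R) (h3R : ∀ r ∈ R, r ^ 3 = 1)
    (hfix : ∀ x ∈ R, ψ x = x) (h3 : ¬ 3 ∣ orderOf ψ) : ∀ a ∈ Nm R, ψ a = a := by
  intro a ha
  have hc : a⁻¹ * ψ a ∈ R := by
    rw [← hR, Subgroup.mem_centralizer_iff]
    intro r hr
    have h1 : a * r * a⁻¹ ∈ R := Nm_conj ha hr
    have h2 := hfix _ h1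
    rw [map_mul, map_mul, map_inv, hfix r hr] at h2
    have e : r = a⁻¹ * (a * r * a⁻¹) * a := by group
    calc r * (a⁻¹ * ψ a) = a⁻¹ * (a * r * a⁻¹) * a * (a⁻¹ * ψ a) := by rw [← e]
      _ = a⁻¹ * (ψ a * r * (ψ a)⁻¹) * ψ a := by rw [h2]; group
      _ = a⁻¹ * ψ a * r := by group
  have h1 : ∀ n : ℕ, (ψ ^ n) a = a * (a⁻¹ * ψ a) ^ n := by
    intro n
    induction n with
    | zero => simp
    | succ n ih =>
      rw [pow_succ', MulAut.mul_apply, ih, map_mul, map_pow, hfix _ hc, pow_succ', ← mul_assoc a, mul_inv_cancel_left]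
  have h2 := h1 (orderOf ψ)
  rw [pow_orderOf_eq_one, MulAut.one_apply, left_eq_mul] at h2
  have h4 : a⁻¹ * ψ a ∈ (⊥ : Subgroup G) := by
    refine mem_of_pow_mem (m := 3) (n := orderOf ψ) ((Nat.Prime.coprime_iff_not_dvd Nat.prime_three).2 h3)
      (h3R _ hc) ?_
    rw [h2]
    exact Subgroup.one_mem _
  rw [Subgroup.mem_bot, inv_mul_eq_one] at h4
  exact h4.symm

/-- (K-aut) -/
theorem Kaut (h : Conf432 A Q S g) {φ : MulAut G} {P : Subgroup G} (hP : Nat.card P = 27)
    (hfix : ∀ x ∈ P, φ x = x) (hφ : φ ≠ 1) (h3 : ¬ 3 ∣ orderOf φ) : False := by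
  obtain ⟨x, hx⟩ := h.conj_eq hP
  set ψ : MulAut G := MulAut.conj x * φ * (MulAut.conj x)⁻¹ with hψ
  have hψo : ¬ 3 ∣ orderOf ψ := by rwa [hψ, orderOf_conj' (G := MulAut G)]
  have hψfix : ∀ s ∈ S, ψ s = s := by
    intro s hs
    rw [← hx, mem_cj] at hs
    have h1 : ψ s = x * φ (x⁻¹ * s * x) * x⁻¹ := by
      rw [hψ, MulAut.mul_apply, MulAut.mul_apply, ← map_inv, MulAut.conj_apply, MulAut.conj_apply, inv_inv]
    rw [h1, hfix _ hs]
    group
  have hA : ∀ a ∈ A, ψ a = a := by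
    have := fix_aux h.cent (fun r hr => h.exp r (h.QS hr)) (fun r hr => hψfix r (h.QS hr)) hψo
    intro a ha
    apply this
    rw [← h.norm] at ha
    exact ha
  have hB : ∀ a ∈ cj g A, ψ a = a := by
    have hQ' := h.cj_QS h.gS
    have := fix_aux (h.cent_cj g) (fun r hr => h.exp r (hQ' hr)) (fun r hr => hψfix r (hQ' hr)) hψo
    intro a ha
    apply this
    rw [h.norm_cj]
    exact ha
  have hle : (⊤ : Subgroup G) ≤ MonoidHom.eqLocus ψ.toMonoidHom (MonoidHom.id G) := by
    rw [← h.gen]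
    exact sup_le (fun a ha => hA a ha) (fun a ha => hB a ha)
  have hψ1 : ψ = 1 := by
    ext y
    exact hle (Subgroup.mem_top y)
  apply hφ
  have e : φ = (MulAut.conj x)⁻¹ * ψ * MulAut.conj x := by
    rw [hψ]
    group
  rw [e, hψ1]
  group

/-! ### the lines of `S` -/

theorem lines (h : Conf432 A Q S g) : Lines S Q (cj g Q) (Q ⊓ cj g Q) := by
  have hQ3 : EA Q := ⟨h.comm, fun x hx => h.exp x (h.QS hx)⟩
  have hQ' := h.cj_QS h.gS
  have hSN : S ≤ Nm Q := by
    have := h.norm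
    rw [Nm, this]
    exact h.SA
  have hSN' : S ≤ Nm (cj g Q) := by
    rw [← cj_Nm, ← cj_of_mem_Nm h.gS, cj_le_cj]
    exact hSN
  have h1 := card_sup (H := cj g Q) (N := Q) (hQ'.trans hSN)
  rw [card_cj, h.cardQ] at h1
  have h2 : Nat.card (cj g Q ⊔ Q : Subgroup G) ∣ 27 := by
    rw [← h.cardS]
    exact Subgroup.card_dvd_of_le (sup_le hQ' h.QS)
  have h3 : Nat.card (cj g Q ⊓ Q : Subgroup G) ∣ 9 := by
    rw [← h.cardQ]
    exact Subgroup.card_dvd_of_le inf_le_right
  have h4 : Nat.card (cj g Q ⊓ Q : Subgroup G) ≠ 9 := by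
    intro h4
    have h5 : cj g Q ⊓ Q = Q := Subgroup.eq_of_le_of_card_ge inf_le_right (by rw [h4, h.cardQ])
    have h6 : Q ≤ cj g Q := h5.symm.le.trans inf_le_left
    exact h.gQ (Subgroup.eq_of_le_of_card_ge h6 (by rw [card_cj])).symm
  have h5 : Nat.card (cj g Q ⊓ Q : Subgroup G) = 3 := by
    have h6 := Nat.le_of_dvd (by norm_num) h2
    have h7 : Nat.card (cj g Q ⊔ Q : Subgroup G) * Nat.card (cj g Q ⊓ Q : Subgroup G) ≤
      27 * Nat.card (cj g Q ⊓ Q : Subgroup G) := Nat.mul_le_mul_right _ h6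
    have h8 := Nat.le_of_dvd (by norm_num) h3
    interval_cases h9 : Nat.card (cj g Q ⊓ Q : Subgroup G) <;> omega
  refine ⟨hQ3, hQ3.cjBy g, h.cardQ, by rw [card_cj, h.cardQ], by rw [inf_comm, h5], h.cardS, rfl, h.QS, hQ', hSN, hSN'⟩

/-- `Z = Z(S)` -/
theorem mem_Z_iff (h : Conf432 A Q S g) {x : G} : x ∈ Q ⊓ cj g Q ↔ x ∈ S ∧ ∀ s ∈ S, s * x = x * s := by
  constructor
  · intro hx
    exact ⟨h.QS hx.1, fun s hs => (h.lines.cent hx hs).symm⟩
  · rintro ⟨-, hx⟩
    refine ⟨h.mem_of_cent fun s hs => hx s (h.QS hs), ?_⟩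
    show x ∈ cj g Q
    rw [← h.cent_cj g, Subgroup.mem_centralizer_iff]
    exact fun s hs => hx s (h.lines.le' hs)

theorem Nm_S_le (h : Conf432 A Q S g) : Nm S ≤ Nm (Q ⊓ cj g Q) := by
  rw [le_Nm]
  intro n hn z hz
  rw [h.mem_Z_iff] at hz ⊢
  refine ⟨Nm_conj hn hz.1, fun s hs => ?_⟩
  have h1 := hz.2 _ (Nm_conj' hn hs)
  have e1 : s * (n * z * n⁻¹) = n * (n⁻¹ * s * n * z) * n⁻¹ := by group
  rw [e1, h1]
  group

theorem not_A_le (h : Conf432 A Q S g) : ¬ A ≤ Nm S := by
  intro h0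
  have h1 := h0.trans h.Nm_S_le
  -- `A` is transitive on `Q#`
  have hZ := h.lines
  obtain ⟨z, hz, hz1⟩ : ∃ z ∈ Q ⊓ cj g Q, z ≠ 1 := by
    by_contra hcon
    push Not at hcon
    have h2 : Q ⊓ cj g Q = ⊥ := by
      rw [eq_bot_iff]
      intro x hx
      rw [Subgroup.mem_bot]
      exact hcon x hx
    have h3 := hZ.cz
    rw [h2, Subgroup.card_bot] at h3
    omega
  have h2 : Q ≤ Q ⊓ cj g Q := by
    intro q hq
    by_cases hq1 : q = 1
    · rw [hq1]
      exact Subgroup.one_mem _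
    obtain ⟨a, ha, rfl⟩ := h.trans z hz.1 q hq hz1 hq1
    exact Nm_conj (h1 ha) hz
  have h3 := Subgroup.card_le_of_le h2
  rw [h.cardQ, hZ.cz] at h3
  omega

/-- `N_A(S) = A ∩ A^g` has order 108 -/
theorem card_NA (h : Conf432 A Q S g) : Nat.card (A ⊓ Nm S : Subgroup G) = 108 := by
  have : Fact (Nat.Prime 3) := ⟨Nat.prime_three⟩
  have hL := h.lines
  have hD : A ⊓ cj g A ≤ A ⊓ Nm S := by
    refine le_inf inf_le_left ?_
    rw [← hL.sup]
    have h1 : A ≤ Nm Q := by
      have := h.norm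
      rw [Nm, this]
    refine sup_le_Nm (inf_le_left.trans h1) (inf_le_right.trans ?_)
    rw [h.norm_cj]
  have hidx : (A ⊓ cj g A).relIndex A = 4 := by
    have h1 := h.idx
    rw [inf_comm, Subgroup.inf_relIndex_right]
    exact h1
  have h1 := Subgroup.relIndex_mul_relIndex _ _ _ hD inf_le_left
  rw [hidx] at h1
  have h2 : (A ⊓ Nm S).relIndex A ∣ 4 := Dvd.intro_left _ h1
  have h3 := Nat.le_of_dvd (by norm_num) h2
  have h4 : (A ⊓ Nm S).relIndex A ≠ 1 := by
    intro h0
    exact h.not_A_le ((Subgroup.relIndex_eq_one.1 h0).trans inf_le_right)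
  have h5 : (A ⊓ Nm S).relIndex A ≠ 2 := by
    intro h0
    have hAN : A ≤ Nm (A ⊓ Nm S) := by
      have h6 : ((A ⊓ Nm S).subgroupOf A).Normal := Subgroup.normal_of_index_eq_two h0
      exact (Subgroup.normal_subgroupOf_iff_le_normalizer inf_le_left).1 h6
    apply h.not_A_le
    rw [le_Nm']
    intro a ha
    have h6 : cj a S ≤ A ⊓ Nm S := by
      rw [← cj_of_mem_Nm (hAN ha), cj_le_cj]
      exact le_inf h.SA (self_le_Nm S)
    have h7 : S ≤ A ⊓ Nm S := le_inf h.SA (self_le_Nm S)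
    have hi : ¬ 3 ∣ S.relIndex (A ⊓ Nm S) := by
      intro h8
      have h9 := Subgroup.relIndex_mul_relIndex _ _ _ h7 inf_le_left
      have h10 := card_mul_relIndex h.SA
      rw [h.cardS, h.cardA, ← h9] at h10
      obtain ⟨k, hk⟩ := h8
      rw [hk, h0] at h10
      omega
    have hi' : ¬ 3 ∣ (cj a S).relIndex (A ⊓ Nm S) := by
      have h8 := card_mul_relIndex h6
      rw [card_cj, ← card_mul_relIndex h7] at h8
      rwa [Nat.eq_of_mul_eq_mul_left Nat.card_pos h8]
    obtain ⟨c, hc, hc'⟩ := exists_conj_of_sylow h7 h6 h.S3 (isPGroup_cj a h.S3) hi hi'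
    rw [cj_eq_iff] at hc'
    rw [hc', cj_of_mem_Nm (Subgroup.inv_mem _ hc.2)]
  have h6 := card_mul_relIndex (inf_le_left : A ⊓ Nm S ≤ A)
  rw [h.cardA] at h6
  interval_cases h7 : (A ⊓ Nm S).relIndex A <;> omega

/-- the orbit of `Q` under `N(S)` -/
def orb (S Q : Subgroup G) : Set (Subgroup G) := {Y | ∃ x ∈ Nm S, cj x Q = Y}

theorem orb_card (h : Conf432 A Q S g) : 108 * (orb S Q).ncard = Nat.card (Nm S) := by
  have h1 := card_mul_relIndex (inf_le_left : Nm S ⊓ Nm Q ≤ Nm S)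
  have h2 : Nm S ⊓ Nm Q = A ⊓ Nm S := by
    have := h.norm
    rw [Nm, Nm, this, inf_comm]
  rw [relIndex_Nm, h2, h.card_NA] at h1
  exact h1

theorem exists_qq (h : Conf432 A Q S g) : ∃ q q' : G, q ∈ Q ∧ q ∉ Q ⊓ cj g Q ∧ q' ∈ cj g Q ∧ q' ∉ Q ⊓ cj g Q := by
  have hL := h.lines
  obtain ⟨q, hq, hq'⟩ := SetLike.not_le_iff_exists.1 hL.symm.not_le
  obtain ⟨r, hr, hr'⟩ := SetLike.not_le_iff_exists.1 hL.not_le
  exact ⟨q, r, hq, fun h0 => hq' h0.2, hr, fun h0 => hr' h0.1⟩

theorem Z_le_cj (h : Conf432 A Q S g) {n : G} (hn : n ∈ Nm S) : Q ⊓ cj g Q ≤ cj n Q := by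
  rw [← cj_of_mem_Nm (h.Nm_S_le hn), cj_le_cj]
  exact inf_le_left

/-- If `|N(S)| = 432` all lines are conjugate to `Q`. -/
theorem line_mem (h : Conf432 A Q S g) (hN : Nat.card (Nm S) = 432) {X : Subgroup G} (hZX : Q ⊓ cj g Q ≤ X)
    (hXS : X ≤ S) (hX9 : Nat.card X = 9) : ∃ n ∈ Nm S, cj n Q = X := by
  obtain ⟨q, q', hq, hqZ, hq', hqZ'⟩ := h.exists_qq
  have hL := h.lines
  set P := (Q ⊓ cj g Q) ⊔ Subgroup.zpowers (q * q') with hP
  set M := (Q ⊓ cj g Q) ⊔ Subgroup.zpowers (q * q'⁻¹) with hM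
  have hcases : ∀ X : Subgroup G, Q ⊓ cj g Q ≤ X → X ≤ S → Nat.card X = 9 → X ∈ ({Q, cj g Q, P, M} : Set (Subgroup G)) :=
    fun X h1 h2 h3 => hL.cases hq hqZ hq' hqZ' h1 h2 h3
  have hsub : orb S Q ⊆ {Q, cj g Q, P, M} := by
    rintro Y ⟨x, hx, rfl⟩
    exact hcases _ (h.Z_le_cj hx) (h.cj_QS hx) (by rw [card_cj, h.cardQ])
  have hcard : (orb S Q).ncard = 4 := by
    have := h.orb_card
    omega
  have h4 : ({Q, cj g Q, P, M} : Set (Subgroup G)).ncard ≤ 4 := by
    refine (Set.ncard_insert_le _ _).trans ?_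
    have h5 := Set.ncard_insert_le (cj g Q) ({P, M} : Set (Subgroup G))
    have h6 := Set.ncard_insert_le P ({M} : Set (Subgroup G))
    rw [Set.ncard_singleton] at h6
    omega
  have heq := Set.eq_of_subset_of_ncard_le hsub (by rw [hcard]; exact h4) (Set.toFinite _)
  have := hcases X hZX hXS hX9
  rw [← heq] at this
  exact this

theorem exists_z (h : Conf432 A Q S g) : ∃ z ∈ Q ⊓ cj g Q, z ≠ 1 := by
  by_contra hcon
  push Not at hcon
  have h2 : Q ⊓ cj g Q = ⊥ := by
    rw [eq_bot_iff]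
    intro x hx
    rw [Subgroup.mem_bot]
    exact hcon x hx
  have h3 := h.lines.cz
  rw [h2, Subgroup.card_bot] at h3
  omega

/-- every element of a line is conjugate into `Z` if the line is conjugate to `Q` -/
theorem isConj_of_cj (h : Conf432 A Q S g) {z : G} (hz : z ∈ Q ⊓ cj g Q) (hz1 : z ≠ 1) {n x : G} (hx : x ∈ cj n Q)
    (hx1 : x ≠ 1) : IsConj z x := by
  rw [mem_cj] at hx
  have h1 : n⁻¹ * x * n ≠ 1 := by
    intro h0
    apply hx1
    have e : x = n * (n⁻¹ * x * n) * n⁻¹ := by group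
    rw [e, h0]
    group
  obtain ⟨a, -, ha⟩ := h.trans z hz.1 _ hx hz1 h1
  rw [isConj_iff]
  refine ⟨n * a, ?_⟩
  have e : n * a * z * (n * a)⁻¹ = n * (a * z * a⁻¹) * n⁻¹ := by group
  rw [e, ha]
  group

/-- the line through `x` -/
theorem line_card (h : Conf432 A Q S g) {x : G} (hx : x ∈ S) (hxZ : x ∉ Q ⊓ cj g Q) :
    Nat.card ((Q ⊓ cj g Q) ⊔ Subgroup.zpowers x : Subgroup G) = 9 ∧ (Q ⊓ cj g Q) ⊔ Subgroup.zpowers x ≤ S := by
  have hL := h.lines
  have hzx : Subgroup.zpowers x ≤ S := by rwa [Subgroup.zpowers_le]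
  have hx1 : x ≠ 1 := by
    rintro rfl
    exact hxZ (Subgroup.one_mem _)
  have ho : orderOf x = 3 := by
    rcases (Nat.dvd_prime Nat.prime_three).1 (orderOf_dvd_of_pow_eq_one (h.exp x hx)) with h1 | h1
    · exact absurd (orderOf_eq_one_iff.1 h1) hx1
    · exact h1
  have hcz : Nat.card (Subgroup.zpowers x) = 3 := by rw [Nat.card_zpowers, ho]
  refine ⟨?_, sup_le (inf_le_left.trans h.QS) hzx⟩
  have hN : Subgroup.zpowers x ≤ Nm (Q ⊓ cj g Q) := hzx.trans ((self_le_Nm S).trans h.Nm_S_le)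
  have h1 := card_sup hN
  have h2 : Subgroup.zpowers x ⊓ (Q ⊓ cj g Q) = ⊥ := by
    by_contra h0
    have h3 : Nat.card (Subgroup.zpowers x ⊓ (Q ⊓ cj g Q) : Subgroup G) ∣ 3 := by
      rw [← hcz]
      exact Subgroup.card_dvd_of_le inf_le_left
    rcases (Nat.dvd_prime Nat.prime_three).1 h3 with h4 | h4
    · exact h0 (Subgroup.card_eq_one.1 h4)
    · have h5 : Subgroup.zpowers x ⊓ (Q ⊓ cj g Q) = Subgroup.zpowers x :=
        Subgroup.eq_of_le_of_card_ge inf_le_left (by rw [h4, hcz])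
      apply hxZ
      have h6 : Subgroup.zpowers x ≤ Q ⊓ cj g Q := by
        rw [← h5]
        exact inf_le_right
      exact h6 (Subgroup.mem_zpowers x)
  rw [h2, Subgroup.card_bot, mul_one, hcz, hL.cz] at h1
  rw [sup_comm, h1]

/-- (K4a) -/
theorem isConj_of_order (h : Conf432 A Q S g) (hN : Nat.card (Nm S) = 432) {z : G} (hz : z ∈ Q ⊓ cj g Q) (hz1 : z ≠ 1)
    {x : G} (hx : orderOf x = 3) : IsConj z x := by
  have hp : IsPGroup 3 (Subgroup.zpowers x) := IsPGroup.of_card (n := 1) (by rw [Nat.card_zpowers, hx]; norm_num)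
  obtain ⟨y, hy⟩ := h.conj_le hp
  have hyS : y * x * y⁻¹ ∈ S := hy (conj_mem_cj.2 (Subgroup.mem_zpowers x))
  have hy1 : y * x * y⁻¹ ≠ 1 := by
    intro h0
    rw [← orderOf_conj' y x, h0, orderOf_one] at hx
    omega
  have h1 : IsConj z (y * x * y⁻¹) := by
    by_cases hyZ : y * x * y⁻¹ ∈ Q ⊓ cj g Q
    · refine h.isConj_of_cj hz hz1 (n := 1) ?_ hy1
      rw [cj_one]
      exact hyZ.1
    · obtain ⟨h2, h3⟩ := h.line_card hyS hyZ
      obtain ⟨n, -, hn⟩ := h.line_mem hN le_sup_left h3 h2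
      refine h.isConj_of_cj hz hz1 (n := n) ?_ hy1
      rw [hn]
      exact Subgroup.mem_sup_right (Subgroup.mem_zpowers _)
  refine h1.trans ?_
  rw [isConj_iff]
  exact ⟨y⁻¹, by group⟩

theorem card_cent_of_isConj {x y : G} (h : IsConj x y) :
    Nat.card (Subgroup.centralizer {x}) = Nat.card (Subgroup.centralizer {y}) := by
  obtain ⟨c, rfl⟩ := isConj_iff.1 h
  have e : Subgroup.centralizer {c * x * c⁻¹} = cj c (Subgroup.centralizer {x}) := by
    ext y
    rw [mem_cj, Subgroup.mem_centralizer_singleton_iff, Subgroup.mem_centralizer_singleton_iff]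
    constructor
    · intro h0
      have e1 : c⁻¹ * y * c * x = c⁻¹ * (y * (c * x * c⁻¹)) * c := by group
      rw [e1, h0]
      group
    · intro h0
      have e1 : y * (c * x * c⁻¹) = c * (c⁻¹ * y * c * x) * c⁻¹ := by group
      rw [e1, h0]
      group
  rw [e, card_cj]

theorem S_le_cent (h : Conf432 A Q S g) {z : G} (hz : z ∈ Q ⊓ cj g Q) : S ≤ Subgroup.centralizer {z} := by
  intro s hs
  rw [Subgroup.mem_centralizer_singleton_iff]
  exact (h.lines.cent hz hs).symm

theorem K4a (h : Conf432 A Q S g) (hN : Nat.card (Nm S) = 432) {x : G} (hx : orderOf x = 3) :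
    27 ∣ Nat.card (Subgroup.centralizer {x}) := by
  obtain ⟨z, hz, hz1⟩ := h.exists_z
  rw [← card_cent_of_isConj (h.isConj_of_order hN hz hz1 hx), ← h.cardS]
  exact Subgroup.card_dvd_of_le (h.S_le_cent hz)

theorem S_not_comm (h : Conf432 A Q S g) : ¬ ∀ x ∈ S, ∀ y ∈ S, x * y = y * x := by
  intro h0
  have h1 : S ≤ Q := by
    intro s hs
    exact h.mem_of_cent fun q hq => h0 q (h.QS hq) s hs
  have := Subgroup.card_le_of_le h1
  rw [h.cardS, h.cardQ] at this
  omega

/-- subgroups of order 9 of `S` contain `Z` -/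
theorem Z_le_of_nine (h : Conf432 A Q S g) {E : Subgroup G} (hE : Nat.card E = 9) (hES : E ≤ S) : Q ⊓ cj g Q ≤ E := by
  have : Fact (Nat.Prime 3) := ⟨Nat.prime_three⟩
  have hEc : ∀ x ∈ E, ∀ y ∈ E, x * y = y * x := by
    have h1 := IsPGroup.isMulCommutative_of_card_eq_prime_sq (p := 3) (G := E) (by rw [hE]; norm_num)
    intro x hx y hy
    exact congrArg Subtype.val (h1.is_comm.comm ⟨x, hx⟩ ⟨y, hy⟩)
  by_contra hcon
  have hZ := h.lines
  have h1 : E ⊓ (Q ⊓ cj g Q) = ⊥ := by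
    by_contra h0
    have h3 : Nat.card (E ⊓ (Q ⊓ cj g Q) : Subgroup G) ∣ 3 := by
      rw [← hZ.cz]
      exact Subgroup.card_dvd_of_le inf_le_right
    rcases (Nat.dvd_prime Nat.prime_three).1 h3 with h4 | h4
    · exact h0 (Subgroup.card_eq_one.1 h4)
    · have h5 : E ⊓ (Q ⊓ cj g Q) = Q ⊓ cj g Q :=
        Subgroup.eq_of_le_of_card_ge inf_le_right (by rw [h4, hZ.cz])
      apply hcon
      rw [← h5]
      exact inf_le_left
  have h2 := card_sup (hES.trans ((self_le_Nm S).trans h.Nm_S_le))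
  rw [h1, Subgroup.card_bot, mul_one, hE, hZ.cz] at h2
  have h3 : E ⊔ (Q ⊓ cj g Q) = S :=
    Subgroup.eq_of_le_of_card_ge (sup_le hES (inf_le_left.trans h.QS)) (by rw [h2, h.cardS])
  apply h.S_not_comm
  have key : ∀ y ∈ E, S ≤ Subgroup.centralizer {y} := by
    intro y hy
    rw [← h3]
    refine sup_le ?_ ?_
    · intro x hx
      rw [Subgroup.mem_centralizer_singleton_iff]
      exact hEc x hx y hy
    · intro x hx
      rw [Subgroup.mem_centralizer_singleton_iff]
      exact hZ.cent hx (hES hy)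
  intro x hx y hy
  have hx' : S ≤ Subgroup.centralizer {x} := by
    rw [← h3]
    refine sup_le ?_ ?_
    · intro w hw
      rw [Subgroup.mem_centralizer_singleton_iff]
      exact (Subgroup.mem_centralizer_singleton_iff.1 (key w hw hx)).symm
    · intro w hw
      rw [Subgroup.mem_centralizer_singleton_iff]
      exact hZ.cent hw hx
  exact (Subgroup.mem_centralizer_singleton_iff.1 (hx' hy)).symm

/-- (K4b) -/
theorem cent_nine (h : Conf432 A Q S g) (hN : Nat.card (Nm S) = 432) {E : Subgroup G} (hE : Nat.card E = 9) :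
    Subgroup.centralizer (E : Set G) = E := by
  have hp : IsPGroup 3 E := IsPGroup.of_card (n := 2) (by rw [hE]; norm_num)
  obtain ⟨y, hy⟩ := h.conj_le hp
  have h9 : Nat.card (cj y E) = 9 := by rw [card_cj, hE]
  obtain ⟨n, -, hn⟩ := h.line_mem hN (h.Z_le_of_nine h9 hy) hy h9
  have h1 : E = cj (y⁻¹ * n) Q := by rw [cj_mul, hn, cj_inv_cj]
  rw [h1]
  exact h.cent_cj _

theorem K4b (h : Conf432 A Q S g) (hN : Nat.card (Nm S) = 432) {x : G} (hx : x ≠ 1) (h3 : ¬ 3 ∣ orderOf x) :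
    ¬ 9 ∣ Nat.card (Subgroup.centralizer {x}) := by
  intro h9
  have : Fact (Nat.Prime 3) := ⟨Nat.prime_three⟩
  obtain ⟨E, hE⟩ := Sylow.exists_subgroup_card_pow_prime (G := Subgroup.centralizer {x}) 3 (n := 2)
    (by norm_num; exact h9)
  set E' := E.map (Subgroup.centralizer {x}).subtype with hE'
  have hc : Nat.card E' = 9 := by
    rw [hE', Subgroup.card_map_of_injective (Subgroup.subtype_injective _), hE]
    norm_num
  have h1 := h.cent_nine hN hc
  have h2 : x ∈ E' := by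
    rw [← h1, Subgroup.mem_centralizer_iff]
    rintro _ ⟨y, -, rfl⟩
    exact Subgroup.mem_centralizer_singleton_iff.1 y.2
  have h4 : x ^ 9 = 1 := by
    have : (⟨x, h2⟩ : E') ^ 9 = 1 := by
      rw [← hc]
      exact pow_card_eq_one'
    exact congrArg Subtype.val this
  have h5 := orderOf_dvd_of_pow_eq_one h4
  have h6 : orderOf x ∣ 3 ^ 2 := h5
  obtain ⟨k, hk, hk'⟩ := (Nat.dvd_prime_pow Nat.prime_three).1 h6
  rcases Nat.eq_zero_or_pos k with rfl | hk0
  · rw [pow_zero, orderOf_eq_one_iff] at hk'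
    exact hx hk'
  · apply h3
    rw [hk']
    exact dvd_pow_self _ hk0.ne'

/-! ### counting -/

theorem sylow_count (h : Conf432 A Q S g) : (Nm S).index % 3 = 1 := by
  have : Fact (Nat.Prime 3) := ⟨Nat.prime_three⟩
  have hS : ¬ 3 ∣ S.index := by
    intro h0
    apply h.sylow
    obtain ⟨k, hk⟩ := h0
    rw [← S.card_mul_index, h.cardS, hk]
    exact ⟨k, by ring⟩
  have h1 := card_sylow_modEq_one 3 G
  rw [Sylow.card_eq_index_normalizer (h.S3.toSylow hS)] at h1
  exact h1

theorem mod_of_432 (h : Conf432 A Q S g) (hN : Nat.card (Nm S) = 432) : Nat.card G / 27 % 3 = 1 := by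
  have h1 := (Nm S).card_mul_index
  have h2 := h.sylow_count
  rw [hN] at h1
  omega

theorem mod_of_216 (h : Conf432 A Q S g) (hN : Nat.card (Nm S) = 216) : Nat.card G / 27 % 3 = 2 := by
  have h1 := (Nm S).card_mul_index
  have h2 := h.sylow_count
  rw [hN] at h1
  omega

theorem N_of_one (h : Conf432 A Q S g) (hm : Nat.card G / 27 % 3 = 1) : Nat.card (Nm S) = 432 := by
  rcases h.cardN with h1 | h1
  · have := h.mod_of_216 h1
    omega
  · exact h1

theorem N_of_two (h : Conf432 A Q S g) (hm : Nat.card G / 27 % 3 = 2) : Nat.card (Nm S) = 216 := by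
  rcases h.cardN with h1 | h1
  · exact h1
  · have := h.mod_of_432 h1
    omega

end Conf432

end

end Cfsg.Agent.H399
end

-- part: H399/KillC
section
/-!
# Consequences of the configuration `3²:GL₂(3)`, third part
-/

set_option autoImplicit false
set_option linter.unusedSectionVars false
set_option linter.unnecessarySeqFocus false

open Pointwise

namespace Cfsg.Agent.H399

variable {G : Type*} [Group G]

theorem exists_conj_le_of_sylow {p : ℕ} [Fact p.Prime] [Finite G] {H S T : Subgroup G} (hS : S ≤ H) (hT : T ≤ H)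
    (hSp : IsPGroup p S) (hTp : IsPGroup p T) (hSi : ¬ p ∣ S.relIndex H) : ∃ x ∈ H, cj x T ≤ S := by
  have h2 : IsPGroup p (T.subgroupOf H) := hTp.comap_of_injective _ H.subtype_injective
  obtain ⟨P, hP⟩ := h2.exists_le_sylow
  have h3 : ¬ p ∣ ((P : Subgroup H).map H.subtype).relIndex H := by
    rw [Subgroup.relIndex, Subgroup.subgroupOf, Subgroup.comap_map_eq_self_of_injective H.subtype_injective]
    exact P.not_dvd_index
  obtain ⟨x, hx, hx'⟩ := exists_conj_of_sylow hS (Subgroup.map_subtype_le (P : Subgroup H)) hSp (P.2.map _) hSi h3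
  refine ⟨x, hx, ?_⟩
  rw [← hx', cj_le_cj]
  have := Subgroup.map_mono (f := H.subtype) hP
  rwa [Subgroup.subgroupOf_map_subtype, inf_of_le_left hT] at this

/-- index of the centraliser of an element of order 3 in a group normalising it -/
theorem relIndex_cent_le [Finite G] {N : Subgroup G} {z : G} (hz3 : z ^ 3 = 1) (hz1 : z ≠ 1)
    (hN : ∀ n ∈ N, n * z * n⁻¹ = z ∨ n * z * n⁻¹ = z⁻¹) : (Subgroup.centralizer {z}).relIndex N ≤ 2 := by
  by_cases hall : ∀ n ∈ N, n * z * n⁻¹ = z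
  · have : N ≤ Subgroup.centralizer {z} := by
      intro n hn
      rw [Subgroup.mem_centralizer_singleton_iff, ← mul_inv_eq_iff_eq_mul]
      exact hall n hn
    rw [Subgroup.relIndex_eq_one.2 this]
    norm_num
  push Not at hall
  obtain ⟨k, hk, hkz⟩ := hall
  have hkz' : k * z * k⁻¹ = z⁻¹ := (hN k hk).resolve_left hkz
  have hzz : z ≠ z⁻¹ := fun h0 => hz1 (eq_one_of_inv hz3 h0)
  have h3 : (Subgroup.centralizer {z}).relIndex N = 2 := by
    rw [Subgroup.relIndex, Subgroup.index_eq_two_iff]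
    refine ⟨⟨k, hk⟩, fun b => ?_⟩
    rw [Subgroup.mem_subgroupOf, Subgroup.mem_subgroupOf, Subgroup.mem_centralizer_singleton_iff,
      Subgroup.mem_centralizer_singleton_iff, Subgroup.coe_mul]
    rcases hN b b.2 with h4 | h4
    · right
      have hbz : (b : G) * z = z * b := by rw [← mul_inv_eq_iff_eq_mul, h4]
      refine ⟨hbz, fun h5 => ?_⟩
      apply hzz
      have h6 : b * k * z * (b * k)⁻¹ = z := by rw [h5, mul_inv_cancel_right]
      have h7 : b * k * z * (b * k)⁻¹ = (b : G) * (k * z * k⁻¹) * (b : G)⁻¹ := by group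
      rw [h7, hkz'] at h6
      have h8 : (b : G) * z⁻¹ * (b : G)⁻¹ = (b * z * (b : G)⁻¹)⁻¹ := by group
      rw [h8, h4] at h6
      exact h6.symm
    · left
      refine ⟨?_, fun h5 => ?_⟩
      · rw [← mul_inv_eq_iff_eq_mul]
        have h7 : b * k * z * (b * k)⁻¹ = (b : G) * (k * z * k⁻¹) * (b : G)⁻¹ := by group
        have h8 : (b : G) * z⁻¹ * (b : G)⁻¹ = (b * z * (b : G)⁻¹)⁻¹ := by group
        rw [h7, hkz', h8, h4, inv_inv]
      · apply hzz
        rw [← h4, h5, mul_inv_cancel_right]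
  exact h3.le

/-- the size of a conjugacy class -/
theorem ncard_class [Finite G] (z : G) : {y : G | ∃ x, x * z * x⁻¹ = y}.ncard = (Subgroup.centralizer {z}).index := by
  let _ : MulAction G G := MulAction.compHom G (MulAut.conj : G →* MulAut G)
  have h1 := MulAction.index_stabilizer G z
  have h2 : MulAction.stabilizer G z = Subgroup.centralizer {z} := by
    ext x
    rw [MulAction.mem_stabilizer_iff, Subgroup.mem_centralizer_singleton_iff, ← mul_inv_eq_iff_eq_mul]
    rfl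
  rw [h2] at h1
  rw [h1]
  rfl

section

variable [Finite G] {A Q S : Subgroup G} {g : G}

namespace Conf432

theorem inv_Z (h : Conf432 A Q S g) {z : G} (hz : z ∈ Q ⊓ cj g Q) (hz1 : z ≠ 1) {n : G} (hn : n ∈ Nm S) :
    n * z * n⁻¹ = z ∨ n * z * n⁻¹ = z⁻¹ := by
  refine inv_or_eq h.lines.cz hz hz1 (Nm_conj (h.Nm_S_le hn) hz) ?_
  intro h0
  apply hz1
  have e : z = n⁻¹ * (n * z * n⁻¹) * n := by group
  rw [e, h0]
  group

/-- (K5) -/
theorem K5 (h : Conf432 A Q S g) (hN : Nat.card (Nm S) = 432) : 5616 < Nat.card G := by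
  obtain ⟨z, hz, hz1⟩ := h.exists_z
  have hz3 : z ^ 3 = 1 := h.exp z (h.QS hz.1)
  have h1 := relIndex_cent_le hz3 hz1 fun n hn => h.inv_Z hz hz1 hn
  have h2 := card_inf_mul_relIndex (Nm S) (Subgroup.centralizer {z})
  rw [hN] at h2
  have h3 : 216 ≤ Nat.card (Subgroup.centralizer {z} ⊓ Nm S : Subgroup G) := by
    by_contra h4
    push Not at h4
    have h5 : Nat.card (Subgroup.centralizer {z} ⊓ Nm S : Subgroup G) * (Subgroup.centralizer {z}).relIndex (Nm S) ≤
      215 * 2 := Nat.mul_le_mul (by omega) h1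
    omega
  have h4 : 216 ≤ Nat.card (Subgroup.centralizer {z}) := h3.trans (Subgroup.card_le_of_le inf_le_left)
  have h5 := (Subgroup.centralizer {z}).card_mul_index
  have h6 : 26 < (Subgroup.centralizer {z}).index := by
    by_contra h7
    push Not at h7
    rw [← ncard_class] at h7
    have hsub : (S : Set G) \ {1} ⊆ {y : G | ∃ x, x * z * x⁻¹ = y} := by
      rintro s ⟨hs, hs1⟩
      have ho : orderOf s = 3 := by
        rcases (Nat.dvd_prime Nat.prime_three).1 (orderOf_dvd_of_pow_eq_one (h.exp s hs)) with h1 | h1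
        · exact absurd (orderOf_eq_one_iff.1 h1) hs1
        · exact h1
      exact isConj_iff.1 (h.isConj_of_order hN hz hz1 ho)
    have hc : ((S : Set G) \ {1}).ncard = 26 := by
      rw [Set.ncard_sdiff_singleton_of_mem S.one_mem]
      have : (S : Set G).ncard = 27 := by
        rw [← h.cardS]
        rfl
      rw [this]
    have heq := Set.eq_of_subset_of_ncard_le hsub (by rw [hc]; exact h7) (Set.toFinite _)
    have hn : S.Normal := by
      constructor
      intro s hs x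
      by_cases hs1 : s = 1
      · rw [hs1, mul_one, mul_inv_cancel]
        exact S.one_mem
      · have h8 : s ∈ {y : G | ∃ x, x * z * x⁻¹ = y} := by
          rw [← heq]
          exact ⟨hs, hs1⟩
        obtain ⟨y, rfl⟩ := h8
        have h9 : x * (y * z * y⁻¹) * x⁻¹ ∈ {y : G | ∃ x, x * z * x⁻¹ = y} := ⟨x * y, by group⟩
        rw [← heq] at h9
        exact h9.1
    rcases h.simple.eq_bot_or_eq_top_of_normal S hn with h8 | h8
    · have := h.cardS
      rw [h8, Subgroup.card_bot] at this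
      omega
    · have h9 := h.SA
      rw [h8, top_le_iff] at h9
      exact h.max.1 h9
  rw [← h5]
  calc 5616 < 216 * 27 := by norm_num
    _ ≤ Nat.card (Subgroup.centralizer {z}) * (Subgroup.centralizer {z}).index := Nat.mul_le_mul h4 h6

/-- (K-cyc) -/
theorem Kcyc (h : Conf432 A Q S g) (hN : Nat.card (Nm S) = 216) {P : Subgroup G} {x : G} (hP : Nat.card P = 27)
    (hx : x ∈ Subgroup.normalizer (P : Set G)) (h8 : orderOf x = 8) : False := by
  have : Fact (Nat.Prime 2) := ⟨Nat.prime_two⟩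
  obtain ⟨y, hy⟩ := h.conj_eq hP
  set x' := y * x * y⁻¹ with hx'
  have hxN : x' ∈ Nm S := by
    rw [← hy, ← cj_Nm]
    exact conj_mem_cj.2 hx
  have ho : orderOf x' = 8 := by rw [hx', orderOf_conj', h8]
  have hzN : Subgroup.zpowers x' ≤ Nm S := by rwa [Subgroup.zpowers_le]
  have hc8 : Nat.card (Subgroup.zpowers x') = 8 := by rw [Nat.card_zpowers, ho]
  have hi : ¬ 2 ∣ (Subgroup.zpowers x').relIndex (Nm S) := by
    have h1 := card_mul_relIndex hzN
    rw [hc8, hN] at h1
    omega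
  obtain ⟨D, hDN, hDA, hD4, hD2⟩ := h.four
  have hDp : IsPGroup 2 D := IsPGroup.of_card (n := 2) (by rw [hD4]; norm_num)
  have hzp : IsPGroup 2 (Subgroup.zpowers x') := IsPGroup.of_card (n := 3) (by rw [hc8]; norm_num)
  obtain ⟨c, hc, hcD⟩ := exists_conj_le_of_sylow hzN hDN hzp hDp hi
  have h1 : ((cj c D : Subgroup G) : Set G) ⊆ {1, x' ^ 4} := by
    intro d hd
    have hd' := hcD hd
    rw [Subgroup.mem_zpowers_iff] at hd'
    obtain ⟨k, rfl⟩ := hd'
    have hd2 := hD2 _ (mem_cj.1 hd)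
    have h2 : x' ^ k * x' ^ k = 1 := by
      have e : x' ^ k * x' ^ k = c * (c⁻¹ * x' ^ k * c * (c⁻¹ * x' ^ k * c)) * c⁻¹ := by group
      rw [e, hd2]
      group
    rw [← zpow_add] at h2
    have h3 : (8 : ℤ) ∣ k + k := by
      rw [← orderOf_dvd_iff_zpow_eq_one, ho] at h2
      exact_mod_cast h2
    obtain ⟨m, hm⟩ : ∃ m, k = 4 * m := ⟨k / 4, by omega⟩
    have h4 : x' ^ (8 : ℤ) = 1 := by
      have := pow_orderOf_eq_one x'
      rw [ho] at this
      exact_mod_cast this
    rcases Int.even_or_odd' m with ⟨n, hn | hn⟩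
    · left
      rw [hm, hn]
      have e : (4 : ℤ) * (2 * n) = 8 * n := by ring
      rw [e, zpow_mul, h4, one_zpow]
    · right
      rw [hm, hn]
      have e : (4 : ℤ) * (2 * n + 1) = 8 * n + 4 := by ring
      rw [e, zpow_add, zpow_mul, h4, one_zpow, one_mul, Set.mem_singleton_iff]
      exact_mod_cast rfl
  have h2 : ((cj c D : Subgroup G) : Set G).ncard = 4 := by
    rw [← hD4, ← card_cj c D]
    rfl
  have h3 := Set.ncard_le_ncard h1 (Set.toFinite _)
  have h4 := Set.ncard_insert_le (1 : G) {x' ^ 4}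
  rw [Set.ncard_singleton] at h4
  omega

theorem Q_le_Nm (h : Conf432 A Q S g) : A ≤ Nm Q := by
  have := h.norm
  rw [Nm, this]

theorem orbit_two (h : Conf432 A Q S g) (hN : Nat.card (Nm S) = 216) {n : G} (hn : n ∈ Nm S) :
    cj n Q = Q ∨ cj n Q = cj g Q := by
  have h1 := h.orb_card
  rw [hN] at h1
  have h2 : (orb S Q).ncard = 2 := by omega
  have hsub : ({Q, cj g Q} : Set (Subgroup G)) ⊆ orb S Q := by
    rintro X (rfl | rfl)
    · exact ⟨1, Subgroup.one_mem _, cj_one _⟩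
    · exact ⟨g, h.gS, rfl⟩
  have hne : Q ≠ cj g Q := fun h0 => h.gQ h0.symm
  have heq := Set.eq_of_subset_of_ncard_le hsub (by rw [h2, Set.ncard_pair hne]) (Set.toFinite _)
  have h3 : cj n Q ∈ orb S Q := ⟨n, hn, rfl⟩
  rw [← heq] at h3
  exact h3

/-- the diagonal action of the fours group -/
theorem exists_d (h : Conf432 A Q S g) (hN : Nat.card (Nm S) = 216) {q q' : G} (hq : q ∈ Q)
    (hqZ : q ∉ Q ⊓ cj g Q) (hq' : q' ∈ cj g Q) (hqZ' : q' ∉ Q ⊓ cj g Q) :
    ∃ d ∈ Nm S, d ∈ Nm Q ∧ d ∈ Nm (cj g Q) ∧ d * q * d⁻¹ * q ∈ Q ⊓ cj g Q ∧ d * q' * d⁻¹ * q'⁻¹ ∈ Q ⊓ cj g Q := by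
  have hL := h.lines
  set Q' := cj g Q with hQ'
  set Z := Q ⊓ Q' with hZ
  obtain ⟨D, hDN, hDA, hD4, hD2⟩ := h.four
  have hDQ : D ≤ Nm Q := hDA.trans h.Q_le_Nm
  have hDQ' : D ≤ Nm Q' := by
    rw [le_Nm']
    intro d hd
    have h1 := h.orbit_two hN (Subgroup.mul_mem _ (hDN hd) h.gS)
    rw [cj_mul] at h1
    rcases h1 with h1 | h1
    · exfalso
      have h2 : cj d Q = Q := cj_of_mem_Nm (hDQ hd)
      have h3 : cj d Q = cj d (cj g Q) := by rw [h1, h2]
      rw [cj_inj] at h3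
      exact h.gQ h3.symm
    · exact h1
  have hDZ : D ≤ Nm Z := inf_le_Nm hDQ hDQ'
  have hZc : ∀ z ∈ Z, ∀ s ∈ S, z * s = s * z := fun z hz s hs => hL.cent hz hs
  have hqS := h.QS hq
  have hqS' := hL.le' hq'
  -- the intersection of the two kernels is trivial
  have hker : ∀ d ∈ D, d * q * d⁻¹ * q⁻¹ ∈ Z → d * q' * d⁻¹ * q'⁻¹ ∈ Z → d = 1 := by
    intro d hd h1 h2
    set z1 := d * q * d⁻¹ * q⁻¹ with hz1
    set z2 := d * q' * d⁻¹ * q'⁻¹ with hz2
    set c0 := q * q' * q⁻¹ * q'⁻¹ with hc0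
    have hc0Z : c0 ∈ Z := hL.comm_mem hqS hqS'
    have hQgen : Z ⊔ Subgroup.zpowers q = Q := by
      refine eq_of_prime_relIndex Nat.prime_three le_sup_left (sup_le hL.zle ?_) hL.idx ?_
      · rwa [Subgroup.zpowers_le]
      · exact fun h0 => hqZ (h0 (Subgroup.mem_sup_right (Subgroup.mem_zpowers _)))
    have hQgen' : Z ⊔ Subgroup.zpowers q' = Q' := by
      refine eq_of_prime_relIndex Nat.prime_three le_sup_left (sup_le hL.zle' ?_) hL.symm.idx ?_
      · rwa [Subgroup.zpowers_le]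
      · exact fun h0 => hqZ' (h0 (Subgroup.mem_sup_right (Subgroup.mem_zpowers _)))
    have hc01 : c0 ≠ 1 := by
      intro h0
      apply hqZ
      rw [hZ, h.mem_Z_iff]
      refine ⟨hqS, ?_⟩
      have hqq : q * q' = q' * q := by
        rw [hc0, mul_inv_eq_one, mul_inv_eq_iff_eq_mul] at h0
        exact h0
      have h3 : S ≤ Subgroup.centralizer {q} := by
        rw [← hL.sup, ← hQgen']
        refine sup_le ?_ (sup_le ?_ ?_)
        · intro y hy
          rw [Subgroup.mem_centralizer_singleton_iff]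
          exact h.comm y hy q hq
        · intro y hy
          rw [Subgroup.mem_centralizer_singleton_iff]
          exact hZc y hy q hqS
        · rw [Subgroup.zpowers_le, Subgroup.mem_centralizer_singleton_iff]
          exact hqq.symm
      intro s hs
      exact Subgroup.mem_centralizer_singleton_iff.1 (h3 hs)
    have hdc : d * c0 * d⁻¹ = c0 := by
      have e : d * c0 * d⁻¹ = (z1 * q) * (z2 * q') * (z1 * q)⁻¹ * (z2 * q')⁻¹ := by
        rw [hc0, hz1, hz2]
        group
      have a1 : z1 * q = q * z1 := hZc z1 h1 q hqS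
      have a2 : z1 * (z2 * q') = (z2 * q') * z1 := hZc z1 h1 _ (S.mul_mem (hL.le (hL.zle h2)) hqS')
      have a3 : z2 * q = q * z2 := hZc z2 h2 q hqS
      have a4 : z2 * (q * q' * q⁻¹) = (q * q' * q⁻¹) * z2 :=
        hZc z2 h2 _ (S.mul_mem (S.mul_mem hqS hqS') (S.inv_mem hqS))
      rw [e, hc0]
      calc (z1 * q) * (z2 * q') * (z1 * q)⁻¹ * (z2 * q')⁻¹
          = q * (z1 * (z2 * q')) * (z1⁻¹ * q⁻¹) * (z2 * q')⁻¹ := by
            have : (z1 * q)⁻¹ = z1⁻¹ * q⁻¹ := by rw [a1, mul_inv_rev]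
            rw [this, a1]
            group
        _ = (q * z2) * q' * q⁻¹ * (z2 * q')⁻¹ := by
            rw [a2]
            group
        _ = (z2 * (q * q' * q⁻¹)) * (z2 * q')⁻¹ := by
            rw [← a3]
            group
        _ = q * q' * q⁻¹ * q'⁻¹ := by
            have a5 : z2 * q' = q' * z2 := hZc z2 h2 q' hqS'
            have : (z2 * q')⁻¹ = z2⁻¹ * q'⁻¹ := by rw [a5, mul_inv_rev]
            rw [this, a4]
            group
    have hdZ : ∀ z ∈ Z, d * z * d⁻¹ = z := by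
      intro z hz
      rw [← eq_of_card_three hL.cz hc0Z hc01, Subgroup.mem_zpowers_iff] at hz
      obtain ⟨k, rfl⟩ := hz
      rw [← conj_zpow, hdc]
    have hsq := hD2 d hd
    have hz1' : z1 = 1 := by
      have e1 : d * z1 * d⁻¹ = z1 := hdZ z1 h1
      have e2 : d * q * d⁻¹ = z1 * q := by
        rw [hz1]
        group
      have e3 : (d * d) * q * (d * d)⁻¹ = z1 * z1 * q := by
        calc (d * d) * q * (d * d)⁻¹ = d * (d * q * d⁻¹) * d⁻¹ := by group
          _ = d * (z1 * q) * d⁻¹ := by rw [e2]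
          _ = (d * z1 * d⁻¹) * (d * q * d⁻¹) := by group
          _ = z1 * z1 * q := by rw [e1, e2]; group
      rw [hsq] at e3
      have e4 : z1 * z1 = 1 := by
        have : z1 * z1 * q = q := by rw [← e3]; group
        exact mul_eq_right.1 this
      have h4 : z1 ^ 3 = 1 := h.exp z1 (hL.le (hL.zle h1))
      have h5 := sq_mem (Y := ⊥) h4 (by rw [Subgroup.mem_bot]; exact e4)
      exact Subgroup.mem_bot.1 h5
    have hdq : q * d = d * q := by
      have : d * q * d⁻¹ * q⁻¹ = 1 := hz1'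
      rw [mul_inv_eq_one, mul_inv_eq_iff_eq_mul] at this
      exact this.symm
    have hdQ : d ∈ Q := by
      refine h.mem_of_cent ?_
      have h3 : Q ≤ Subgroup.centralizer {d} := by
        rw [← hQgen]
        refine sup_le ?_ ?_
        · intro y hy
          rw [Subgroup.mem_centralizer_singleton_iff, eq_comm, ← mul_inv_eq_iff_eq_mul]
          exact hdZ y hy
        · rw [Subgroup.zpowers_le, Subgroup.mem_centralizer_singleton_iff]
          exact hdq
      intro s hs
      exact Subgroup.mem_centralizer_singleton_iff.1 (h3 hs)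
    have h5 := sq_mem (Y := ⊥) (h.exp d (h.QS hdQ)) (by rw [Subgroup.mem_bot]; exact hsq)
    exact Subgroup.mem_bot.1 h5
  -- signs
  have hs1 : ∀ d ∈ D, d * q * d⁻¹ * q⁻¹ ∈ Z ∨ d * q * d⁻¹ * q ∈ Z := by
    intro d hd
    rcases hL.eq.tri hL.zle hL.idx hq hqZ (Nm_conj (hDQ hd) hq) with h1 | h1 | h1
    · exact absurd ((Nm_conj_iff (hDZ hd)).1 h1) hqZ
    · exact Or.inl h1
    · exact Or.inr h1
  have hs2 : ∀ d ∈ D, d * q' * d⁻¹ * q'⁻¹ ∈ Z ∨ d * q' * d⁻¹ * q' ∈ Z := by
    intro d hd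
    rcases hL.eq'.tri hL.zle' hL.symm.idx hq' hqZ' (Nm_conj (hDQ' hd) hq') with h1 | h1 | h1
    · exact absurd ((Nm_conj_iff (hDZ hd)).1 h1) hqZ'
    · exact Or.inl h1
    · exact Or.inr h1
  -- an element of D acting trivially on Q'/Z
  have hex : ∃ d ∈ D, d ≠ 1 ∧ d * q' * d⁻¹ * q'⁻¹ ∈ Z := by
    obtain ⟨d1, d2, h1, h2, h3⟩ : ∃ d1 d2 : D, d1 ≠ 1 ∧ d2 ≠ 1 ∧ d1 ≠ d2 := by
      have : Fintype D := Fintype.ofFinite D
      have hc : 2 < Fintype.card D := by
        rw [← Nat.card_eq_fintype_card, hD4]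
        norm_num
      obtain ⟨a, b, c, hab, hac, hbc⟩ := Fintype.two_lt_card_iff.1 hc
      by_cases ha : a = 1
      · refine ⟨b, c, ?_, ?_, hbc⟩
        · rintro rfl
          exact hab ha
        · rintro rfl
          exact hac ha
      · by_cases hb : b = 1
        · refine ⟨a, c, ha, ?_, hac⟩
          rintro rfl
          exact hbc hb
        · exact ⟨a, b, ha, hb, hab⟩
    by_contra hcon
    push Not at hcon
    have k1 := (hs2 d1 d1.2).resolve_left (hcon d1 d1.2 (fun h0 => h1 (Subtype.ext h0)))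
    have k2 := (hs2 d2 d2.2).resolve_left (hcon d2 d2.2 (fun h0 => h2 (Subtype.ext h0)))
    have k3 : (d1 : G) * d2 ≠ 1 := by
      intro h0
      apply h3
      have h4 := hD2 d2 d2.2
      ext1
      have : (d1 : G) * d2 = (d2 : G) * d2 := by rw [h0, h4]
      exact mul_right_cancel this
    apply hcon (d1 * d2) (D.mul_mem d1.2 d2.2) k3
    have k4 := Nm_conj (hDZ d1.2) k2
    have e : (d1 : G) * d2 * q' * ((d1 : G) * d2)⁻¹ * q'⁻¹ =
        (d1 * (d2 * q' * (d2 : G)⁻¹ * q') * (d1 : G)⁻¹) * ((q' * (d1 * q' * (d1 : G)⁻¹ * q') * q'⁻¹)⁻¹) := by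
      group
    rw [e]
    refine Z.mul_mem k4 (Z.inv_mem ?_)
    rw [← hZc _ k1 q' hqS', mul_inv_cancel_right]
    exact k1
  obtain ⟨d, hd, hd1, hd2⟩ := hex
  refine ⟨d, hDN hd, hDQ hd, hDQ' hd, ?_, hd2⟩
  exact (hs1 d hd).resolve_left fun h0 => hd1 (hker d hd h0 hd2)

/-- (K9) -/
theorem K9 (h : Conf432 A Q S g) (hN : Nat.card (Nm S) = 216) {x t : G} {E : Subgroup G} (hx : orderOf x = 3)
    (hx27 : ¬ 27 ∣ Nat.card (Subgroup.centralizer {x})) (hE : Nat.card E = 9) (ht1 : t ≠ 1) (ht3 : ¬ 3 ∣ orderOf t)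
    (ht : t ∈ Subgroup.centralizer (E : Set G)) (hconj : ∀ x ∈ E, ∀ y ∈ E, x ≠ 1 → y ≠ 1 → IsConj x y) : False := by
  obtain ⟨z, hz, hz1⟩ := h.exists_z
  have hL := h.lines
  -- conjugate E into S
  have hp : IsPGroup 3 E := IsPGroup.of_card (n := 2) (by rw [hE]; norm_num)
  obtain ⟨y, hy⟩ := h.conj_le hp
  have h9 : Nat.card (cj y E) = 9 := by rw [card_cj, hE]
  have hZE := h.Z_le_of_nine h9 hy
  have hEz : ∀ e ∈ cj y E, e ≠ 1 → IsConj z e := by
    intro e he he1
    have hz' := hZE hz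
    rw [mem_cj] at he hz'
    have h1 : y⁻¹ * z * y ≠ 1 := by
      intro h0
      apply hz1
      have e : z = y * (y⁻¹ * z * y) * y⁻¹ := by group
      rw [e, h0]
      group
    have h2 : y⁻¹ * e * y ≠ 1 := by
      intro h0
      apply he1
      have e' : e = y * (y⁻¹ * e * y) * y⁻¹ := by group
      rw [e', h0]
      group
    have h3 := hconj _ hz' _ he h1 h2
    refine IsConj.trans (b := y⁻¹ * z * y) ?_ (h3.trans ?_)
    · rw [isConj_iff]
      exact ⟨y⁻¹, by group⟩
    · rw [isConj_iff]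
      exact ⟨y, by group⟩
  have hEQ : ∀ n, cj y E ≠ cj n Q := by
    intro n h0
    have h1 := h.cent_cj n
    rw [← h0, ← cj_centralizer, cj_inj] at h1
    rw [h1] at ht
    have h4 : t ^ 9 = 1 := by
      have : (⟨t, ht⟩ : E) ^ 9 = 1 := by
        rw [← hE]
        exact pow_card_eq_one'
      exact congrArg Subtype.val this
    have h5 := orderOf_dvd_of_pow_eq_one h4
    have h6 : orderOf t ∣ 3 ^ 2 := h5
    obtain ⟨k, hk, hk'⟩ := (Nat.dvd_prime_pow Nat.prime_three).1 h6
    rcases Nat.eq_zero_or_pos k with rfl | hk0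
    · rw [pow_zero, orderOf_eq_one_iff] at hk'
      exact ht1 hk'
    · apply ht3
      rw [hk']
      exact dvd_pow_self _ hk0.ne'
  -- conjugate x into S
  have hpx : IsPGroup 3 (Subgroup.zpowers x) := IsPGroup.of_card (n := 1) (by rw [Nat.card_zpowers, hx]; norm_num)
  obtain ⟨w, hw⟩ := h.conj_le hpx
  set x' := w * x * w⁻¹ with hx'
  have hxS : x' ∈ S := hw (conj_mem_cj.2 (Subgroup.mem_zpowers x))
  have hx1 : x' ≠ 1 := by
    intro h0
    rw [← orderOf_conj' w x, ← hx', h0, orderOf_one] at hx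
    omega
  have hxz : ¬ IsConj z x' := by
    intro h0
    apply hx27
    have h1 : IsConj z x := by
      refine h0.trans ?_
      rw [isConj_iff]
      exact ⟨w⁻¹, by rw [hx']; group⟩
    rw [← card_cent_of_isConj h1, ← h.cardS]
    exact Subgroup.card_dvd_of_le (h.S_le_cent hz)
  have hxZ : x' ∉ Q ⊓ cj g Q := by
    intro h0
    apply hxz
    refine h.isConj_of_cj hz hz1 (n := 1) ?_ hx1
    rw [cj_one]
    exact h0.1
  obtain ⟨h2, h3⟩ := h.line_card hxS hxZ
  set X := (Q ⊓ cj g Q) ⊔ Subgroup.zpowers x' with hX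
  have hxX : x' ∈ X := Subgroup.mem_sup_right (Subgroup.mem_zpowers _)
  have hXQ : ∀ n, X ≠ cj n Q := by
    intro n h0
    exact hxz (h.isConj_of_cj hz hz1 (n := n) (h0 ▸ hxX) hx1)
  obtain ⟨q, q', hq, hqZ, hq', hqZ'⟩ := h.exists_qq
  set P := (Q ⊓ cj g Q) ⊔ Subgroup.zpowers (q * q') with hP
  set M := (Q ⊓ cj g Q) ⊔ Subgroup.zpowers (q * q'⁻¹) with hM
  obtain ⟨d, hdS, hdQ, hdQ', hd1, hd2⟩ := h.exists_d hN hq hqZ hq' hqZ'
  have hqS := h.QS hq
  have hqS' := hL.le' hq'
  have hdZ : d ∈ Nm (Q ⊓ cj g Q) := (inf_le_Nm (A := Subgroup.zpowers d) (by rwa [Subgroup.zpowers_le])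
    (by rwa [Subgroup.zpowers_le])) (Subgroup.mem_zpowers d)
  have cases' : ∀ X : Subgroup G, Q ⊓ cj g Q ≤ X → X ≤ S → Nat.card X = 9 → (∀ n, X ≠ cj n Q) → X = P ∨ X = M := by
    intro X k1 k2 k3 k4
    rcases hL.cases hq hqZ hq' hqZ' k1 k2 k3 with k5 | k5 | k5 | k5
    · exact absurd k5 (by have := k4 1; rwa [cj_one] at this)
    · exact absurd k5 (k4 g)
    · exact Or.inl k5
    · exact Or.inr k5
  -- d maps P to M
  have hdP : cj d P ≤ M := by
    have e0 : cj d P = (Q ⊓ cj g Q) ⊔ Subgroup.zpowers (d * (q * q') * d⁻¹) := by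
      rw [hP, cj_sup, cj_of_mem_Nm hdZ]
      congr 1
      rw [cj_eq_map, MonoidHom.map_zpowers]
      rfl
    rw [e0]
    refine sup_le le_sup_left ?_
    rw [Subgroup.zpowers_le]
    have e1 : d * (q * q') * d⁻¹ * (q * q'⁻¹) ∈ Q ⊓ cj g Q := by
      have e1 : d * (q * q') * d⁻¹ * (q * q'⁻¹) = (d * q * d⁻¹ * q) * ((q⁻¹ * (d * q' * d⁻¹ * q'⁻¹) * q) *
        (q⁻¹ * q' * q⁻¹⁻¹ * q'⁻¹)) := by group
      rw [e1]
      refine Subgroup.mul_mem _ hd1 (Subgroup.mul_mem _ ?_ (hL.comm_mem (Subgroup.inv_mem _ hqS) hqS'))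
      rw [mul_assoc, hL.cent hd2 hqS, inv_mul_cancel_left]
      exact hd2
    have e3 : d * (q * q') * d⁻¹ = (d * (q * q') * d⁻¹ * (q * q'⁻¹)) * (q * q'⁻¹)⁻¹ := by group
    rw [e3]
    exact Subgroup.mul_mem _ (Subgroup.mem_sup_left e1)
      (Subgroup.inv_mem _ (Subgroup.mem_sup_right (Subgroup.mem_zpowers _)))
  have hdS' : ∀ Y : Subgroup G, Y ≤ S → cj d Y ≤ S := by
    intro Y hY
    rw [← cj_of_mem_Nm hdS, cj_le_cj]
    exact hY
  have hdE : cj d (cj y E) = P ∨ cj d (cj y E) = M := by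
    refine cases' _ ?_ (hdS' _ hy) (by rw [card_cj, h9]) ?_
    · rw [← cj_of_mem_Nm hdZ, cj_le_cj]
      exact hZE
    · intro n h0
      rw [cj_eq_iff, ← cj_mul] at h0
      exact hEQ _ h0
  have hE' := cases' (cj y E) hZE hy h9 hEQ
  have hX' := cases' X le_sup_left h3 h2 hXQ
  have hXE : X ≠ cj y E := by
    intro h0
    exact hxz (hEz x' (h0 ▸ hxX) hx1)
  -- so cj d (cj y E) = X
  have hfin : cj d (cj y E) = X := by
    rcases hE' with h4 | h4
    · have h5 : X = M := by
        rcases hX' with h5 | h5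
        · exact absurd (h5.trans h4.symm) hXE
        · exact h5
      rw [h5, h4]
      refine Subgroup.eq_of_le_of_card_ge hdP ?_
      rw [card_cj, ← h4, h9, ← h5, h2]
    · have h5 : X = P := by
        rcases hX' with h5 | h5
        · exact h5
        · exact absurd (h5.trans h4.symm) hXE
      have h6 : cj d P = M := by
        refine Subgroup.eq_of_le_of_card_ge hdP ?_
        rw [card_cj, ← h4, h9, ← h5, h2]
      rcases hdE with h7 | h7
      · rw [h7, h5]
      · exfalso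
        have h8 : cj d (cj y E) = cj d P := by rw [h7, h6]
        exact hXE (by rw [h5, (cj_inj).1 h8])
  apply hxz
  rw [← hfin, mem_cj] at hxX
  have h8 : d⁻¹ * x' * d ≠ 1 := by
    intro h0
    apply hx1
    have e : x' = d * (d⁻¹ * x' * d) * d⁻¹ := by group
    rw [e, h0]
    group
  refine (hEz _ hxX h8).trans ?_
  rw [isConj_iff]
  exact ⟨d, by group⟩

end Conf432

end

end Cfsg.Agent.H399
end

-- part: H345/EOneCl
section
/-!
# The configuration of order 11664: classical groups in characteristic different from 3 (helper345)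
-/

set_option autoImplicit false

namespace Cfsg.Agent.H345.EOne

open Cfsg Subgroup
open Cfsg.Agent.H128.AbelianClassical Cfsg.Agent.H128.ClassicalAb Cfsg.Agent.H128.Cross3 Cfsg.Agent.H128.Val3
open Cfsg.Agent.H341.ThreeList

universe u

theorem Hy.le {G : Type*} [Group G] [Finite G] (h : Hy G) {N : ℕ} (hN : HasAb 3 G N) : 6 ≤ N := by
  have : Fact (Nat.Prime 3) := ⟨Nat.prime_three⟩
  obtain ⟨B, hB, hc, hd⟩ := hN
  have h1 := h.hab B hB hc
  obtain ⟨b, hb⟩ := IsPGroup.iff_card.1 hB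
  rw [hb] at h1
  have h2 : b ≤ 4 := (Nat.pow_le_pow_iff_right (by norm_num : 1 < 3)).1 (by simpa using h1)
  obtain ⟨S⟩ : Nonempty (Sylow 3 G) := inferInstance
  have h3 : 3 ^ 6 ∣ Nat.card S := S.pow_dvd_card_of_pow_dvd_card h.h6
  have h4 := h3.trans (hd S)
  rw [hb, show 6 = b + (6 - b) by omega, pow_add] at h4
  have h5 := Nat.dvd_of_mul_dvd_mul_left (by positivity) h4
  have h6 : 3 ^ 2 ∣ N.factorial := (pow_dvd_pow 3 (by omega)).trans h5
  by_contra hcon
  have h7 : 3 ^ 2 ∣ Nat.factorial 5 := h6.trans (Nat.factorial_dvd_factorial (by omega))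
  revert h7
  decide

theorem vf_le {n m : ℕ} (h : n ≤ m) : vf n ≤ vf m := by
  induction h with
  | refl => exact le_rfl
  | step _ ih => rw [vf_succ]; omega

theorem vf_six : 2 ≤ vf 6 := by
  unfold vf
  rw [← Nat.prime_three.pow_dvd_iff_le_factorization (Nat.factorial_ne_zero 6)]
  decide

theorem Hy.not_pow {G : Type*} [Group G] (h : Hy G) {k : ℕ} (hk : 3 ^ k ∣ Nat.card G) : k ≤ 6 := by
  by_contra hcon
  exact h.h7 ((pow_dvd_pow 3 (by omega)).trans hk)

variable {F : Type} [Field F] [Fintype F]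

theorem psl_six {n : ℕ} (hn : 2 ≤ n) (hq : ¬ 3 ∣ Fintype.card F)
    (h : Hy (Matrix.ProjectiveSpecialLinearGroup (Fin n) F)) : n = 6 ∧ Fintype.card F % 3 = 1 := by
  have : Fact (Nat.Prime 3) := ⟨Nat.prime_three⟩
  have hfin : Finite (Matrix.SpecialLinearGroup (Fin n) F) := finite_sl n
  have hq12 : Fintype.card F % 3 = 1 ∨ Fintype.card F % 3 = 2 := by omega
  rcases hq12 with hq12 | hq12
  · refine ⟨?_, hq12⟩
    have hN := h.le (hasAb_psl (three_ne_zero' hq) n)
    have h1 := h.not_pow (psl_val_one hn hq12)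
    have h2 := vf_le hN
    have h3 := vf_six
    omega
  · exfalso
    have hN := h.le (hasAb_psl_half (by norm_num) (three_ne_zero' hq) (by omega) n)
    have h1 := h.not_pow (psl_val_two hn hq12)
    have h2 := vf_le hN
    have h3 := vf_six
    omega

theorem psu_six {n q : ℕ} (hF : Fintype.card F = q ^ 2) (hn : 2 ≤ n) (hq : ¬ 3 ∣ q)
    (h : Hy (PSU n F q)) : n = 6 ∧ q % 3 = 2 := by
  have : Fact (Nat.Prime 3) := ⟨Nat.prime_three⟩
  have hfin : Finite (Matrix.SpecialLinearGroup (Fin n) F) := finite_sl n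
  have hF3 : ¬ 3 ∣ Fintype.card F := by
    rw [hF]
    exact fun h => hq (Nat.prime_three.dvd_of_dvd_pow h)
  have hq12 : q % 3 = 1 ∨ q % 3 = 2 := by omega
  rcases hq12 with hq12 | hq12
  · exfalso
    have hN := h.le (hasAb_psu_half (by norm_num) (three_ne_zero' hF3) hF (by omega) n)
    have h1 := h.not_pow (psu_val_one hF hn hq12)
    have h2 := vf_le hN
    have h3 := vf_six
    omega
  · refine ⟨?_, hq12⟩
    have hN := h.le (hasAb_psu (three_ne_zero' hF3) n q)
    have h1 := h.not_pow (psu_val_two hF hn hq12)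
    have h2 := vf_le hN
    have h3 := vf_six
    omega

theorem psp_false {m : ℕ} (hm : 1 ≤ m) (hq : ¬ 3 ∣ Fintype.card F) (h : Hy (PSp m F)) : False := by
  have : Fact (Nat.Prime 3) := ⟨Nat.prime_three⟩
  have hfin : Finite (Matrix.symplecticGroup (Fin m) F) :=
    Finite.of_injective (fun x => (x : Matrix (Fin m ⊕ Fin m) (Fin m ⊕ Fin m) F)) Subtype.val_injective
  have hN := h.le (hasAb_psp (by norm_num) (three_ne_zero' hq) m)
  have h1 := h.not_pow (psp_val hm hq)
  have h2 := vf_le hN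
  have h3 := vf_six
  omega

theorem oodd_false {m : ℕ} (hm : 3 ≤ m) (ho : Odd (Fintype.card F)) (hq : ¬ 3 ∣ Fintype.card F)
    (h : Hy (POmega F (quadFormOdd m F))) : False := by
  have : Fact (Nat.Prime 3) := ⟨Nat.prime_three⟩
  have hfin := finite_pomega (quadFormOdd m F)
  have hN := h.le (hasAb_oodd (by norm_num) (three_ne_zero' hq) ho m)
  have h1 := h.not_pow (oodd_val hm ho hq)
  have h2 := vf_le hN
  have h3 := vf_six
  omega

theorem oplus_false {m : ℕ} (hm : 4 ≤ m) (hq : ¬ 3 ∣ Fintype.card F)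
    (h : Hy (POmega F (quadFormPlus m F))) : False := by
  have : Fact (Nat.Prime 3) := ⟨Nat.prime_three⟩
  have hfin := finite_pomega (quadFormPlus m F)
  have hN := h.le (hasAb_oplus (by norm_num) (three_ne_zero' hq) m)
  rcases Nat.lt_or_ge m 7 with h7 | h7
  · obtain rfl : m = 6 := by omega
    have h8 : 3 ^ 7 ∣ Nat.card (POmega F (quadFormPlus 6 F)) := by
      have hc := S0293.result (F := F) rfl 6 hm
      rw [mul_assoc] at hc
      refine of_mul' not_dvd_gcd_four hc (Dvd.dvd.mul_left ?_ _)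
      have h1 : 3 ^ (5 + vf 5) ∣ ∏ i ∈ Finset.range 5, (Fintype.card F ^ (2 * (i + 1)) - 1) := prod_b' hq 5
      have h2 : 1 ≤ vf 5 := by
        unfold vf
        rw [← Nat.prime_three.pow_dvd_iff_le_factorization (Nat.factorial_ne_zero 5)]
        decide
      have h3 : 9 ∣ Fintype.card F ^ 6 - 1 := nine_six hq
      calc 3 ^ 7 ∣ 9 * 3 ^ 6 := by norm_num
        _ ∣ _ := mul_dvd_mul h3 ((pow_dvd_pow 3 (by omega)).trans h1)
    exact h.h7 h8
  · have h1 := h.not_pow (oplus_val hm hq)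
    have h2 := vf_le (show 6 ≤ m - 1 by omega)
    have h3 := vf_six
    omega

theorem ominus_six {m : ℕ} (hm : 4 ≤ m) {a b : F}
    (hab : ∀ z₁ z₂ : F, z₁ ^ 2 + a * z₁ * z₂ + b * z₂ ^ 2 = 0 → z₁ = 0 ∧ z₂ = 0) (hq : ¬ 3 ∣ Fintype.card F)
    (h : Hy (POmega F (quadFormMinus (m - 1) F a b))) : m = 6 := by
  have : Fact (Nat.Prime 3) := ⟨Nat.prime_three⟩
  have hfin := finite_pomega (quadFormMinus (m - 1) F a b)
  have hN := h.le (hasAb_ominus (by norm_num) (three_ne_zero' hq) (m - 1) a b hab)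
  by_contra h6
  have h1 := h.not_pow (ominus_val hm hab hq)
  have h2 := vf_le (show 6 ≤ m - 1 by omega)
  have h3 := vf_six
  omega

end Cfsg.Agent.H345.EOne
end
end

-- part: H399/ETwoCore_mg
section
prune_inst 0x1000000000000000000000000000000000000000000000000000000000000000000000000001000000000000000020000000000000000000000000000400000000000000000000000000000000000000000000000000000000000000000000000000000
set_option linter.all false
open scoped Cfsg.Agent.FastGrp

-- part: H399/Transport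
section
/-!
# Transport of the configuration `Conf432`
-/

set_option autoImplicit false

open Pointwise

namespace Cfsg.Agent.H399

section

variable {G K : Type*} [Group G] [Group K]

theorem map_eq_iff (e : G ≃* K) {X Y : Subgroup G} : X.map e.toMonoidHom = Y.map e.toMonoidHom ↔ X = Y :=
  (Subgroup.map_injective e.injective).eq_iff

theorem map_centralizer' (e : G ≃* K) (X : Subgroup G) :
    Subgroup.centralizer ((X.map e.toMonoidHom : Subgroup K) : Set K) =
      (Subgroup.centralizer (X : Set G)).map e.toMonoidHom := by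
  ext y
  rw [Subgroup.mem_map_equiv, Subgroup.mem_centralizer_iff, Subgroup.mem_centralizer_iff]
  constructor
  · intro h x hx
    have h1 := h (e x) ⟨x, hx, rfl⟩
    apply e.injective
    rw [map_mul, map_mul, MulEquiv.apply_symm_apply]
    exact h1
  · rintro h _ ⟨x, hx, rfl⟩
    have h1 := congrArg e (h x hx)
    rw [map_mul, map_mul, MulEquiv.apply_symm_apply] at h1
    exact h1

theorem map_conj (e : G ≃* K) (g : G) (X : Subgroup G) :
    MulAut.conj (e g) • X.map e.toMonoidHom = (MulAut.conj g • X).map e.toMonoidHom := by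
  ext y
  rw [Subgroup.mem_map_equiv, Subgroup.mem_pointwise_smul_iff_inv_smul_mem, Subgroup.mem_map_equiv,
    Subgroup.mem_pointwise_smul_iff_inv_smul_mem, MulAut.smul_def, MulAut.smul_def,
    MulAut.conj_inv_apply, MulAut.conj_inv_apply, map_mul, map_mul, map_inv, MulEquiv.symm_apply_apply]

theorem map_normalizer' (e : G ≃* K) (X : Subgroup G) :
    Subgroup.normalizer ((X.map e.toMonoidHom : Subgroup K) : Set K) =
      (Subgroup.normalizer (X : Set G)).map e.toMonoidHom := by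
  ext y
  rw [Subgroup.mem_map_equiv, Subgroup.mem_normalizer_iff, Subgroup.mem_normalizer_iff]
  constructor
  · intro h x
    have h1 := h (e x)
    rw [Subgroup.mem_map_equiv, Subgroup.mem_map_equiv, MulEquiv.symm_apply_apply, map_mul, map_mul,
      MulEquiv.symm_apply_apply, map_inv] at h1
    exact h1
  · intro h x
    have h1 := h (e.symm x)
    rw [Subgroup.mem_map_equiv, Subgroup.mem_map_equiv, map_mul, map_mul, map_inv]
    exact h1

theorem card_map' (e : G ≃* K) (X : Subgroup G) : Nat.card (X.map e.toMonoidHom : Subgroup K) = Nat.card X :=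
  (Nat.card_congr (e.subgroupMap X).toEquiv).symm

theorem Conf432.map (e : G ≃* K) {A Q S : Subgroup G} {g : G} (h : Conf432 A Q S g) :
    Conf432 (A.map e.toMonoidHom) (Q.map e.toMonoidHom) (S.map e.toMonoidHom) (e g) where
  simple := by
    have := h.simple
    exact e.symm.isSimpleGroup
  max := (OrderIso.isCoatom_iff (MulEquiv.mapSubgroup e) A).2 h.max
  cardA := by rw [card_map', h.cardA]
  cardQ := by rw [card_map', h.cardQ]
  comm := by
    rintro _ ⟨x, hx, rfl⟩ _ ⟨y, hy, rfl⟩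
    rw [← map_mul, ← map_mul, h.comm x hx y hy]
  cent := by rw [map_centralizer', h.cent]
  norm := by rw [map_normalizer', h.norm]
  trans := by
    rintro _ ⟨x, hx, rfl⟩ _ ⟨y, hy, rfl⟩ hx1 hy1
    obtain ⟨a, ha, hxy⟩ := h.trans x hx y hy (fun h0 => hx1 (by rw [h0, map_one]))
      (fun h0 => hy1 (by rw [h0, map_one]))
    refine ⟨e a, ⟨a, ha, rfl⟩, ?_⟩
    rw [← hxy]
    simp only [_root_.MulEquiv.toMonoidHom_eq_coe, _root_.MonoidHom.coe_coe, _root_.map_mul, _root_.map_inv]
  QS := Subgroup.map_mono h.QS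
  SA := Subgroup.map_mono h.SA
  cardS := by rw [card_map', h.cardS]
  exp := by
    rintro _ ⟨x, hx, rfl⟩
    rw [← map_pow, h.exp x hx, map_one]
  sylow := by
    rw [← Nat.card_congr e.toEquiv]
    exact h.sylow
  gS := by
    rw [map_normalizer']
    exact ⟨g, h.gS, rfl⟩
  gQ := by
    rw [map_conj, Ne, map_eq_iff]
    exact h.gQ
  idx := by
    rw [map_conj, Subgroup.relIndex_map_map_of_injective _ _ e.injective]
    exact h.idx
  cardN := by
    rw [map_normalizer', card_map']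
    exact h.cardN
  four := by
    obtain ⟨D, hD1, hD2, hD3, hD4⟩ := h.four
    refine ⟨D.map e.toMonoidHom, ?_, Subgroup.map_mono hD2, by rw [card_map', hD3], ?_⟩
    · rw [map_normalizer']
      exact Subgroup.map_mono hD1
    · rintro _ ⟨x, hx, rfl⟩
      rw [← map_mul, hD4 x hx, map_one]

end

end Cfsg.Agent.H399
end

-- part: H496/CommSyl
section
/-!
# Groups with commutative `r`-subgroups (helper496)

`CommSyl r G` : every `r`-subgroup of `G` is commutative. Transfer along surjections, along injections with index prime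
to `r`; subgroups of `GL_n(q)`, `n < r * ord_r(q)`; `PSL_2(q)`, `PSU_3(q)` with `r ∣ q - 1`, `r ≠ 2`.
-/

set_option autoImplicit false

namespace Cfsg.Agent.H496

open Cfsg Matrix Cfsg.Agent.H322.Cent

universe u v w

/-- every `r`-subgroup is commutative -/
def CommSyl (r : ℕ) (G : Type u) [Group G] : Prop :=
  ∀ P : Subgroup G, IsPGroup r P → ∀ x ∈ P, ∀ y ∈ P, x * y = y * x

variable {r : ℕ} [hr : Fact r.Prime] {G : Type u} [Group G] [Finite G] {H : Type v} [Group H] [Finite H]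

theorem CommSyl.of_sylow (Q : Sylow r G) (hQ : ∀ x ∈ Q, ∀ y ∈ Q, x * y = y * x) : CommSyl r G := by
  intro P hP x hx y hy
  obtain ⟨R, hR⟩ := hP.exists_le_sylow
  obtain ⟨g, hg⟩ := MulAction.exists_smul_eq G R Q
  have key : ∀ z ∈ P, g * z * g⁻¹ ∈ Q := by
    intro z hz
    rw [← hg]
    exact Subgroup.smul_mem_pointwise_smul z (MulAut.conj g) (R : Subgroup G) (hR hz)
  have h1 := hQ _ (key x hx) _ (key y hy)
  have h2 : g * (x * y) * g⁻¹ = g * (y * x) * g⁻¹ := by
    calc g * (x * y) * g⁻¹ = g * x * g⁻¹ * (g * y * g⁻¹) := by group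
      _ = g * y * g⁻¹ * (g * x * g⁻¹) := h1
      _ = g * (y * x) * g⁻¹ := by group
  exact mul_left_cancel (mul_right_cancel h2)

theorem CommSyl.of_surj (φ : H →* G) (hφ : Function.Surjective φ) (h : CommSyl r H) : CommSyl r G := by
  obtain ⟨Q⟩ : Nonempty (Sylow r H) := inferInstance
  refine CommSyl.of_sylow (Q.mapSurjective hφ) ?_
  intro x hx y hy
  have hx1 : x ∈ ((Q.mapSurjective hφ : Sylow r G) : Subgroup G) := hx
  have hy1 : y ∈ ((Q.mapSurjective hφ : Sylow r G) : Subgroup G) := hy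
  rw [Sylow.coe_mapSurjective] at hx1 hy1
  obtain ⟨a, ha, rfl⟩ := hx1
  obtain ⟨b, hb, rfl⟩ := hy1
  rw [← map_mul, ← map_mul, h Q Q.isPGroup' a ha b hb]

theorem CommSyl.congr (e : H ≃* G) (h : CommSyl r H) : CommSyl r G :=
  h.of_surj e.toMonoidHom e.surjective

/-- an injective homomorphism to a group with the same `r`-part of the order -/
theorem CommSyl.of_inj (f : H →* G) (hf : Function.Injective f)
    (hc : (Nat.card H).factorization r = (Nat.card G).factorization r) (h : CommSyl r H) : CommSyl r G := by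
  obtain ⟨Q⟩ : Nonempty (Sylow r H) := inferInstance
  have h1 : Nat.card ((Q : Subgroup H).map f) = r ^ (Nat.card G).factorization r := by
    rw [← hc, ← Q.card_eq_multiplicity]
    exact Nat.card_congr ((Q : Subgroup H).equivMapOfInjective f hf).symm.toEquiv
  refine CommSyl.of_sylow (Sylow.ofCard ((Q : Subgroup H).map f) h1) ?_
  intro x hx y hy
  have hx1 : x ∈ (Q : Subgroup H).map f := hx
  have hy1 : y ∈ (Q : Subgroup H).map f := hy
  obtain ⟨a, ha, rfl⟩ := hx1
  obtain ⟨b, hb, rfl⟩ := hy1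
  rw [← map_mul, ← map_mul, h Q Q.isPGroup' a ha b hb]

/-- subgroups of `GL_n(q)` -/
theorem CommSyl.of_GL {F : Type w} [Field F] [Fintype F] {q n : ℕ} (hq : Fintype.card F = q) (hrq : ¬ r ∣ q)
    (hn : n < r * orderOf (q : ZMod r)) (i : H →* Matrix.GeneralLinearGroup (Fin n) F) (hi : Function.Injective i) :
    CommSyl r H := by
  classical
  intro P hP x hx y hy
  have hQ : IsPGroup r (P.map i) := hP.map i
  obtain ⟨S, hS⟩ := hQ.exists_le_sylow
  obtain ⟨e⟩ := H130.GLn.sylow_GL hq hrq n (fun j hj hd h7j => by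
    have h1 := (H130.Homo.coprime_orderOf hrq).mul_dvd_of_dvd_of_dvd h7j hd
    have h2 := Finset.mem_Ioc.1 hj
    have h3 := Nat.le_of_dvd h2.1 h1
    omega) S
  have hx' : i x ∈ S := hS ⟨x, hx, rfl⟩
  have hy' : i y ∈ S := hS ⟨y, hy, rfl⟩
  have h1 : (⟨i x, hx'⟩ : S) * ⟨i y, hy'⟩ = ⟨i y, hy'⟩ * ⟨i x, hx'⟩ := by
    apply e.injective
    rw [map_mul, map_mul, mul_comm]
  have h2 := congrArg Subtype.val h1
  apply hi
  rw [map_mul, map_mul]
  exact h2

/-- `SL_n(q)` -/
theorem CommSyl.SL {F : Type w} [Field F] [Fintype F] {q n : ℕ} (hq : Fintype.card F = q) (hrq : ¬ r ∣ q)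
    (hn : n < r * orderOf (q : ZMod r)) : CommSyl r (_root_.Matrix.SpecialLinearGroup (Fin n) F) := by
  classical
  exact CommSyl.of_GL hq hrq hn (SpecialLinearGroup.toGL : _root_.Matrix.SpecialLinearGroup (Fin n) F →* _)
    SpecialLinearGroup.toGL_injective

/-- `PSL_n(q)` -/
theorem CommSyl.PSL {F : Type w} [Field F] [Fintype F] {q n : ℕ} (hq : Fintype.card F = q) (hrq : ¬ r ∣ q)
    (hn : n < r * orderOf (q : ZMod r)) : CommSyl r (ProjectiveSpecialLinearGroup (Fin n) F) := by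
  classical
  exact (CommSyl.SL hq hrq hn).of_surj (QuotientGroup.mk' _) (QuotientGroup.mk'_surjective _)

/-- unipotent elements of `PSL_2(F)` -/
def unip (F : Type w) [Field F] : Multiplicative F →* ProjectiveSpecialLinearGroup (Fin 2) F :=
  (QuotientGroup.mk' _).comp (MonoidHom.mk' (fun x : Multiplicative F => LieClassical.SLTwoUnipotent.u x.toAdd)
    (fun a b => LieClassical.SLTwoUnipotent.u_add a.toAdd b.toAdd))

theorem unip_injective (F : Type w) [Field F] : Function.Injective (unip F) := by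
  rw [injective_iff_map_eq_one]
  intro a ha
  have h1 : LieClassical.SLTwoUnipotent.u a.toAdd ∈ Subgroup.center (_root_.Matrix.SpecialLinearGroup (Fin 2) F) :=
    (QuotientGroup.eq_one_iff _).1 ha
  obtain ⟨c, hc⟩ := scalar_of_center h1
  have h2 := congrFun (congrFun hc 0) 1
  have h3 : a.toAdd = (0 : F) := by
    rw [diagonal_apply_ne _ (by decide)] at h2
    exact h2
  exact h3

theorem not_dvd_sub_one {q k : ℕ} (hrq : r ∣ q) (hq : 1 ≤ q) (hk : k ≠ 0) : ¬ r ∣ q ^ k - 1 := by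
  intro h
  have h1 : r ∣ q ^ k := dvd_pow hrq hk
  have h2 : 1 ≤ q ^ k := Nat.one_le_pow _ _ hq
  have h3 : r ∣ 1 := by
    have h4 := (Nat.dvd_sub h1 h)
    rwa [Nat.sub_sub_self h2] at h4
  exact hr.out.one_lt.ne' (Nat.dvd_one.1 h3)

/-- **`PSL_2(q)` has commutative `r`-subgroups, `r` odd.** -/
theorem CommSyl.PSLtwo (F : Type w) [Field F] [Fintype F] (hr2 : r ≠ 2) :
    CommSyl r (ProjectiveSpecialLinearGroup (Fin 2) F) := by
  classical
  have hr1 := hr.out.two_le
  by_cases hrq : r ∣ Fintype.card F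
  · refine CommSyl.of_inj (unip F) (unip_injective F) ?_ (fun P _ x _ y _ => mul_comm x y)
    have hq1 : 1 < Fintype.card F := Fintype.one_lt_card
    have h1 := S0243.result (F := F) rfl 2 le_rfl
    rw [Nat.card_congr Multiplicative.toAdd, Nat.card_eq_fintype_card]
    rw [Fin.prod_univ_two] at h1
    simp only [Fin.val_zero, pow_zero, Fin.val_one, pow_one] at h1
    have h2 : Fintype.card F ^ 2 - Fintype.card F = Fintype.card F * (Fintype.card F - 1) := by
      rw [Nat.mul_sub, mul_one, sq]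
    rw [h2] at h1
    have hs2 : ¬ r ∣ Fintype.card F ^ 2 - 1 := not_dvd_sub_one hrq (by omega) (by norm_num)
    have hs1 : ¬ r ∣ Fintype.card F - 1 := by
      have := not_dvd_sub_one hrq (by omega) (k := 1) (by norm_num)
      rwa [pow_one] at this
    have hg : ¬ r ∣ Nat.gcd 2 (Fintype.card F - 1) := fun h => hs1 (h.trans (Nat.gcd_dvd_right _ _))
    have h3 := congrArg (fun n => Nat.factorization n r) h1
    have ng : Nat.gcd 2 (Fintype.card F - 1) ≠ 0 := fun h => hg (h ▸ dvd_zero r)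
    have n1 : Fintype.card F - 1 ≠ 0 := fun h => hs1 (h ▸ dvd_zero r)
    have n2 : Fintype.card F ^ 2 - 1 ≠ 0 := fun h => hs2 (h ▸ dvd_zero r)
    rw [Nat.factorization_mul ng (Nat.mul_ne_zero n1 Nat.card_pos.ne'), Nat.factorization_mul n1 Nat.card_pos.ne',
      Nat.factorization_mul n2 (Nat.mul_ne_zero (by omega) n1), Nat.factorization_mul (by omega) n1,
      Finsupp.add_apply, Finsupp.add_apply, Finsupp.add_apply, Finsupp.add_apply,
      Nat.factorization_eq_zero_of_not_dvd hg, Nat.factorization_eq_zero_of_not_dvd hs1,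
      Nat.factorization_eq_zero_of_not_dvd hs2, zero_add, zero_add, zero_add, add_zero] at h3
    exact h3.symm
  · refine CommSyl.PSL rfl hrq ?_
    have h0 : 0 < orderOf (Fintype.card F : ZMod r) := H130.Homo.orderOf_pos_zmod hrq
    have : 3 ≤ r := by omega
    nlinarith

/-- **`PSU_3(q)` has commutative `r`-subgroups if `r` is odd and divides `q - 1`.** -/
theorem CommSyl.PSUthree {F : Type w} [Field F] [Fintype F] {q : ℕ} (hF : Fintype.card F = q ^ 2) {K : Type w}
    [Field K] [Fintype K] (hK : Fintype.card K = q) (hr2 : r ≠ 2) (hrq : r ∣ q - 1) : CommSyl r (PSU 3 F q) := by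
  classical
  have hr1 := hr.out.two_le
  have hq1 : 1 < q := hK ▸ Fintype.one_lt_card
  have hrq' : ¬ r ∣ q := by
    intro h
    have := not_dvd_sub_one h (by omega) (k := 1) (by norm_num)
    rw [pow_one] at this
    exact this hrq
  have hnd : ∀ k, ¬ r ∣ q ^ k + 1 := by
    intro k h
    have h1 : q ^ k ≡ 1 [MOD r] := by
      have h2 : q ≡ 1 [MOD r] := ((Nat.modEq_iff_dvd' (by omega)).2 hrq).symm
      have := h2.pow k
      rwa [one_pow] at this
    have h2 : q ^ k + 1 ≡ 2 [MOD r] := h1.add_right 1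
    have h3 : r ∣ 2 := (Nat.ModEq.dvd_iff h2 dvd_rfl).1 h
    exact hr2 ((Nat.prime_dvd_prime_iff_eq hr.out Nat.prime_two).1 h3)
  have h2 : CommSyl r (SU 2 F q) := by
    obtain ⟨e⟩ := S0281.result (F := F) (K := K) hF hK
    refine (CommSyl.SL hK hrq' ?_).congr e.symm
    have h0 : 0 < orderOf (q : ZMod r) := H130.Homo.orderOf_pos_zmod hrq'
    have : 3 ≤ r := by omega
    nlinarith only [h0, this]
  have h3 : CommSyl r (SU (2 + 1) F q) := by
    refine CommSyl.of_inj ((bdU (F := F) (k := 2) (l := 1) (q := q)).comp (MonoidHom.inl _ _)) ?_ ?_ h2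
    · intro A B hAB
      have h4 : bdm A.1.1 (1 : SU 1 F q).1.1 = bdm B.1.1 (1 : SU 1 F q).1.1 := congrArg (fun x => x.1.1) hAB
      unfold bdm at h4
      have h5 := (Matrix.reindex (finSumFinEquiv (m := 2) (n := 1)) (finSumFinEquiv (m := 2) (n := 1))).injective h4
      exact Subtype.ext (Subtype.ext (Matrix.fromBlocks_inj.1 h5).1)
    · have h4 := S0278.result hF 2 (by norm_num)
      have h5 := S0278.result hF 3 (by norm_num)
      have h6 := congrArg (fun n => Nat.factorization n r) h4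
      have h7 := congrArg (fun n => Nat.factorization n r) h5
      have nn : q + 1 ≠ 0 := by omega
      have nq : ∀ k, q ^ k ≠ 0 := fun k => pow_ne_zero _ (by omega)
      have n2 : q ^ 2 - 1 ≠ 0 := by
        have := Nat.one_lt_pow (n := 2) (by norm_num) hq1
        omega
      have hqk : ∀ k, (q ^ k).factorization r = 0 := fun k =>
        Nat.factorization_eq_zero_of_not_dvd (fun h => hrq' (hr.out.dvd_of_dvd_pow h))
      have hqk' : ∀ k, (q ^ k + 1).factorization r = 0 := fun k => Nat.factorization_eq_zero_of_not_dvd (hnd k)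
      have e2 : ∏ i ∈ Finset.range 2, (if Even i then q ^ (i + 1) + 1 else q ^ (i + 1) - 1) =
          (q ^ 1 + 1) * (q ^ 2 - 1) := by
        rw [Finset.prod_range_succ, Finset.prod_range_succ, Finset.prod_range_zero, one_mul, if_pos (by decide),
          if_neg (by decide)]
      have e3 : ∏ i ∈ Finset.range 3, (if Even i then q ^ (i + 1) + 1 else q ^ (i + 1) - 1) =
          (q ^ 1 + 1) * (q ^ 2 - 1) * (q ^ 3 + 1) := by
        rw [Finset.prod_range_succ, e2, if_pos (by decide)]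
      rw [e2, Nat.factorization_mul nn Nat.card_pos.ne', Nat.factorization_mul (nq _) (Nat.mul_ne_zero (by omega) n2),
        Nat.factorization_mul (by omega) n2, Finsupp.add_apply, Finsupp.add_apply, Finsupp.add_apply, hqk, hqk'] at h6
      rw [e3, Nat.factorization_mul nn Nat.card_pos.ne', Nat.factorization_mul (nq _)
        (Nat.mul_ne_zero (Nat.mul_ne_zero (by omega) n2) (by omega)),
        Nat.factorization_mul (Nat.mul_ne_zero (by omega) n2) (by omega), Nat.factorization_mul (by omega) n2,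
        Finsupp.add_apply, Finsupp.add_apply, Finsupp.add_apply, Finsupp.add_apply, hqk, hqk', hqk'] at h7
      change _ = (Nat.card (SU 3 F q)).factorization r
      omega
  exact h3.of_surj (QuotientGroup.mk' _) (QuotientGroup.mk'_surjective _)

end Cfsg.Agent.H496
end

-- part: H496/List27
section
/-!
# Known simple groups with nonabelian Sylow `3`-subgroups of order `27` and exponent `3` (helper496)

`list27` : such a group is one of `L_3(3)`, `U_3(3)`, `G_2(q)`, `²F_4(q)`, `²F_4(2)'`, `M_12`, `M_24`, `J_2`, `J_4`,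
`He`, `Ru`. (The exponent is not needed.)
-/

set_option autoImplicit false

namespace Cfsg.Agent.H496

open Cfsg OrdDiv Cfsg.Agent.H341.ThreeList Cfsg.Agent.H344.List81

universe u

/-- The kinds of known simple groups with nonabelian Sylow `3`-subgroups of order 27. -/
inductive Kind27 (S : Type u) [Group S] : Prop
  | psl3 (F : Type) (_ : Field F) (_ : Fintype F) (hq : Fintype.card F = 3)
      (e : Nonempty (S ≃* Matrix.ProjectiveSpecialLinearGroup (Fin 3) F)) : Kind27 S
  | psu3 (F : Type) (_ : Field F) (_ : Fintype F) (hF : Fintype.card F = 3 ^ 2)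
      (e : Nonempty (S ≃* PSU 3 F 3)) : Kind27 S
  | g2 (F : Type) (_ : Field F) (_ : Fintype F) (h3 : 3 ≤ Fintype.card F) (hq : ¬ 3 ∣ Fintype.card F)
      (h9 : ¬ 9 ∣ Fintype.card F ^ 2 - 1) (e : Nonempty (S ≃* ↥(Lie.chevG2.group F))) : Kind27 S
  | tf4 (F : Type) (_ : Field F) (_ : Fintype F) (m : ℕ) (hm : 1 ≤ m) (hF : Fintype.card F = 2 ^ (2 * m + 1))
      (h9 : ¬ 9 ∣ 2 ^ (2 * m + 1) + 1) (e : Nonempty (S ≃* ↥(Lie.twistedF4 F (2 ^ m)))) : Kind27 S
  | tits (h : Lie.IsoTits S) : Kind27 S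
  | m12 (h : Spor.IsoM12 S) : Kind27 S
  | m24 (h : Spor.IsoM24 S) : Kind27 S
  | j2 (h : Spor.IsoJ2 S) : Kind27 S
  | j4 (h : Spor.IsoJ4 S) : Kind27 S
  | he (h : Spor.IsoHe S) : Kind27 S
  | ru (h : Spor.IsoRu S) : Kind27 S

section Arith

variable {q : ℕ}

theorem mod_sub {n m : ℕ} (h1 : 1 ≤ n) (h : n % m = 1) : m ∣ n - 1 := by
  apply Nat.dvd_of_mod_eq_zero
  have h2 : n = m * (n / m) + 1 := by rw [← h, Nat.div_add_mod]
  rw [h2, Nat.add_sub_cancel]
  exact Nat.mul_mod_right _ _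

/-- `9 ∣ q - 1` or `9 ∣ q + 1` -/
theorem sq9 (hq : 1 ≤ q) (h : q % 9 = 1 ∨ q % 9 = 8) : 9 ∣ q ^ 2 - 1 := by
  refine mod_sub (Nat.one_le_pow _ _ hq) ?_
  rcases h with h | h <;> rw [Nat.pow_mod, h]

theorem four9 (hq : 1 ≤ q) (h : 9 ∣ q ^ 2 - 1) : 9 ∣ q ^ 4 - 1 := by
  have := Nat.sub_dvd_pow_sub_pow (q ^ 2) 1 2
  rw [one_pow, ← pow_mul] at this
  exact h.trans this

end Arith

/-- **Known simple groups with nonabelian Sylow `3`-subgroups of order 27.** -/
theorem list27' (T : OrderTable.{u}) {S : Type u} [Group S] [Finite S] (h : IsKnownSimple' S)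
    (h27 : 27 ∣ Nat.card S) (h81 : ¬ 81 ∣ Nat.card S) (hnc : ¬ CommSyl 3 S) : Kind27 S := by
  haveI : Fact (Nat.Prime 3) := ⟨Nat.prime_three⟩
  have h81' : ¬ 3 ^ 4 ∣ Nat.card S := h81
  have hna : ¬ ∀ a b : S, a * b = b * a := fun hc => hnc (fun P _ x _ y _ => hc x y)
  have h243 : ¬ 3 ^ 5 ∣ Nat.card S := fun h5 => h81' ((pow_dvd_pow 3 (by norm_num)).trans h5)
  rcases _root_.Cfsg.Agent.H344.List81.kind_of_known T h hna h27 h243 with ⟨n, h9, h11, ⟨e⟩⟩ | ⟨F, _, _, hq, ⟨e⟩⟩ | ⟨F, _, _, hq, ⟨e⟩⟩ |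
    ⟨F, _, _, hq, ⟨e⟩⟩ | ⟨F, i1, i2, hq, e⟩ | ⟨F, _, _, hq, ⟨e⟩⟩ | ⟨F, _, _, n, hn, hq, ⟨e⟩⟩ |
    ⟨F, _, _, n, hn, hq, ⟨e⟩⟩ | ⟨F, _, _, q, hF, hq, ⟨e⟩⟩ | ⟨F, _, _, q, hF, hq, ⟨e⟩⟩ | ⟨F, i1, i2, hF, e⟩ |
    ⟨F, _, _, q, hF, hq, ⟨e⟩⟩ | ⟨F, _, _, n, q, hn, hF, hq, ⟨e⟩⟩ | ⟨F, _, _, n, q, hn, hF, hq, ⟨e⟩⟩ |
    ⟨F, _, _, hq, ⟨e⟩⟩ | ⟨F, _, _, hq, ⟨e⟩⟩ | ⟨F, _, _, hq, ⟨e⟩⟩ | ⟨F, _, _, hq, ho, ⟨e⟩⟩ |
    ⟨F, _, _, a, b, hq, hab, ⟨e⟩⟩ | ⟨F, i1, i2, h3, hq, h9, e⟩ | ⟨F, _, _, q, hq, hF, h3, ⟨e⟩⟩ |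
    ⟨F, i1, i2, m, hm, hF, h9, e⟩ | h | h | h | h | h | h | h | h
  · -- alternating groups
    exfalso
    refine h81' (dvd_of_mul (d := 2) (by norm_num) (alt_card (by omega) e).symm ?_)
    have : n = 9 ∨ n = 10 ∨ n = 11 := by omega
    rcases this with rfl | rfl | rfl <;> decide
  · -- `L_2(q)`
    exact absurd ((CommSyl.PSLtwo F (by norm_num)).congr e.symm) hnc
  · -- `L_3(q)`, `9 ∣ q - 1`
    exfalso
    rw [Nat.card_congr e.toEquiv] at h81'
    have hc := card_psl (F := F) (n := 3) (by norm_num)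
    have hq1 : 1 < Fintype.card F := Fintype.one_lt_card
    generalize Fintype.card F = q at *
    rw [show 3 - 1 = 2 by rfl, Finset.prod_range_succ, Finset.prod_range_succ, Finset.prod_range_zero, one_mul,
      show Nat.gcd 3 (q - 1) = 3 from Nat.gcd_eq_left ((by norm_num : 3 ∣ 9).trans hq)] at hc
    norm_num only [] at hc
    have hm : q % 9 = 1 := by omega
    have h1 := sq9 (by omega) (Or.inl hm)
    have h2 : 27 ∣ q ^ 3 - 1 := by
      refine mod_sub (Nat.one_le_pow _ _ (by omega)) ?_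
      have : q % 27 = 1 ∨ q % 27 = 10 ∨ q % 27 = 19 := by (clear * - hm; omega)
      rcases this with h | h | h <;> rw [Nat.pow_mod, h]
    have h3 : 3 * 3 ^ 4 ∣ 3 * Nat.card (Matrix.ProjectiveSpecialLinearGroup (Fin 3) F) := by
      rw [hc]
      apply Dvd.dvd.mul_left
      calc 3 * 3 ^ 4 ∣ 9 * 27 := by norm_num
        _ ∣ _ := mul_dvd_mul h1 h2
    exact h81' (Nat.dvd_of_mul_dvd_mul_left (by norm_num) h3)
  · -- `L_3(q)`, `27 ∣ q + 1`
    refine absurd ((CommSyl.PSL (n := 3) (rfl : Fintype.card F = _) (by omega) ?_).congr e.symm) hnc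
    have h3 : ¬ 3 ∣ Fintype.card F := by omega
    have h0 : 0 < orderOf (Fintype.card F : ZMod 3) := H130.Homo.orderOf_pos_zmod h3
    have h1 : orderOf (Fintype.card F : ZMod 3) ≠ 1 := by
      intro h1
      have h2 := (H130.Homo.dvd_pow_sub_one_iff h3 1).2 (by rw [h1])
      rw [pow_one] at h2
      omega
    omega
  · -- `L_3(3)`
    exact .psl3 F i1 i2 hq e
  · -- `L_4(q)`
    exfalso
    rw [Nat.card_congr e.toEquiv] at h81'
    have hc := card_psl (F := F) (n := 4) (by norm_num)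
    have hq1 : 1 < Fintype.card F := Fintype.one_lt_card
    generalize Fintype.card F = q at *
    have hq3 : ¬ 3 ∣ q := by omega
    refine h81' (dvd_of_mul not_dvd_gcd_four hc (Dvd.dvd.mul_left ?_ _))
    rw [show 4 - 1 = 3 by rfl, Finset.prod_range_succ, Finset.prod_range_succ, Finset.prod_range_succ,
      Finset.prod_range_zero, one_mul]
    calc 3 ^ 4 ∣ 3 * 9 * 3 := by norm_num
      _ ∣ _ := mul_dvd_mul (mul_dvd_mul (three_sq hq3) (nine_cube hq)) (three_four hq3)
  · -- `L_4(q)`, `L_5(q)`, `9 ∣ q + 1`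
    exfalso
    rw [Nat.card_congr e.toEquiv] at h81'
    have hc := card_psl (F := F) (n := n) (by omega)
    have hq1 : 1 < Fintype.card F := Fintype.one_lt_card
    generalize Fintype.card F = q at *
    have hg : ¬ 3 ∣ Nat.gcd n (q - 1) := fun h' => by
      have := h'.trans (Nat.gcd_dvd_right _ _)
      omega
    refine h81' (dvd_of_mul hg hc (Dvd.dvd.mul_left (dvd_trans ?_ (Finset.prod_dvd_prod_of_subset _ _ _
      (Finset.range_subset_range.2 (show 3 ≤ n - 1 by omega)))) _))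
    have h1 := sq9 (q := q) (by omega) (Or.inr (by omega))
    have h2 := four9 (by omega) h1
    rw [Finset.prod_range_succ, Finset.prod_range_succ, Finset.prod_range_succ, Finset.prod_range_zero, one_mul]
    calc 3 ^ 4 ∣ 9 * 1 * 9 := by norm_num
      _ ∣ _ := mul_dvd_mul (mul_dvd_mul h1 (one_dvd _)) h2
  · -- `L_6(q)`, `L_7(q)`
    exfalso
    rw [Nat.card_congr e.toEquiv] at h81'
    have hc := card_psl (F := F) (n := n) (by omega)
    have hq1 : 1 < Fintype.card F := Fintype.one_lt_card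
    generalize Fintype.card F = q at *
    have hg : ¬ 3 ∣ Nat.gcd n (q - 1) := fun h' => by
      have := h'.trans (Nat.gcd_dvd_right _ _)
      omega
    have hq3 : ¬ 3 ∣ q := by omega
    refine h81' (dvd_of_mul hg hc (Dvd.dvd.mul_left (dvd_trans ?_ (Finset.prod_dvd_prod_of_subset _ _ _
      (Finset.range_subset_range.2 (show 5 ≤ n - 1 by omega)))) _))
    rw [Finset.prod_range_succ, Finset.prod_range_succ, Finset.prod_range_succ, Finset.prod_range_succ,
      Finset.prod_range_succ, Finset.prod_range_zero, one_mul]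
    calc 3 ^ 4 ∣ 3 * 1 * 3 * 1 * 9 := by norm_num
      _ ∣ _ := mul_dvd_mul (mul_dvd_mul (mul_dvd_mul (mul_dvd_mul (three_sq hq3) (one_dvd _)) (three_four hq3))
        (one_dvd _)) (nine_six hq3)
  · -- `U_3(q)`, `9 ∣ q + 1`
    exfalso
    rw [Nat.card_congr e.toEquiv] at h81'
    have hc := card_psu (F := F) hF (n := 3) (by norm_num)
    rw [show 3 - 1 = 2 by rfl, Finset.prod_range_succ, Finset.prod_range_succ, Finset.prod_range_zero, one_mul,
      show Nat.gcd 3 (q + 1) = 3 from Nat.gcd_eq_left ((by norm_num : 3 ∣ 9).trans hq),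
      if_pos (by decide), if_neg (by decide)] at hc
    norm_num only [] at hc
    have hq1 : 1 ≤ q := by
      rcases Nat.eq_zero_or_pos q with h0 | h0
      · rw [h0] at hq; norm_num at hq
      · exact h0
    have hm : q % 9 = 8 := by omega
    have h1 := sq9 hq1 (Or.inr hm)
    have h2 : 27 ∣ q ^ 3 + 1 := by
      have : q % 27 = 8 ∨ q % 27 = 17 ∨ q % 27 = 26 := by (clear * - hm; omega)
      apply Nat.dvd_of_mod_eq_zero
      rw [Nat.add_mod, Nat.pow_mod]
      rcases this with h | h | h <;> rw [h]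
    have h3 : 3 * 3 ^ 4 ∣ 3 * Nat.card (PSU 3 F q) := by
      rw [hc]
      apply Dvd.dvd.mul_left
      calc 3 * 3 ^ 4 ∣ 9 * 27 := by norm_num
        _ ∣ _ := mul_dvd_mul h1 h2
    exact h81' (Nat.dvd_of_mul_dvd_mul_left (by norm_num) h3)
  · -- `U_3(q)`, `27 ∣ q - 1`
    have hq2 : IsPrimePow (q ^ 2) := hF ▸ Fintype.isPrimePow_card_of_field
    have hqp : IsPrimePow q := (isPrimePow_pow_iff (by norm_num)).1 hq2
    obtain ⟨p, k, hp, hk, hpk⟩ := (isPrimePow_nat_iff q).1 hqp
    haveI : Fact p.Prime := ⟨hp⟩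
    let _ : Fintype (GaloisField p k) := Fintype.ofFinite _
    have hK : Fintype.card (GaloisField p k) = q := by
      rw [← Nat.card_eq_fintype_card, GaloisField.card p k (by omega), hpk]
    exact absurd ((CommSyl.PSUthree hF hK (by norm_num) ((by norm_num : 3 ∣ 27).trans hq)).congr e.symm) hnc
  · exact .psu3 F i1 i2 hF e
  · -- `U_4(q)`, `q ≡ 2 mod 3`
    exfalso
    rw [Nat.card_congr e.toEquiv] at h81'
    have hc := card_psu (F := F) hF (n := 4) (by norm_num)
    have hq3 : ¬ 3 ∣ q := by omega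
    refine h81' (dvd_of_mul not_dvd_gcd_four hc (Dvd.dvd.mul_left ?_ _))
    rw [show 4 - 1 = 3 by rfl, Finset.prod_range_succ, Finset.prod_range_succ, Finset.prod_range_succ,
      Finset.prod_range_zero, one_mul, if_pos (by decide), if_neg (by decide), if_pos (by decide)]
    calc 3 ^ 4 ∣ 3 * 9 * 3 := by norm_num
      _ ∣ _ := mul_dvd_mul (mul_dvd_mul (three_sq hq3) (nine_cube' hq)) (three_four hq3)
  · -- `U_4(q)`, `U_5(q)`, `9 ∣ q - 1`
    exfalso
    rw [Nat.card_congr e.toEquiv] at h81'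
    have hc := card_psu (F := F) hF (n := n) (by omega)
    have hF1 : 1 < Fintype.card F := Fintype.one_lt_card
    have hq1 : 1 ≤ q := by
      rcases Nat.eq_zero_or_pos q with h0 | h0
      · rw [hF, h0] at hF1; norm_num at hF1
      · exact h0
    have hg : ¬ 3 ∣ Nat.gcd n (q + 1) := fun h' => by
      have := h'.trans (Nat.gcd_dvd_right _ _)
      omega
    refine h81' (dvd_of_mul hg hc (Dvd.dvd.mul_left (dvd_trans ?_ (Finset.prod_dvd_prod_of_subset _ _ _
      (Finset.range_subset_range.2 (show 3 ≤ n - 1 by omega)))) _))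
    have h1 := sq9 (q := q) (by omega) (Or.inl (by omega))
    have h2 := four9 (by omega) h1
    rw [Finset.prod_range_succ, Finset.prod_range_succ, Finset.prod_range_succ, Finset.prod_range_zero, one_mul,
      if_pos (by decide), if_neg (by decide), if_pos (by decide)]
    calc 3 ^ 4 ∣ 9 * 1 * 9 := by norm_num
      _ ∣ _ := mul_dvd_mul (mul_dvd_mul h1 (one_dvd _)) h2
  · -- `U_6(q)`, `U_7(q)`
    exfalso
    rw [Nat.card_congr e.toEquiv] at h81'
    have hc := card_psu (F := F) hF (n := n) (by omega)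
    have hg : ¬ 3 ∣ Nat.gcd n (q + 1) := fun h' => by
      have := h'.trans (Nat.gcd_dvd_right _ _)
      omega
    have hq3 : ¬ 3 ∣ q := by omega
    refine h81' (dvd_of_mul hg hc (Dvd.dvd.mul_left (dvd_trans ?_ (Finset.prod_dvd_prod_of_subset _ _ _
      (Finset.range_subset_range.2 (show 5 ≤ n - 1 by omega)))) _))
    rw [Finset.prod_range_succ, Finset.prod_range_succ, Finset.prod_range_succ, Finset.prod_range_succ,
      Finset.prod_range_succ, Finset.prod_range_zero, one_mul, if_pos (by decide), if_neg (by decide),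
      if_pos (by decide), if_neg (by decide), if_pos (by decide)]
    calc 3 ^ 4 ∣ 3 * 1 * 3 * 1 * 9 := by norm_num
      _ ∣ _ := mul_dvd_mul (mul_dvd_mul (mul_dvd_mul (mul_dvd_mul (three_sq hq3) (one_dvd _)) (three_four hq3))
        (one_dvd _)) (nine_six hq3)
  · -- `Sp_4(3)`
    exfalso
    rw [Nat.card_congr e.toEquiv] at h81'
    have hc := card_psp (F := F) (m := 2) (by norm_num)
    rw [hq] at hc
    exact h81' (dvd_of_mul not_dvd_gcd_two hc (Dvd.dvd.mul_right (by norm_num) _))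
  · -- `Sp_4(q)`
    exfalso
    rw [Nat.card_congr e.toEquiv] at h81'
    have hc := card_psp (F := F) (m := 2) (by norm_num)
    have hq1 : 1 < Fintype.card F := Fintype.one_lt_card
    refine h81' (dvd_of_mul not_dvd_gcd_two hc (Dvd.dvd.mul_left ?_ _))
    rw [Finset.prod_range_succ, Finset.prod_range_succ, Finset.prod_range_zero, one_mul]
    calc 3 ^ 4 ∣ 9 * 9 := by norm_num
      _ ∣ _ := mul_dvd_mul hq (four9 (by omega) hq)
  · -- `Sp_6(q)`
    exfalso
    rw [Nat.card_congr e.toEquiv] at h81'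
    have hc := card_psp (F := F) (m := 3) (by norm_num)
    exact h81' (dvd_of_mul not_dvd_gcd_two hc (Dvd.dvd.mul_left (prod3 hq le_rfl) _))
  · -- `Ω_7(q)`
    exfalso
    rw [Nat.card_congr e.toEquiv] at h81'
    exact h81' (dvd_of_mul (by norm_num) (S0292.result (F := F) rfl ho 3 le_rfl) (Dvd.dvd.mul_left (prod3 hq le_rfl) _))
  · -- `Ω⁻_8(q)`
    exfalso
    rw [Nat.card_congr e.toEquiv] at h81'
    exact h81' (dvd_of_mul not_dvd_gcd_four (S0294.result (F := F) rfl 4 le_rfl a b hab)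
      (Dvd.dvd.mul_left (prod3 hq le_rfl) _))
  · exact .g2 F i1 i2 h3 hq h9 e
  · -- `³D_4(q)`
    exfalso
    rw [Nat.card_congr e.toEquiv, T.td4 F q hq hF] at h81'
    apply h81'
    have h8 : 3 ∣ q ^ 8 + q ^ 4 + 1 := by
      have h2 : q % 3 = 1 ∨ q % 3 = 2 := by omega
      apply Nat.dvd_of_mod_eq_zero
      rw [Nat.add_mod, Nat.add_mod (q ^ 8), Nat.pow_mod, Nat.pow_mod q 4]
      rcases h2 with h2 | h2 <;> rw [h2]
    calc 3 ^ 4 ∣ 1 * 3 * 9 * 3 := by norm_num
      _ ∣ _ := mul_dvd_mul (mul_dvd_mul (mul_dvd_mul (one_dvd _) (three_sq h3)) (nine_six h3)) h8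
  · exact .tf4 F i1 i2 m hm hF h9 e
  · exact .tits h
  · exact .m12 h
  · exact .m24 h
  · exact .j2 h
  · exact .j4 h
  · exact .he h
  · exact .ru h
  · -- O'Nan
    exfalso
    apply h81'
    rw [T.spor S (.on, 460815505920) (by decide) h]
    norm_num

/-- **Known simple groups with nonabelian Sylow `3`-subgroups of order 27 and exponent 3.** -/
theorem list27 (T : Cfsg.Agent.OrdDiv.OrderTable.{u}) {S : Type u} [Group S] [Finite S] (h : IsKnownSimple' S)
    (h27 : 27 ∣ Nat.card S) (h81 : ¬ 81 ∣ Nat.card S) (P : Subgroup S) (hP : Nat.card P = 27)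
    (_hexp : ∀ x ∈ P, x ^ 3 = 1) (hnc : ¬ ∀ x ∈ P, ∀ y ∈ P, x * y = y * x) : Kind27 S :=
  list27' T h h27 h81 fun hc => hnc (hc P (IsPGroup.of_card (n := 3) (by rw [hP]; norm_num)))

end Cfsg.Agent.H496
end

-- part: H399/ETwoCore
section
/-!
# The configuration `3²:GL₂(3)` does not occur in a known simple group: the assembly
-/

set_option autoImplicit false

open Pointwise

namespace Cfsg.Agent.H399

open Cfsg Cfsg.Agent.OrdDiv Cfsg.Agent.H496

universe u

/-- The facts on the individual groups. -/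
structure ETwoFacts : Prop where
  psu3 : ∀ {F : Type} [Field F] [Fintype F], Fintype.card F = 9 →
    ∃ (P : Subgroup (PSU 3 F 3)) (h : PSU 3 F 3), Nat.card P = 27 ∧
      h ∈ Subgroup.normalizer (P : Set (PSU 3 F 3)) ∧ orderOf h = 8
  cardpsu3 : ∀ {F : Type} [Field F] [Fintype F], Fintype.card F = 9 → Nat.card (PSU 3 F 3) = 6048
  g2 : ∀ {F : Type} [Field F] [Fintype F], ¬ 3 ∣ Fintype.card F → 3 ≤ Fintype.card F →
    ¬ 9 ∣ Fintype.card F ^ 2 - 1 →
    (∃ x : ↥(Lie.chevG2.group F), x ≠ 1 ∧ ¬ 3 ∣ orderOf x ∧ 9 ∣ Nat.card (Subgroup.centralizer {x})) ∨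
      (∃ (φ : MulAut ↥(Lie.chevG2.group F)) (P : Subgroup ↥(Lie.chevG2.group F)), Nat.card P = 27 ∧
        (∀ x ∈ P, φ x = x) ∧ φ ≠ 1 ∧ ¬ 3 ∣ orderOf φ)
  tf4 : ∀ {F : Type} [Field F] [Fintype F] (m : ℕ), 1 ≤ m → Fintype.card F = 2 ^ (2 * m + 1) →
    ¬ 9 ∣ 2 ^ (2 * m + 1) + 1 →
    (∃ (φ : MulAut ↥(Lie.twistedF4 F (2 ^ m))) (P : Subgroup ↥(Lie.twistedF4 F (2 ^ m))), Nat.card P = 27 ∧
        (∀ x ∈ P, φ x = x) ∧ φ ≠ 1 ∧ ¬ 3 ∣ orderOf φ)
  tits : ∀ {A Q S : Subgroup Lie.TitsGroup} {g : Lie.TitsGroup}, Conf432 A Q S g → False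
  m12 : ∃ x : Spor.M12, orderOf x = 3 ∧ ¬ 27 ∣ Nat.card (Subgroup.centralizer {x})
  m24 : ∀ {A Q S : Subgroup ↥Cfsg.M24} {g : ↥Cfsg.M24}, Conf432 A Q S g → False
  j2 : ∃ (P : Subgroup Cfsg.Spor.J2) (h : Cfsg.Spor.J2), Nat.card P = 27 ∧
    h ∈ Subgroup.normalizer (P : Set Cfsg.Spor.J2) ∧ orderOf h = 8
  j4 : ∃ t : Spor.J4, t ≠ 1 ∧ ¬ 3 ∣ orderOf t ∧ 27 ∣ Nat.card (Subgroup.centralizer {t})
  he : (∃ x : Spor.He, orderOf x = 3 ∧ ¬ 27 ∣ Nat.card (Subgroup.centralizer {x})) ∧
    ∃ (E : Subgroup Spor.He) (t : Spor.He), Nat.card E = 9 ∧ t ≠ 1 ∧ ¬ 3 ∣ orderOf t ∧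
      t ∈ Subgroup.centralizer (E : Set Spor.He) ∧ ∀ x ∈ E, ∀ y ∈ E, x ≠ 1 → y ≠ 1 → IsConj x y
  ru : ∀ {A Q S : Subgroup Spor.Ru} {g : Spor.Ru}, Conf432 A Q S g → False

theorem mod_g2 {q : ℕ} (h3 : ¬ 3 ∣ q) (hq : 3 ≤ q) (h9 : ¬ 9 ∣ q ^ 2 - 1) :
    q ^ 6 * (q ^ 2 - 1) * (q ^ 6 - 1) / 27 % 3 = 1 := by
  have h1 : 1 ≤ q ^ 2 := Nat.one_le_pow _ _ (by omega)
  have h2 : 3 ∣ q ^ 2 - 1 := by
    apply Nat.dvd_of_mod_eq_zero
    have h4 : q ^ 2 % 3 = 1 := by
      have : q % 3 = 1 ∨ q % 3 = 2 := by omega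
      rcases this with h | h <;> rw [Nat.pow_mod, h]
    omega
  obtain ⟨k, hk⟩ := h2
  have hk3 : ¬ 3 ∣ k := by
    rintro ⟨j, rfl⟩
    apply h9
    rw [hk]
    exact ⟨j, by ring⟩
  have e2 : q ^ 2 = 3 * k + 1 := by omega
  have e6 : q ^ 6 = (3 * k + 1) ^ 3 := by rw [← e2, ← pow_mul]
  have e61 : q ^ 6 - 1 = 9 * k * (3 * k ^ 2 + 3 * k + 1) := by
    rw [e6]
    have : (3 * k + 1) ^ 3 = 9 * k * (3 * k ^ 2 + 3 * k + 1) + 1 := by ring
    omega
  rw [e61, hk, e6]
  have e : (3 * k + 1) ^ 3 * (3 * k) * (9 * k * (3 * k ^ 2 + 3 * k + 1)) =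
      27 * ((3 * k + 1) ^ 3 * k ^ 2 * (3 * k ^ 2 + 3 * k + 1)) := by ring
  rw [e, Nat.mul_div_cancel_left _ (by norm_num)]
  have hk' : k % 3 = 1 ∨ k % 3 = 2 := by omega
  have e1 : (3 * k + 1) % 3 = 1 := by omega
  have e3 : (3 * k ^ 2 + 3 * k + 1) % 3 = 1 := by (clear * -; omega)
  rw [Nat.mul_mod, Nat.mul_mod ((3 * k + 1) ^ 3), e3, Nat.pow_mod (3 * k + 1), e1]
  rcases hk' with h | h <;> rw [Nat.pow_mod k, h]

variable {G : Type u} [Group G] [Finite G] {A Q S : Subgroup G} {g : G}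

theorem tits_aux {K : Type} [Group K] (hX : ∀ {A Q S : Subgroup K} {g : K}, Conf432 A Q S g → False)
    (h : Conf432 A Q S g) (e : G ≃* K) : False := hX (h.map e)

theorem e2_core (T : OrderTable.{u}) (X : ETwoFacts) (hK : IsKnownSimple' G) (h : Conf432 A Q S g) : False := by
  have h27 : 27 ∣ Nat.card G := by
    rw [← h.cardS]
    exact Subgroup.card_subgroup_dvd_card S
  have key : ∀ n : ℕ, Nat.card G = n → Nat.card G / 27 % 3 = n / 27 % 3 := fun n hn => by rw [hn]
  rcases list27 T hK h27 h.sylow S h.cardS h.exp h.S_not_comm with ⟨F, _, _, hq, ⟨e⟩⟩ | ⟨F, _, _, hF, ⟨e⟩⟩ |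
    ⟨F, _, _, h3, hq, h9, ⟨e⟩⟩ | ⟨F, _, _, m, hm, hF, h9, ⟨e⟩⟩ | ⟨⟨e⟩⟩ | ⟨⟨e⟩⟩ | ⟨⟨e⟩⟩ | ⟨⟨e⟩⟩ | ⟨⟨e⟩⟩ | ⟨⟨e⟩⟩ | ⟨⟨e⟩⟩
  · -- `L_3(3)`
    have hc : Nat.card G = 5616 := by
      have h1 := Cfsg.Agent.H341.ThreeList.card_psl (F := F) (n := 3) (by norm_num)
      rw [hq, ← Nat.card_congr e.toEquiv] at h1
      norm_num [Finset.prod_range_succ] at h1
      exact h1
    have h1 := h.K5 (h.N_of_one (by rw [key _ hc]))
    omega
  · -- `U_3(3)`
    have hc := X.cardpsu3 (by rw [hF]; norm_num)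
    rw [← Nat.card_congr e.toEquiv] at hc
    obtain ⟨P, x, hP, hx, h8⟩ := X.psu3 (by rw [hF]; norm_num)
    have hN := h.N_of_two (by rw [key _ hc])
    have h' := h.map e
    have : Finite (PSU 3 F 3) := Finite.of_equiv _ e.toEquiv
    exact h'.Kcyc (by rw [Nm, map_normalizer', card_map']; exact hN) hP hx h8
  · -- `G_2(q)`
    have hc := T.g2 F
    rw [← Nat.card_congr e.toEquiv] at hc
    have hN := h.N_of_one (by rw [key _ hc]; exact mod_g2 hq h3 h9)
    have h' := h.map e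
    have : Finite ↥(Lie.chevG2.group F) := Finite.of_equiv _ e.toEquiv
    rcases X.g2 hq h3 h9 with ⟨x, hx, hx3, hx9⟩ | ⟨φ, P, hP, hfix, hφ, hφ3⟩
    · exact h'.K4b (by rw [Nm, map_normalizer', card_map']; exact hN) hx hx3 hx9
    · exact h'.Kaut hP hfix hφ hφ3
  · -- `²F_4(q)`
    have h' := h.map e
    have : Finite ↥(Lie.twistedF4 F (2 ^ m)) := Finite.of_equiv _ e.toEquiv
    obtain ⟨φ, P, hP, hfix, hφ, hφ3⟩ := X.tf4 m hm hF h9
    exact h'.Kaut hP hfix hφ hφ3
  · exact tits_aux (fun h' => X.tits h') h e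
  · -- `M_12`
    have hc : Nat.card G = 95040 := T.spor G (.m12, 95040) (by simp only [spor, List.mem_cons, true_or, or_true]) ⟨e⟩
    have hN := h.N_of_one (by rw [key _ hc])
    obtain ⟨x, hx, hx27⟩ := X.m12
    have h' := h.map e
    have : Finite Spor.M12 := Finite.of_equiv _ e.toEquiv
    exact hx27 (h'.K4a (by rw [Nm, map_normalizer', card_map']; exact hN) hx)
  · exact X.m24 (h.map e)
  · -- `J_2`
    have hc : Nat.card G = 604800 := T.spor G (.j2, 604800) (by simp only [spor, _root_.List.mem_cons, _root_.Prod.mk.injEq, _root_.reduceCtorEq, _root_.Nat.reduceEqDiff, _root_.and_self, _root_.List.not_mem_nil, _root_.or_self, _root_.or_false, _root_.or_true]) ⟨e⟩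
    have hN := h.N_of_two (by rw [key _ hc])
    obtain ⟨P, x, hP, hx, h8⟩ := X.j2
    have h' := h.map e
    have : Finite Spor.J2 := Finite.of_equiv _ e.toEquiv
    exact h'.Kcyc (by rw [Nm, map_normalizer', card_map']; exact hN) hP hx h8
  · -- `J_4`
    obtain ⟨t, ht, ht3, ht27⟩ := X.j4
    have h' := h.map e
    have : Finite Spor.J4 := Finite.of_equiv _ e.toEquiv
    exact h'.K1 ht ht3 ht27
  · -- `He`
    have hc : Nat.card G = 4030387200 := T.spor G (.he, 4030387200) (by simp only [spor, _root_.List.mem_cons, _root_.Prod.mk.injEq, _root_.reduceCtorEq, _root_.Nat.reduceEqDiff, _root_.and_self, _root_.List.not_mem_nil, _root_.or_self, _root_.or_false, _root_.or_true]) ⟨e⟩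
    have hN := h.N_of_two (by rw [key _ hc])
    obtain ⟨⟨x, hx, hx27⟩, E, t, hE, ht1, ht3, htE, hconj⟩ := X.he
    have h' := h.map e
    have : Finite Spor.He := Finite.of_equiv _ e.toEquiv
    exact h'.K9 (by rw [Nm, map_normalizer', card_map']; exact hN) hx hx27 hE ht1 ht3 htE hconj
  · exact X.ru (h.map e)

end Cfsg.Agent.H399
end

-- part: H345/EOneAlt
section
/-!
# The configuration of order 11664: alternating groups (helper345)
-/

set_option autoImplicit false

namespace Cfsg.Agent.H345.EOne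

open Cfsg Subgroup

/-- translations of the second component -/
def shift : (Fin 5 → Multiplicative (ZMod 3)) →* Equiv.Perm (Fin 5 × ZMod 3) where
  toFun a :=
    { toFun := fun x => (x.1, x.2 + (a x.1).toAdd)
      invFun := fun x => (x.1, x.2 - (a x.1).toAdd)
      left_inv := fun x => by simp
      right_inv := fun x => by simp }
  map_one' := by
    ext x <;> simp only [_root_.Pi.one_apply, _root_.toAdd_one, _root_.add_zero, _root_.Prod.mk.eta, _root_.sub_zero, _root_.Equiv.coe_fn_mk, _root_.Equiv.Perm.coe_one, _root_.id_eq]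
  map_mul' a b := by
    ext x
    · simp
    · simp only [Equiv.coe_fn_mk, Pi.mul_apply, toAdd_mul, Equiv.Perm.coe_mul, Function.comp_apply]
      rw [add_assoc, add_comm (Multiplicative.toAdd (a x.1))]

theorem shift_injective : Function.Injective shift := by
  intro a b h
  funext i
  have h1 := congrArg (fun e : Equiv.Perm (Fin 5 × ZMod 3) => (e (i, 0)).2) h
  change (0 : ZMod 3) + (a i).toAdd = 0 + (b i).toAdd at h1
  rw [zero_add, zero_add] at h1
  exact Multiplicative.toAdd.injective h1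

theorem alt_false {n : ℕ} (h : Hy (alternatingGroup (Fin n))) : False := by
  have hn : 15 ≤ n := by
    by_contra hcon
    have h1 : Nat.card (alternatingGroup (Fin n)) ∣ Nat.factorial 14 := by
      refine (Subgroup.card_subgroup_dvd_card (alternatingGroup (Fin n))).trans ?_
      rw [Nat.card_perm, Nat.card_eq_fintype_card, Fintype.card_fin]
      exact Nat.factorial_dvd_factorial (by omega)
    have h2 : 3 ^ 6 ∣ Nat.factorial 14 := h.h6.trans h1
    revert h2
    rw [Nat.factorial]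
    norm_num [Nat.factorial]
  let ι : Fin 5 × ZMod 3 ↪ Fin n :=
    (Fintype.equivFinOfCardEq (show Fintype.card (Fin 5 × ZMod 3) = 15 by
      rw [Fintype.card_prod, Fintype.card_fin, ZMod.card])).toEmbedding.trans (Fin.castLEEmb hn)
  let f : (Fin 5 → Multiplicative (ZMod 3)) →* Equiv.Perm (Fin n) := (Equiv.Perm.viaEmbeddingHom ι).comp shift
  have hf : Function.Injective f := (Equiv.Perm.viaEmbeddingHom_injective ι).comp shift_injective
  have h3 : ∀ a : Fin 5 → Multiplicative (ZMod 3), a ^ 3 = 1 := by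
    intro a
    funext i
    rw [Pi.pow_apply, Pi.one_apply]
    apply Multiplicative.toAdd.injective
    rw [toAdd_pow, toAdd_one, nsmul_eq_mul]
    have : ((3 : ℕ) : ZMod 3) = 0 := by decide
    rw [this, zero_mul]
  have hmem : ∀ a, f a ∈ alternatingGroup (Fin n) := by
    intro a
    rw [Equiv.Perm.mem_alternatingGroup]
    have h4 : Equiv.Perm.sign (f a) ^ 3 = 1 := by
      rw [← map_pow, ← map_pow, h3, map_one, map_one]
    rcases Int.units_eq_one_or (Equiv.Perm.sign (f a)) with h5 | h5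
    · exact h5
    · rw [h5] at h4
      exact absurd h4 (by decide)
  let g : (Fin 5 → Multiplicative (ZMod 3)) →* alternatingGroup (Fin n) := f.codRestrict _ hmem
  have hg : Function.Injective g := by
    intro a b hab
    exact hf (congrArg Subtype.val hab)
  have h4 := h.hab g.range (by
    rintro ⟨x, a, rfl⟩
    refine ⟨1, Subtype.ext ?_⟩
    change (g a) ^ 3 ^ 1 = 1
    rw [pow_one, ← map_pow, h3, map_one]) (by
    rintro _ ⟨a, rfl⟩ _ ⟨b, rfl⟩
    rw [← map_mul, ← map_mul, mul_comm])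
  have h5 : Nat.card g.range = 3 ^ 5 := by
    rw [← Nat.card_congr (MonoidHom.ofInjective hg).toEquiv, Nat.card_eq_fintype_card, Fintype.card_fun, Fintype.card_fin]
    rfl
  rw [h5] at h4
  omega

end Cfsg.Agent.H345.EOne
end

-- part: H345/EOneHN
section
/-!
# The configuration of order 11664: the Harada–Norton group (helper345)

An element of order 3 of `HN` commuting with an involution commutes with an element of order 5.
-/

set_option autoImplicit false

namespace Cfsg.Agent.H345.EOne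

open Cfsg Subgroup
open Cfsg.Agent.HN.XWords (W0)
open Cfsg.Agent.KFacts.HN (PP ρ φA φB A5 comm_AB φB_inj ρ_surj)
open Cfsg.Agent.CpAutHN.LqFacts Cfsg.Agent.CpAutHN.PPFacts Cfsg.Agent.CpAutHN.Alt Cfsg.Agent.CpAutHN.Pairs
open Cfsg.Agent.CpAutTh.RankOne (exists_comm)

theorem c5_mem : cy [0, 1, 2, 3, 4] ∈ alternatingGroup (Fin 12) := by
  rw [Equiv.Perm.mem_alternatingGroup]
  decide +kernel

def d5 : A5 := ⟨[0, 1, 2, 3, 4].formPerm, by
  rw [Equiv.Perm.mem_alternatingGroup]
  decide +kernel⟩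

theorem order_d5 : orderOf d5 = 5 := by
  have : Fact (Nat.Prime 5) := ⟨Nat.prime_five⟩
  apply orderOf_eq_prime
  · decide +kernel
  · decide +kernel

theorem five_dvd {x u : Spor.HN} (h3 : orderOf x = 3) (h2 : orderOf u = 2) (hxu : x * u = u * x) :
    5 ∣ Nat.card (centralizer ({x} : Set Spor.HN)) := by
  have : Fact (Nat.Prime 5) := ⟨Nat.prime_five⟩
  have hdvd : ∀ {x y : Spor.HN}, y * x = x * y → 5 ∣ orderOf y → 5 ∣ Nat.card (centralizer ({x} : Set Spor.HN)) := by
    intro x y hyx hy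
    have h1 := _root_.orderOf_dvd_natCard (⟨y, mem_centralizer_singleton_iff.2 hyx⟩ : centralizer ({x} : Set Spor.HN))
    rw [← Subgroup.orderOf_coe] at h1
    exact hy.trans h1
  obtain ⟨s, hs, hc⟩ := exists_two h3 h2 hxu
  rcases T1_or_T2 h3 hs hc with h | h
  · obtain ⟨g, hg, -, hρ⟩ := h
    have hy : orderOf (⟨g * x * g⁻¹, hg⟩ : PP) = 3 := order_sub hg (order_conj h3 g)
    obtain ⟨b, hb⟩ := ρ_surj (φB d5)
    obtain ⟨q, hq, h4⟩ := exists_comm Nat.prime_two Nat.prime_three (by norm_num) ρ isPGroup_ker (g := b) hy (by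
      rw [hb, hρ, comm_AB])
    have h5 : 5 ∣ orderOf (q * b) := by
      have h6 : orderOf (ρ (q * b)) ∣ orderOf (q * b) := orderOf_map_dvd ρ _
      rw [map_mul, hb, MonoidHom.mem_ker.1 hq, one_mul, orderOf_injective φB φB_inj, order_d5] at h6
      exact h6
    rw [← Subgroup.orderOf_coe] at h5
    have h6 : 5 ∣ Nat.card (centralizer ({g * x * g⁻¹} : Set Spor.HN)) := by
      refine hdvd (y := ((q * b : PP) : Spor.HN)) ?_ h5
      exact congrArg Subtype.val h4
    rwa [card_cent_conj (isConj_iff.2 ⟨g, rfl⟩ : IsConj x (g * x * g⁻¹))]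
  · obtain ⟨c, hcx, -⟩ := t2_x1.conj order_X1 h3 h
    rw [← card_cent_conj (isConj_iff.2 ⟨c, hcx⟩ : IsConj X1 x)]
    refine hdvd (y := Φ ⟨cy [0, 1, 2, 3, 4], c5_mem⟩) (_root_.Cfsg.Agent.CpAutHN.Pairs.comm_of c5_mem x1_mem (by decide +kernel)) ?_
    rw [orderOf_injective Φ Φ_inj]
    have h4 : orderOf (⟨cy [0, 1, 2, 3, 4], c5_mem⟩ : alternatingGroup (Fin 12)) = 5 := by
      apply orderOf_eq_prime
      · apply Subtype.ext
        change cy [0, 1, 2, 3, 4] ^ 5 = 1
        decide +kernel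
      · intro h
        have h5 : cy [0, 1, 2, 3, 4] = 1 := congrArg Subtype.val h
        exact absurd h5 (by decide +kernel)
    rw [h4]

theorem hn {G : Type*} [Group G] (h : Hy G) (hG : Spor.IsoHN G) : False := by
  obtain ⟨e⟩ := hG
  have : Fact (Nat.Prime 2) := ⟨Nat.prime_two⟩
  have h' := h.congr e
  obtain ⟨z, hz, hc⟩ := h'.hz
  have hfin : Finite (centralizer ({z} : Set Spor.HN)) := Nat.finite_of_card_ne_zero (by rw [hc]; norm_num)
  obtain ⟨⟨u, hu⟩, hu2⟩ := exists_prime_orderOf_dvd_card' (G := centralizer ({z} : Set Spor.HN)) 2 (by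
    rw [hc]
    norm_num)
  rw [← Subgroup.orderOf_coe] at hu2
  have h5 := five_dvd hz hu2 (mem_centralizer_singleton_iff.1 hu).symm
  rw [hc] at h5
  omega

end Cfsg.Agent.H345.EOne
end

-- part: H345/EOneOm
section
/-!
# The configuration of order 11664: the orthogonal groups of minus type in dimension 12 (helper345)

A Sylow 3-subgroup fixes a nonsingular vector, so there is an abelian 3-subgroup of index dividing `5!`.
-/

set_option autoImplicit false

namespace Cfsg.Agent.H345.EOne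

open Cfsg Module
open Cfsg.Agent.H128.Weights Cfsg.Agent.H128.AbelianClassical Cfsg.Agent.H128.ClassicalAb
open scoped Matrix

/-! ### weights -/

section Wts

variable {K : Type*} [Field K] {V : Type*} [AddCommGroup V] [Module K V]
  {P : Type*} [Group P] {ρ : P →* Module.End K V} {A : Subgroup P}

theorem index_dvd_half_fix {p : ℕ} [Fact p.Prime] (hp2 : p ≠ 2) (hPp : IsPGroup p P)
    [Finite P] [IsAlgClosed K] [FiniteDimensional K V] (hpK : (p : K) ≠ 0)
    (hρ : Function.Injective ρ) (hn : A.Normal) (hA : ∀ a ∈ A, ∀ b ∈ A, a * b = b * a)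
    (hC : ∀ x : P, (∀ a ∈ A, x * a = a * x) → x ∈ A) {m : ℤ} (hm : (p : ℤ) ∣ m + 1)
    (hcl : ∀ χ ∈ wts ρ A, (fun a => χ a ^ m) ∈ wts ρ A) (h1w : (fun _ => (1 : K)) ∈ wts ρ A) :
    A.index ∣ ((Module.finrank K V - 1) / 2).factorial := by
  obtain ⟨b, hb⟩ := IsPGroup.iff_card.1 hPp
  have hP : (Nat.card P : K) ≠ 0 := by
    rw [hb]
    push_cast
    exact pow_ne_zero _ hpK
  have hoddP : Odd (Nat.card P) := by
    rw [hb]
    exact ((Fact.out : p.Prime).odd_of_ne_two hp2).pow
  let act := wact ρ A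
  have hfin : Finite (wts ρ A) := (wts_finite hP hA).to_subtype
  let X := {χ : wts ρ A // ∃ a, χ.1 a ≠ 1}
  let actX : MulAction P X :=
    { smul := fun g χ => ⟨g • χ.1, by
        obtain ⟨a, ha⟩ := χ.2
        have hmem : g * a * g⁻¹ ∈ A := hn.conj_mem a.1 a.2 g
        refine ⟨⟨g * a * g⁻¹, hmem⟩, ?_⟩
        change χ.1.1 ⟨g⁻¹ * (g * a * g⁻¹) * g, _⟩ ≠ 1
        have : (⟨g⁻¹ * (g * a * g⁻¹) * g, by
            have := hn.conj_mem _ hmem g⁻¹
            rwa [inv_inv] at this⟩ : A) = a := Subtype.ext (by group)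
        rw [this]
        exact ha⟩
      one_smul := fun χ => Subtype.ext (one_smul P χ.1)
      mul_smul := fun g k χ => Subtype.ext (mul_smul g k χ.1) }
  have hactX : ∀ (g : P) (χ : X), (g • χ : X).1 = g • χ.1 := fun g χ => rfl
  let τ : X → X := fun χ => ⟨⟨fun a => (χ.1.1 a)⁻¹, _root_.Cfsg.Agent.H128.Weights.inv_mem hp2 hPp hm hcl χ.1.2⟩, by
    obtain ⟨a, ha⟩ := χ.2
    exact ⟨a, fun h => ha (inv_eq_one.1 h)⟩⟩
  have hX : Finite X := inferInstance
  have hcard : Nat.card X ≤ Module.finrank K V - 1 := by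
    have h1 : Nat.card X < Nat.card (wts ρ A) := by
      have := Fintype.ofFinite X
      have := Fintype.ofFinite (wts ρ A)
      rw [Nat.card_eq_fintype_card, Nat.card_eq_fintype_card]
      refine Fintype.card_lt_of_injective_of_notMem (fun χ : X => χ.1) Subtype.val_injective
        (b := ⟨fun _ => (1 : K), h1w⟩) ?_
      rintro ⟨χ, hχ⟩
      obtain ⟨a, ha⟩ := χ.2
      apply ha
      have h5 : χ.1 = ⟨fun _ => (1 : K), h1w⟩ := hχ
      rw [h5]
    have h2 := card_wts_le (ρ := ρ) (A := A) hP hA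
    omega
  refine (index_dvd_of_tau hoddP (X := X) (N := A) ?_ ?_ τ ?_ ?_ ?_).trans
    (Nat.factorial_dvd_factorial (Nat.div_le_div_right hcard))
  · intro g hg
    refine hC g fun a ha => ?_
    refine comm_of_fix hP hA hρ (fun χ hχ => ?_) ⟨a, ha⟩
    by_cases h1 : ∃ a, χ a ≠ 1
    · exact congrArg Subtype.val (congrArg Subtype.val (hg ⟨⟨χ, hχ⟩, h1⟩))
    · rw [not_exists] at h1
      simp only [not_not] at h1
      funext b
      simp only [cact, h1]
  · intro g hg χ
    apply Subtype.ext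
    rw [hactX]
    apply Subtype.ext
    change cact g χ.1.1 = χ.1.1
    funext a
    refine congrArg χ.1.1 (Subtype.ext ?_)
    change g⁻¹ * a * g = a
    rw [mul_assoc, hA a a.2 g hg, ← mul_assoc, inv_mul_cancel, one_mul]
  · intro χ
    apply Subtype.ext
    apply Subtype.ext
    funext a
    exact inv_inv _
  · intro χ h
    obtain ⟨a, ha⟩ := χ.2
    have h1 : (χ.1.1 a)⁻¹ = χ.1.1 a := congrFun (congrArg Subtype.val (congrArg Subtype.val h)) a
    have h2 : χ.1.1 a ^ 2 = 1 := by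
      rw [pow_two]
      nth_rw 1 [← h1]
      exact inv_mul_cancel₀ (wts_ne_zero χ.1.2 a)
    have h3 := wts_pow_card χ.1.2 a
    apply ha
    obtain ⟨k, hk⟩ := hoddP
    rw [hk, pow_succ, pow_mul, h2, one_pow, one_mul] at h3
    exact h3
  · intro g χ
    rfl

end Wts

/-! ### counting -/

section Count

variable {F : Type} [Field F] [Fintype F]

/-- the vectors with a given product with a nonzero vector -/
theorem card_dot {n : ℕ} {x : Fin n → F} (hx : x ≠ 0) (c : F) :
    Nat.card {y : Fin n → F // x ⬝ᵥ y = c} * Fintype.card F = Fintype.card F ^ n := by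
  classical
  let f : (Fin n → F) →+ F :=
    { toFun := fun y => x ⬝ᵥ y
      map_zero' := dotProduct_zero x
      map_add' := fun y z => dotProduct_add x y z }
  have hsurj : Function.Surjective f := by
    obtain ⟨i, hi⟩ : ∃ i, x i ≠ 0 := by
      by_contra h
      push Not at h
      exact hx (funext h)
    intro c
    refine ⟨Pi.single i ((x i)⁻¹ * c), ?_⟩
    change x ⬝ᵥ Pi.single i ((x i)⁻¹ * c) = c
    rw [dotProduct_single, mul_inv_cancel_left₀ hi]
  have h1 : ∀ d : F, Nat.card {y : Fin n → F // x ⬝ᵥ y = d} = Nat.card {y : Fin n → F // x ⬝ᵥ y = c} := by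
    intro d
    obtain ⟨t, ht⟩ := hsurj (c - d)
    have ht' : x ⬝ᵥ t = c - d := ht
    refine Nat.card_congr ⟨fun y => ⟨y.1 + t, ?_⟩, fun y => ⟨y.1 - t, ?_⟩, fun y => ?_, fun y => ?_⟩
    · rw [dotProduct_add, y.2, ht']
      ring
    · rw [dotProduct_sub, y.2, ht']
      ring
    · exact Subtype.ext (add_sub_cancel_right _ _)
    · exact Subtype.ext (sub_add_cancel _ _)
  have h2 : Nat.card (Fin n → F) = ∑ d : F, Nat.card {y : Fin n → F // x ⬝ᵥ y = d} := by
    rw [← Nat.card_sigma]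
    exact Nat.card_congr (Equiv.sigmaFiberEquiv fun y : Fin n → F => x ⬝ᵥ y).symm
  rw [Finset.sum_congr rfl fun d _ => h1 d, Finset.sum_const, Finset.card_univ, smul_eq_mul] at h2
  rw [mul_comm, ← h2, Nat.card_eq_fintype_card, Fintype.card_fun, Fintype.card_fin]

/-- the number of singular vectors -/
theorem card_sing {a b : F} (hab : ∀ z₁ z₂ : F, z₁ ^ 2 + a * z₁ * z₂ + b * z₂ ^ 2 = 0 → z₁ = 0 ∧ z₂ = 0) :
    Nat.card {v : (Fin 5 ⊕ Fin 5) ⊕ Fin 2 → F // quadFormMinus 5 F a b v = 0} =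
      Fintype.card F ^ 5 + (Fintype.card F ^ 5 - 1) * Fintype.card F ^ 6 := by
  classical
  set q := Fintype.card F with hq
  have hq0 : 0 < q := Fintype.card_pos
  let N : (Fin 2 → F) → F := fun z => z 0 ^ 2 + a * z 0 * z 1 + b * z 1 ^ 2
  let e : ((Fin 5 → F) × (Fin 2 → F)) × (Fin 5 → F) ≃ ((Fin 5 ⊕ Fin 5) ⊕ Fin 2 → F) :=
    { toFun := fun p => Sum.elim (Sum.elim p.1.1 p.2) p.1.2
      invFun := fun v => ((fun i => v (.inl (.inl i)), fun i => v (.inr i)), fun i => v (.inl (.inr i)))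
      left_inv := fun p => rfl
      right_inv := fun v => by
        funext i
        rcases i with (i | i) | i <;> rfl }
  have he : ∀ p, quadFormMinus 5 F a b (e p) = p.1.1 ⬝ᵥ p.2 + N p.1.2 := fun p => rfl
  have h1 : Nat.card {v : (Fin 5 ⊕ Fin 5) ⊕ Fin 2 → F // quadFormMinus 5 F a b v = 0} =
      ∑ p : (Fin 5 → F) × (Fin 2 → F), Nat.card {y : Fin 5 → F // p.1 ⬝ᵥ y + N p.2 = 0} := by
    rw [← Nat.card_sigma]
    refine Nat.card_congr ((e.subtypeEquiv fun p => ?_).symm.trans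
      (Equiv.subtypeProdEquivSigmaSubtype fun (p : (Fin 5 → F) × (Fin 2 → F)) (y : Fin 5 → F) => p.1 ⬝ᵥ y + N p.2 = 0))
    rw [he]
  rw [h1, Fintype.sum_prod_type]
  have h2 : ∀ x : Fin 5 → F, (∑ z : Fin 2 → F, Nat.card {y : Fin 5 → F // x ⬝ᵥ y + N z = 0}) =
      if x = 0 then q ^ 5 else q ^ 6 := by
    intro x
    by_cases hx : x = 0
    · rw [if_pos hx, Finset.sum_eq_single 0]
      · rw [hx]
        have h3 : N 0 = 0 := by
          change (0 : F) ^ 2 + a * 0 * 0 + b * 0 ^ 2 = 0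
          ring
        rw [h3]
        have h4 : Nat.card {y : Fin 5 → F // (0 : Fin 5 → F) ⬝ᵥ y + 0 = 0} = Nat.card (Fin 5 → F) :=
          Nat.card_congr (Equiv.subtypeUnivEquiv fun y => by rw [zero_dotProduct, add_zero])
        rw [h4, Nat.card_eq_fintype_card, Fintype.card_fun, Fintype.card_fin]
      · intro z _ hz
        rw [hx]
        have h3 : N z ≠ 0 := by
          intro h
          obtain ⟨h4, h5⟩ := hab _ _ h
          apply hz
          funext i
          fin_cases i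
          · exact h4
          · exact h5
        have h4 : IsEmpty {y : Fin 5 → F // (0 : Fin 5 → F) ⬝ᵥ y + N z = 0} := ⟨fun y => h3 (by
          have := y.2
          rwa [zero_dotProduct, zero_add] at this)⟩
        exact Nat.card_of_isEmpty
      · intro h
        exact absurd (Finset.mem_univ _) h
    · rw [if_neg hx]
      have h3 : ∀ z : Fin 2 → F, Nat.card {y : Fin 5 → F // x ⬝ᵥ y + N z = 0} = q ^ 4 := by
        intro z
        have h4 : Nat.card {y : Fin 5 → F // x ⬝ᵥ y + N z = 0} = Nat.card {y : Fin 5 → F // x ⬝ᵥ y = -N z} :=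
          Nat.card_congr (Equiv.subtypeEquivRight fun y => by rw [add_eq_zero_iff_eq_neg])
        rw [h4]
        have h5 := card_dot hx (-N z)
        rw [← hq, pow_succ] at h5
        exact Nat.eq_of_mul_eq_mul_right hq0 h5
      rw [Finset.sum_congr rfl fun z _ => h3 z, Finset.sum_const, Finset.card_univ, Fintype.card_fun,
        Fintype.card_fin, smul_eq_mul, ← hq]
      ring
  rw [Finset.sum_congr rfl fun x _ => h2 x, Finset.sum_ite, Finset.sum_const, Finset.sum_const,
    Finset.filter_eq' Finset.univ (0 : Fin 5 → F), if_pos (Finset.mem_univ _), Finset.card_singleton, one_smul,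
    smul_eq_mul]
  congr 2
  have h3 : (Finset.univ.filter fun x : Fin 5 → F => ¬ x = 0) = Finset.univ.erase 0 := by
    ext x
    simp only [_root_.Finset.mem_filter, _root_.Finset.mem_univ, _root_.true_and, _root_.Finset.mem_erase, _root_.ne_eq, _root_.and_true]
  rw [h3, Finset.card_erase_of_mem (Finset.mem_univ _), Finset.card_univ, Fintype.card_fun, Fintype.card_fin]

/-- the number of nonsingular vectors -/
theorem card_nonsing {a b : F} (hab : ∀ z₁ z₂ : F, z₁ ^ 2 + a * z₁ * z₂ + b * z₂ ^ 2 = 0 → z₁ = 0 ∧ z₂ = 0) :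
    Nat.card {v : (Fin 5 ⊕ Fin 5) ⊕ Fin 2 → F // quadFormMinus 5 F a b v ≠ 0} =
      (Fintype.card F ^ 5 * (Fintype.card F ^ 6 + 1)) * (Fintype.card F - 1) := by
  classical
  set q := Fintype.card F with hq
  have hq0 : 0 < q := Fintype.card_pos
  have h1 := Nat.card_congr (Equiv.sumCompl
    (fun v : (Fin 5 ⊕ Fin 5) ⊕ Fin 2 → F => quadFormMinus 5 F a b v = 0))
  rw [Nat.card_sum, card_sing hab] at h1
  have h2 : Nat.card ((Fin 5 ⊕ Fin 5) ⊕ Fin 2 → F) = q ^ 12 := by
    rw [Nat.card_eq_fintype_card, Fintype.card_fun]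
    rfl
  rw [h2, ← hq] at h1
  obtain ⟨r, hr⟩ : ∃ r, q = r + 1 := ⟨q - 1, by omega⟩
  have h3 : q ^ 5 - 1 + 1 = q ^ 5 := Nat.sub_add_cancel (Nat.one_le_pow _ _ hq0)
  have h4 : q - 1 + 1 = q := Nat.sub_add_cancel hq0
  set s := q ^ 5 - 1 with hs
  set t := q - 1 with ht
  have h5 : q ^ 5 + s * q ^ 6 + (q ^ 5 * (q ^ 6 + 1)) * t = q ^ 12 := by
    have h6 : s * q ^ 6 + q ^ 6 = q ^ 11 := by
      calc s * q ^ 6 + q ^ 6 = (s + 1) * q ^ 6 := by ring
        _ = q ^ 11 := by rw [h3]; ring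
    have h7 : (q ^ 5 * (q ^ 6 + 1)) * t + q ^ 5 * (q ^ 6 + 1) = q ^ 5 * (q ^ 6 + 1) * q := by
      calc _ = q ^ 5 * (q ^ 6 + 1) * (t + 1) := by ring
        _ = _ := by rw [h4]
    linarith only [h6, h7]
  have h8 : Nat.card {v : (Fin 5 ⊕ Fin 5) ⊕ Fin 2 → F // ¬ quadFormMinus 5 F a b v = 0} =
      q ^ 5 * (q ^ 6 + 1) * t := by
    have h9 : ∀ x y z : ℕ, x + y = z → x + (q ^ 5 * (q ^ 6 + 1)) * t = z → y = q ^ 5 * (q ^ 6 + 1) * t := by
      intro x y z h h'
      omega
    exact h9 _ _ _ h1 h5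
  exact h8

end Count

/-! ### fixed vectors -/

section Fix

/-- a `p`-group acting on a set together with a free `p`-group commuting with it -/
theorem exists_fix_of_free {p : ℕ} [Fact p.Prime] {P C X : Type*} [Group P] [Group C] [Finite P] [Finite C] [Finite X]
    (hP : IsPGroup p P) (hC : IsPGroup p C) [MulAction P X] [MulAction C X]
    (hcomm : ∀ (g : P) (c : C) (x : X), g • c • x = c • g • x)
    (hfree : ∀ (c : C) (x : X), c • x = x → c = 1)
    (hX : ¬ p * Nat.card C ∣ Nat.card X) : ∃ x : X, ∀ g : P, ∃ c : C, g • x = c • x := by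
  let act : MulAction (P × C) X :=
    { smul := fun g x => g.1 • g.2 • x
      one_smul := fun x => by
        change (1 : P) • (1 : C) • x = x
        rw [one_smul, one_smul]
      mul_smul := fun g h x => by
        change (g.1 * h.1) • (g.2 * h.2) • x = g.1 • g.2 • h.1 • h.2 • x
        rw [mul_smul, mul_smul, ← hcomm h.1 g.2] }
  have hact : ∀ (g : P × C) (x : X), g • x = g.1 • g.2 • x := fun g x => rfl
  have hpg : IsPGroup p (P × C) := by
    obtain ⟨a, ha⟩ := IsPGroup.iff_card.1 hP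
    obtain ⟨b, hb⟩ := IsPGroup.iff_card.1 hC
    refine IsPGroup.of_card (n := a + b) ?_
    rw [Nat.card_prod, ha, hb, pow_add]
  obtain ⟨b, hb⟩ := IsPGroup.iff_card.1 hC
  -- the `C`-orbits have full size
  have hCo : ∀ x : X, Nat.card (MulAction.orbit C x) = p ^ b := by
    intro x
    rw [← hb, Nat.card_coe_set_eq, ← MulAction.index_stabilizer]
    have : MulAction.stabilizer C x = ⊥ := by
      rw [Subgroup.eq_bot_iff_forall]
      intro c hc
      exact hfree c x hc
    rw [this, Subgroup.index_bot]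
  have hsub : ∀ x : X, MulAction.orbit C x ⊆ MulAction.orbit (P × C) x := by
    rintro x _ ⟨c, rfl⟩
    refine ⟨(1, c), ?_⟩
    change (1 : P) • c • x = c • x
    rw [one_smul]
  have hex : ∃ x : X, Nat.card (MulAction.orbit (P × C) x) = p ^ b := by
    by_contra hcon
    push Not at hcon
    apply hX
    have := Fintype.ofFinite X
    have := Fintype.ofFinite (MulAction.orbitRel.Quotient (P × C) X)
    rw [Nat.card_congr (MulAction.selfEquivSigmaOrbits (P × C) X), Nat.card_sigma]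
    refine Finset.dvd_sum fun ω _ => ?_
    obtain ⟨k, hk⟩ := hpg.card_orbit (ω.out)
    have h1 := hcon ω.out
    rw [hk] at h1 ⊢
    have h2 : p ^ b ≤ p ^ k := by
      rw [← hk, ← hCo ω.out]
      exact Nat.card_mono (Set.toFinite _) (hsub _)
    have h3 : b ≤ k := (Nat.pow_le_pow_iff_right (Fact.out : p.Prime).one_lt).1 h2
    have h4 : b ≠ k := by
      rintro rfl
      exact h1 rfl
    rw [hb, ← pow_succ']
    exact pow_dvd_pow p (by omega)
  obtain ⟨x, hx⟩ := hex
  refine ⟨x, fun g => ?_⟩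
  have h1 : MulAction.orbit C x = MulAction.orbit (P × C) x := by
    apply Set.eq_of_subset_of_ncard_le (hsub x) _ (Set.toFinite _)
    rw [← Nat.card_coe_set_eq, ← Nat.card_coe_set_eq, hx, hCo]
  have h2 : g • x ∈ MulAction.orbit (P × C) x := by
    refine ⟨(g, 1), ?_⟩
    change g • (1 : C) • x = g • x
    rw [one_smul]
  rw [← h1] at h2
  obtain ⟨c, hc⟩ := h2
  exact ⟨c, hc.symm⟩


variable {F : Type} [Field F] [Fintype F] {ι : Type} [Fintype ι] [DecidableEq ι]

/-- the variant of `hasAb_quad` in which a Sylow subgroup fixes a nonzero vector -/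
theorem hasAb_quad_fix {p : ℕ} [Fact p.Prime] (hp2 : p ≠ 2) (hp : (p : F) ≠ 0) (Q : (ι → F) → F)
    (B : (ι → F) →ₗ[F] (ι → F) →ₗ[F] F) (hB : ∀ u v, Q (u + v) = Q u + Q v + B u v)
    (hnd : ∀ w, (∀ v, B v w = 0) → w = 0) {N : ℕ} (hN : (Fintype.card ι - 1) / 2 = N)
    (hfix : ∀ P : Sylow p (Omega F Q), ∃ v : ι → F, v ≠ 0 ∧ ∀ x ∈ P, (x.1.1.1 : Matrix ι ι F) *ᵥ v = v) :
    HasAb p (POmega F Q) N := by
  have hfin : Finite (Matrix.GeneralLinearGroup ι F) := inferInstance
  let μ : Omega F Q →* Matrix ι ι F := ((Units.coeHom (Matrix ι ι F)).comp (isometryGroup F Q).subtype).comp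
    (Omega F Q).subtype
  have hμ : Function.Injective μ := by
    intro x y h
    apply Subtype.ext
    apply Subtype.ext
    exact Units.ext h
  let J : Matrix ι ι F := LinearMap.toMatrix₂' F B
  have hJ : ∀ u v, u ⬝ᵥ (J *ᵥ v) = B u v := by
    intro u v
    rw [← Matrix.toLinearMap₂'_apply', Matrix.toLinearMap₂'_toMatrix']
  have hJu : IsUnit J.det := by
    rw [← Matrix.isUnit_iff_isUnit_det, ← Matrix.mulVec_injective_iff_isUnit]
    intro w w' h
    rw [← sub_eq_zero]
    apply hnd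
    intro v
    rw [← hJ, Matrix.mulVec_sub]
    change v ⬝ᵥ (J *ᵥ w - J *ᵥ w') = 0
    have h' : J *ᵥ w = J *ᵥ w' := h
    rw [h', sub_self, dotProduct_zero]
  have hJi : ∀ x, (μ x).transpose * J * μ x = J := by
    intro x
    have hx : ∀ u, Q (μ x *ᵥ u) = Q u := fun u => x.1.2 u u
    have h1 : ∀ u v, B (μ x *ᵥ u) (μ x *ᵥ v) = B u v := by
      intro u v
      have h2 := hB (μ x *ᵥ u) (μ x *ᵥ v)
      rw [← Matrix.mulVec_add, hx, hx, hx, hB u v] at h2
      exact (add_left_cancel h2).symm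
    ext i j
    have h3 := h1 (Pi.single i 1) (Pi.single j 1)
    rw [← hJ, ← hJ, Matrix.mulVec_mulVec, ← Matrix.vecMul_transpose, ← Matrix.dotProduct_mulVec,
      Matrix.mulVec_mulVec, ← mul_assoc] at h3
    rw [single_dotProduct, single_dotProduct, one_mul, one_mul, Matrix.mulVec_single_one,
      Matrix.mulVec_single_one] at h3
    exact h3
  -- the group
  obtain ⟨P⟩ : Nonempty (Sylow p (Omega F Q)) := inferInstance
  obtain ⟨v₀, hv₀, hPv⟩ := hfix P
  have hPp : IsPGroup p P := P.isPGroup'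
  have : Group.IsNilpotent P := hPp.isNilpotent
  obtain ⟨A, hn, hAc, hAC⟩ := Lib.NormalAbelian.exists_normal_abelian_selfCentralizing (G := P)
  have hA : ∀ a ∈ A, ∀ b ∈ A, a * b = b * a := fun a ha b hb => by
    have := hAc.is_comm.comm ⟨a, ha⟩ ⟨b, hb⟩
    exact congrArg Subtype.val this
  refine HasAb.of_surj (QuotientGroup.mk' (Subgroup.center (Omega F Q))) (QuotientGroup.mk'_surjective _) P A hA ?_
  have h1w : (fun _ => (1 : AlgebraicClosure F)) ∈ wts ((rep μ).comp (P : Subgroup (Omega F Q)).subtype) A := by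
    refine (Submodule.ne_bot_iff _).2 ⟨fun i => algebraMap F (AlgebraicClosure F) (v₀ i), ?_, ?_⟩
    · rw [mem_W]
      intro a
      rw [one_smul]
      change rep μ a.1.1 _ = _
      rw [rep_apply]
      have h1 : (μ a.1.1) *ᵥ v₀ = v₀ := hPv a.1.1 a.1.2
      funext i
      have h2 := congrArg (algebraMap F (AlgebraicClosure F)) (congrFun h1 i)
      rw [← h2, Matrix.mulVec, Matrix.mulVec, dotProduct, dotProduct, map_sum]
      exact Finset.sum_congr rfl fun j _ => by rw [map_mul]; rfl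
    · intro h
      apply hv₀
      funext i
      have h2 := congrFun h i
      exact (map_eq_zero _).1 h2
  have hfr : (Module.finrank (AlgebraicClosure F) (ι → AlgebraicClosure F) - 1) / 2 = N := by
    rw [Module.finrank_fintype_fun_eq_card, hN]
  rw [← hfr]
  refine index_dvd_half_fix (ρ := (rep μ).comp (P : Subgroup (Omega F Q)).subtype) hp2 hPp (cast_ne_zero hp)
    ((rep_injective μ hμ).comp Subtype.val_injective) hn hA ?_ (m := -((1 : ℕ) : ℤ)) (by simp) ?_ h1w
  · intro x hx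
    rw [← hAC, Subgroup.mem_centralizer_iff]
    intro a ha
    exact (hx a ha).symm
  · intro χ hχ
    set J' := J.map (algebraMap F (AlgebraicClosure F)) with hJ'
    have hdet : IsUnit J'.det := by
      have h1 : J'.det = algebraMap F (AlgebraicClosure F) J.det := by
        rw [RingHom.map_det]
        rfl
      rw [h1]
      exact hJu.map _
    let B : (ι → AlgebraicClosure F) → ((ι → AlgebraicClosure F) →ₗ[AlgebraicClosure F] AlgebraicClosure F) := fun w =>
      { toFun := fun v => v ⬝ᵥ (J' *ᵥ w)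
        map_add' := fun v v' => add_dotProduct _ _ _
        map_smul' := fun c v => smul_dotProduct _ _ _ }
    refine closed_of_form (card_ne hp P.isPGroup') hA B 1 ?_ ?_ ?_ hχ
    · intro c w v
      change v ⬝ᵥ (J' *ᵥ (c • w)) = c ^ 1 * (v ⬝ᵥ (J' *ᵥ w))
      rw [Matrix.mulVec_smul, dotProduct_smul, pow_one, smul_eq_mul]
    · intro x w v
      change (rep μ x.1 v) ⬝ᵥ (J' *ᵥ (rep μ x.1 w)) = v ⬝ᵥ (J' *ᵥ w)
      rw [rep_apply, rep_apply]
      set M := (μ x.1).map (algebraMap F (AlgebraicClosure F)) with hM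
      have h1 : M.transpose * J' * M = J' := by
        have h2 := congrArg (fun X : Matrix ι ι F => X.map (algebraMap F (AlgebraicClosure F))) (hJi x.1)
        simp only [Matrix.map_mul] at h2
        rw [hM, hJ', ← Matrix.transpose_map]
        exact h2
      rw [Matrix.mulVec_mulVec, ← Matrix.vecMul_transpose, ← Matrix.dotProduct_mulVec, Matrix.mulVec_mulVec,
        ← mul_assoc, h1]
    · intro w hw h0
      apply hw
      have h1 : J' *ᵥ w = 0 := by
        funext i
        have h2 := LinearMap.congr_fun h0 (Pi.single i 1)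
        change (Pi.single i 1 : ι → AlgebraicClosure F) ⬝ᵥ (J' *ᵥ w) = 0 at h2
        rw [single_dotProduct, one_mul] at h2
        exact h2
      have h3 := Matrix.mulVec_injective_iff_isUnit.2 ((Matrix.isUnit_iff_isUnit_det J').2 hdet)
      apply h3
      rw [h1, Matrix.mulVec_zero]


/-- a Sylow 3-subgroup fixes a nonsingular vector if the number of nonsingular lines is prime to three -/
theorem exists_fix_quad (Q : (ι → F) → F) (hQs : ∀ (c : F) (v : ι → F), Q (c • v) = c ^ 2 * Q v)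
    {M : ℕ} (hM : ¬ 3 ∣ M) (hcard : Nat.card {v : ι → F // Q v ≠ 0} = M * (Fintype.card F - 1))
    (P : Sylow 3 (Omega F Q)) :
    ∃ v : ι → F, v ≠ 0 ∧ ∀ x ∈ P, (x.1.1.1 : Matrix ι ι F) *ᵥ v = v := by
  classical
  have : Fact (Nat.Prime 3) := ⟨Nat.prime_three⟩
  have hfin : Finite (Matrix.GeneralLinearGroup ι F) := inferInstance
  let X := {v : ι → F // Q v ≠ 0}
  obtain ⟨C⟩ : Nonempty (Sylow 3 Fˣ) := inferInstance
  let actP : MulAction P X :=
    { smul := fun g v => ⟨(g.1.1.1.1 : Matrix ι ι F) *ᵥ v.1, by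
        have h1 : Q ((g.1.1.1.1 : Matrix ι ι F) *ᵥ v.1) = Q v.1 := g.1.1.2 v.1 v.1
        rw [h1]
        exact v.2⟩
      one_smul := fun v => Subtype.ext (Matrix.one_mulVec v.1)
      mul_smul := fun g h v => Subtype.ext (Matrix.mulVec_mulVec v.1 _ _).symm }
  let actC : MulAction C X :=
    { smul := fun c v => ⟨(c.1 : F) • v.1, by
        rw [hQs]
        exact mul_ne_zero (pow_ne_zero _ c.1.ne_zero) v.2⟩
      one_smul := fun v => Subtype.ext (one_smul F v.1)
      mul_smul := fun g h v => Subtype.ext (mul_smul (g.1 : F) (h.1 : F) v.1) }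
  obtain ⟨v, hv⟩ := exists_fix_of_free (p := 3) (P := P) (C := C) (X := X) P.isPGroup' C.isPGroup'
    (fun g c x => Subtype.ext (Matrix.mulVec_smul (g.1.1.1.1 : Matrix ι ι F) (c.1 : F) x.1)) (fun c x h => by
      have h1 : (c.1 : F) • x.1 = x.1 := congrArg Subtype.val h
      have hx : x.1 ≠ 0 := by
        intro h0
        apply x.2
        have h2 := hQs 0 x.1
        rw [zero_smul] at h2
        rw [h0, h2]
        ring
      have h2 : ((c.1 : F) - 1) • x.1 = 0 := by rw [sub_smul, h1, one_smul, sub_self]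
      have h3 : (c.1 : F) = 1 := by
        rcases smul_eq_zero.1 h2 with h | h
        · exact sub_eq_zero.1 h
        · exact absurd h hx
      exact Subtype.ext (Units.ext h3)) (by
      intro h
      have h1 : Nat.card X = M * (Fintype.card F - 1) := hcard
      rw [h1, Sylow.card_eq_multiplicity, ← pow_succ'] at h
      have h2 : Nat.card Fˣ = Fintype.card F - 1 := by
        rw [Nat.card_units, Nat.card_eq_fintype_card]
      rw [h2] at h
      have h3 : Nat.Coprime 3 M := (Nat.Prime.coprime_iff_not_dvd Nat.prime_three).2 hM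
      have h4 := (Nat.Coprime.pow_left _ h3).dvd_of_dvd_mul_left h
      have h5 : Fintype.card F - 1 ≠ 0 := by
        have := Fintype.one_lt_card (α := F)
        omega
      have h6 := (Nat.prime_three.pow_dvd_iff_le_factorization h5).1 h4
      omega)
  refine ⟨v.1, ?_, fun x hx => ?_⟩
  · intro h0
    apply v.2
    have h2 := hQs 0 v.1
    rw [zero_smul] at h2
    rw [h0, h2]
    ring
  · obtain ⟨c, hc⟩ := hv ⟨x, hx⟩
    have h1 : (x.1.1.1 : Matrix ι ι F) *ᵥ v.1 = (c.1 : F) • v.1 := congrArg Subtype.val hc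
    have h2 : Q ((x.1.1.1 : Matrix ι ι F) *ᵥ v.1) = Q v.1 := x.1.2 v.1 v.1
    rw [h1, hQs] at h2
    have h3 : (c.1 : F) ^ 2 = 1 := by
      apply mul_right_cancel₀ v.2
      rw [h2, one_mul]
    have h4 : c ^ 2 = 1 := by
      apply Subtype.ext
      apply Units.ext
      simpa only [_root_.SubmonoidClass.coe_pow, _root_.Units.val_pow_eq_pow_val, _root_.OneMemClass.coe_one, _root_.Units.val_one, _root_.sq_eq_one_iff, _root_.Units.val_eq_one, _root_.OneMemClass.coe_eq_one, _root_.Units.val_eq_neg_one] using h3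
    have h5 : c = 1 := by
      obtain ⟨k, hk⟩ := IsPGroup.iff_card.1 C.isPGroup'
      have h6 : c ^ 3 ^ k = 1 := by
        rw [← hk]
        exact pow_card_eq_one'
      have h7 : orderOf c ∣ Nat.gcd 2 (3 ^ k) := Nat.dvd_gcd (orderOf_dvd_of_pow_eq_one h4) (orderOf_dvd_of_pow_eq_one h6)
      have h8 : Nat.gcd 2 (3 ^ k) = 1 := Nat.Coprime.pow_right k (by decide)
      rw [h8, Nat.dvd_one, orderOf_eq_one_iff] at h7
      exact h7
    rw [h1, h5]
    exact one_smul F v.1

/-- a Sylow 3-subgroup of `Ω₁₂⁻(q)` fixes a nonsingular vector if `q` is prime to three -/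
theorem exists_fix_minus {a b : F} (hq : ¬ 3 ∣ Fintype.card F)
    (hab : ∀ z₁ z₂ : F, z₁ ^ 2 + a * z₁ * z₂ + b * z₂ ^ 2 = 0 → z₁ = 0 ∧ z₂ = 0)
    (P : Sylow 3 (Omega F (quadFormMinus 5 F a b))) :
    ∃ v : (Fin 5 ⊕ Fin 5) ⊕ Fin 2 → F, v ≠ 0 ∧
      ∀ x ∈ P, (x.1.1.1 : Matrix ((Fin 5 ⊕ Fin 5) ⊕ Fin 2) ((Fin 5 ⊕ Fin 5) ⊕ Fin 2) F) *ᵥ v = v := by
  refine exists_fix_quad (quadFormMinus 5 F a b) ?_ ?_ (card_nonsing hab) P
  · intro c v
    simp only [quadFormMinus, Pi.smul_apply, smul_eq_mul, mul_add, Finset.mul_sum]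
    refine congrArg₂ _ (Finset.sum_congr rfl fun i _ => ?_) ?_ <;> ring
  · rw [Nat.prime_three.dvd_mul]
    rintro (h3 | h3)
    · exact hq (Nat.prime_three.dvd_of_dvd_pow h3)
    · have h4 : Fintype.card F % 3 = 1 ∨ Fintype.card F % 3 = 2 := by omega
      have h5 := Nat.dvd_iff_mod_eq_zero.1 h3
      rw [Nat.add_mod, Nat.pow_mod] at h5
      rcases h4 with h4 | h4 <;> rw [h4] at h5 <;> omega

end Fix

/-! ### conclusion -/

variable {F : Type} [Field F] [Fintype F]

/-- the bilinear form and the conclusion -/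
theorem hasAb_minus_five {a b : F} (hq : ¬ 3 ∣ Fintype.card F)
    (han : ∀ z₁ z₂ : F, z₁ ^ 2 + a * z₁ * z₂ + b * z₂ ^ 2 = 0 → z₁ = 0 ∧ z₂ = 0) :
    HasAb 3 (POmega F (quadFormMinus 5 F a b)) 5 := by
  have : Fact (Nat.Prime 3) := ⟨Nat.prime_three⟩
  let B : ((Fin 5 ⊕ Fin 5) ⊕ Fin 2 → F) →ₗ[F] ((Fin 5 ⊕ Fin 5) ⊕ Fin 2 → F) →ₗ[F] F :=
    LinearMap.mk₂ F (fun u v =>
      (∑ i, (u (.inl (.inl i)) * v (.inl (.inr i)) + v (.inl (.inl i)) * u (.inl (.inr i)))) +
      (2 * u (.inr 0) * v (.inr 0) + a * (u (.inr 0) * v (.inr 1) + v (.inr 0) * u (.inr 1)) +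
        2 * b * u (.inr 1) * v (.inr 1)))
      (fun u u' v => by
        rw [add_add_add_comm, ← Finset.sum_add_distrib]
        refine congrArg₂ _ (Finset.sum_congr rfl fun i _ => ?_) ?_ <;> (simp only [Pi.add_apply]; ring))
      (fun c u v => by
        rw [smul_eq_mul, mul_add c, Finset.mul_sum]
        refine congrArg₂ _ (Finset.sum_congr rfl fun i _ => ?_) ?_ <;> (simp only [Pi.smul_apply, smul_eq_mul]; ring))
      (fun u v v' => by
        rw [add_add_add_comm, ← Finset.sum_add_distrib]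
        refine congrArg₂ _ (Finset.sum_congr rfl fun i _ => ?_) ?_ <;> (simp only [Pi.add_apply]; ring))
      (fun c u v => by
        rw [smul_eq_mul, mul_add c, Finset.mul_sum]
        refine congrArg₂ _ (Finset.sum_congr rfl fun i _ => ?_) ?_ <;> (simp only [Pi.smul_apply, smul_eq_mul]; ring))
  have hBe : ∀ u v, B u v =
      (∑ i, (u (.inl (.inl i)) * v (.inl (.inr i)) + v (.inl (.inl i)) * u (.inl (.inr i)))) +
      (2 * u (.inr 0) * v (.inr 0) + a * (u (.inr 0) * v (.inr 1) + v (.inr 0) * u (.inr 1)) +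
        2 * b * u (.inr 1) * v (.inr 1)) := fun u v => rfl
  refine hasAb_quad_fix (by norm_num) (Cfsg.Agent.H128.Cross3.three_ne_zero' hq) (quadFormMinus 5 F a b) B ?_ ?_ ?_
    (exists_fix_minus hq han)
  · intro u v
    rw [hBe]
    simp only [quadFormMinus]
    have h3 : ∀ a b c d e f : F, a + b + (c + d) + (e + f) = (a + c + e) + (b + d + f) := by intros; ring
    rw [h3, ← Finset.sum_add_distrib, ← Finset.sum_add_distrib]
    refine congrArg₂ _ (Finset.sum_congr rfl fun i _ => ?_) ?_ <;> (simp only [Pi.add_apply]; ring)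
  · intro w h
    have h0 := h (Pi.single (.inr 0) 1)
    have h1 := h (Pi.single (.inr 1) 1)
    rw [hBe] at h0 h1
    have h0' : 2 * w (.inr 0) + a * w (.inr 1) = 0 := by simpa [Pi.single_apply] using h0
    have h1' : a * w (.inr 0) + 2 * b * w (.inr 1) = 0 := by simpa [Pi.single_apply] using h1
    have h3 : w (.inr 0) = 0 ∧ w (.inr 1) = 0 := by
      by_cases h2 : (2 : F) = 0
      · -- characteristic two
        rw [h2, zero_mul, zero_add] at h0'
        rw [h2, zero_mul, zero_mul, add_zero] at h1'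
        have ha : a ≠ 0 := by
          intro ha
          -- `z ↦ z ^ 2` is onto
          have hchar : CharP F 2 := CharTwo.of_one_ne_zero_of_two_eq_zero one_ne_zero h2
          obtain ⟨z, hz⟩ : ∃ z : F, z ^ 2 = b := by
            have := (frobenius_inj F 2)
            obtain ⟨z, hz⟩ := (Finite.injective_iff_surjective.1 this) b
            exact ⟨z, hz⟩
          have h4 := han z 1 (by
            rw [ha, hz, zero_mul, zero_mul, one_pow, mul_one, add_zero, ← two_mul, h2, zero_mul])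
          exact one_ne_zero h4.2
        exact ⟨(mul_eq_zero.1 h1').resolve_left ha, (mul_eq_zero.1 h0').resolve_left ha⟩
      · refine han _ _ ?_
        have h4 : 2 * (w (.inr 0) ^ 2 + a * w (.inr 0) * w (.inr 1) + b * w (.inr 1) ^ 2) = 0 := by
          linear_combination w (.inr 0) * h0' + w (.inr 1) * h1'
        exact (mul_eq_zero.1 h4).resolve_left h2
    funext j
    rcases j with (j | j) | j
    · have h4 := h (Pi.single (.inl (.inr j)) 1)
      rw [hBe] at h4
      simpa [Pi.single_apply] using h4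
    · have h4 := h (Pi.single (.inl (.inl j)) 1)
      rw [hBe] at h4
      simpa [Pi.single_apply] using h4
    · fin_cases j
      · exact h3.1
      · exact h3.2
  · rw [Fintype.card_sum, Fintype.card_sum, Fintype.card_fin, Fintype.card_fin]

theorem ominus_false {m : ℕ} (hm : 4 ≤ m) {a b : F}
    (hab : ∀ z₁ z₂ : F, z₁ ^ 2 + a * z₁ * z₂ + b * z₂ ^ 2 = 0 → z₁ = 0 ∧ z₂ = 0) (hq : ¬ 3 ∣ Fintype.card F)
    (h : Hy (POmega F (quadFormMinus (m - 1) F a b))) : False := by
  obtain rfl : m = 6 := ominus_six hm hab hq h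
  have hfin := Cfsg.Agent.H128.Cross3.finite_pomega (quadFormMinus 5 F a b)
  have h1 := Hy.le (G := POmega F (quadFormMinus 5 F a b)) h (hasAb_minus_five hq hab)
  omega

end Cfsg.Agent.H345.EOne
end

-- part: H345/EOneSix
section
/-!
# The configuration of order 11664: linear and unitary groups in dimension 6 (helper345)

In `PSL_6(q)`, `q ≡ 1 mod 3`, and in `PSU_6(q)`, `q ≡ -1 mod 3`, there is a 3-subgroup whose centralizer has only two
elements of order three.
-/

set_option autoImplicit false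

namespace Cfsg.Agent.H345.EOne

open Cfsg Subgroup
open scoped Matrix

section Six

variable {F : Type*} [Field F]

/-- permutation matrices -/
def pm (s : Equiv.Perm (Fin 6)) : Matrix (Fin 6) (Fin 6) F := Matrix.of fun i j => if s i = j then 1 else 0

theorem pm_mul_apply (s : Equiv.Perm (Fin 6)) (M : Matrix (Fin 6) (Fin 6) F) (i j : Fin 6) :
    (pm s * M : Matrix (Fin 6) (Fin 6) F) i j = M (s i) j := by
  rw [Matrix.mul_apply, Finset.sum_eq_single (s i)]
  · simp [pm]
  · intro b _ hb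
    simp [pm, hb.symm]
  · intro h
    exact absurd (Finset.mem_univ _) h

theorem pm_mulVec (s : Equiv.Perm (Fin 6)) (v : Fin 6 → F) (i : Fin 6) :
    (pm s *ᵥ v) i = v (s i) := by
  rw [Matrix.mulVec, dotProduct, Finset.sum_eq_single (s i)]
  · simp [pm]
  · intro b _ hb
    simp [pm, hb.symm]
  · intro h
    exact absurd (Finset.mem_univ _) h

theorem pm_mul (s t : Equiv.Perm (Fin 6)) : (pm s * pm t : Matrix _ _ F) = pm (t * s) := by
  ext i j
  rw [pm_mul_apply]
  rfl

theorem pm_one : (pm 1 : Matrix _ _ F) = 1 := by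
  ext i j
  rw [Matrix.one_apply]
  rfl

theorem pm_diag (s : Equiv.Perm (Fin 6)) (a : Fin 6 → F) :
    pm s * Matrix.diagonal a = Matrix.diagonal (fun i => a (s i)) * pm s := by
  ext i j
  rw [pm_mul_apply, Matrix.diagonal_mul, Matrix.diagonal_apply]
  by_cases h : s i = j
  · simp [pm, h]
  · simp [pm, h]

theorem pm_det (s : Equiv.Perm (Fin 6)) : (pm s : Matrix _ _ F).det = (Equiv.Perm.sign s : ℤ) := by
  have h : (pm s : Matrix (Fin 6) (Fin 6) F) = (Equiv.Perm.permMatrix F s) := by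
    ext i j
    simp [pm, Equiv.Perm.permMatrix, PEquiv.toMatrix_apply, Equiv.toPEquiv_apply, eq_comm]
  rw [h, Matrix.det_permutation]

theorem scalar_one {X X' Y : Matrix (Fin 6) (Fin 6) F} {c : F} (h : X * Y = c • (Y * X)) (h1 : X * X' = 1)
    (h2 : X' * X = 1) (ht : Y.trace ≠ 0) : c = 1 := by
  have h3 : (X * Y * X').trace = Y.trace := by
    rw [Matrix.trace_mul_cycle, h2, one_mul]
  rw [h, Matrix.smul_mul, mul_assoc, h1, mul_one, Matrix.trace_smul, smul_eq_mul] at h3
  exact mul_right_cancel₀ ht (h3.trans (one_mul _).symm)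

/-- `ζ` at `i`, `ζ²` at `j` -/
def dv (ζ : F) (i j k : Fin 6) : F := if k = i then ζ else if k = j then ζ ^ 2 else 1

theorem dv_prod {ζ : F} (hζ : ζ ^ 3 = 1) {i j : Fin 6} (hij : i ≠ j) : ∏ k, dv ζ i j k = 1 := by
  classical
  unfold dv
  rw [Finset.prod_ite, Finset.prod_ite, Finset.filter_eq' _ i, if_pos (Finset.mem_univ _), Finset.prod_singleton,
    Finset.filter_filter]
  have h1 : (Finset.univ.filter fun k : Fin 6 => ¬ k = i ∧ k = j) = {j} := by
    ext k
    simp only [Finset.mem_filter, Finset.mem_univ, true_and, Finset.mem_singleton]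
    constructor
    · exact fun h => h.2
    · rintro rfl
      exact ⟨hij.symm, rfl⟩
  rw [h1, Finset.prod_singleton, Finset.prod_const_one, mul_one, ← hζ]
  ring

theorem dv_sum {ζ : F} (hζ : ζ ^ 2 + ζ + 1 = 0) {i j : Fin 6} (hij : i ≠ j) : ∑ k, dv ζ i j k = 3 := by
  have h4 : ∀ i j : Fin 6, i ≠ j → (Finset.univ.filter fun k : Fin 6 => ¬ k = i ∧ ¬ k = j).card = 4 := by decide +kernel
  classical
  unfold dv
  rw [Finset.sum_ite, Finset.sum_ite, Finset.filter_eq' _ i, if_pos (Finset.mem_univ _), Finset.sum_singleton,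
    Finset.filter_filter, Finset.filter_filter]
  have h1 : (Finset.univ.filter fun k : Fin 6 => ¬ k = i ∧ k = j) = {j} := by
    ext k
    simp only [Finset.mem_filter, Finset.mem_univ, true_and, Finset.mem_singleton]
    constructor
    · exact fun h => h.2
    · rintro rfl
      exact ⟨hij.symm, rfl⟩
  rw [h1, Finset.sum_singleton, Finset.sum_const, h4 i j hij, nsmul_eq_mul]
  push_cast
  linear_combination hζ

theorem diag_of_comm {ζ : F} (hζ : ζ ^ 2 + ζ + 1 = 0) (h3 : (3 : F) ≠ 0) {M : Matrix (Fin 6) (Fin 6) F}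
    (h : ∀ i j, i ≠ j → M * Matrix.diagonal (dv ζ i j) = Matrix.diagonal (dv ζ i j) * M) :
    M = Matrix.diagonal fun i => M i i := by
  ext i j
  rw [Matrix.diagonal_apply]
  split_ifs with hij
  · rw [hij]
  · have h1 := congrFun (congrFun (h i j hij) i) j
    rw [Matrix.mul_diagonal, Matrix.diagonal_mul] at h1
    have h2 : dv ζ i j i = ζ := if_pos rfl
    have h4 : dv ζ i j j = ζ ^ 2 := by
      unfold dv
      rw [if_neg (Ne.symm hij), if_pos rfl]
    rw [h2, h4] at h1
    have h5 : (ζ ^ 2 - ζ) * M i j = 0 := by linear_combination h1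
    refine (mul_eq_zero.1 h5).resolve_left ?_
    intro h6
    have h7 : ζ ≠ 0 := by
      rintro rfl
      simp at hζ
    have h8 : ζ = 1 := by
      apply mul_left_cancel₀ h7
      linear_combination h6
    apply h3
    rw [h8] at hζ
    linear_combination hζ

theorem eq_of_comm_pm {a : Fin 6 → F} {s : Equiv.Perm (Fin 6)}
    (h : Matrix.diagonal a * pm s = pm s * Matrix.diagonal a) (i : Fin 6) : a (s i) = a i := by
  have h1 := congrFun (congrFun h i) (s i)
  rw [Matrix.diagonal_mul, pm_mul_apply, Matrix.diagonal_apply_eq] at h1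
  rw [← h1]
  simp [pm]

/-- the three permutations -/
def s1 : Equiv.Perm (Fin 6) := Equiv.swap 0 1 * Equiv.swap 1 2
def s2 : Equiv.Perm (Fin 6) := Equiv.swap 3 4 * Equiv.swap 4 5
def s3 : Equiv.Perm (Fin 6) := Equiv.swap 2 3 * Equiv.swap 3 4


theorem diag_pow (a : Fin 6 → F) (k : ℕ) : (Matrix.diagonal a) ^ k = Matrix.diagonal (fun i => a i ^ k) := by
  rw [Matrix.diagonal_pow]
  rfl

theorem pm_trace : (pm s1 : Matrix _ _ F).trace = 3 ∧ (pm s2 : Matrix _ _ F).trace = 3 := by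
  have h1 : ∀ s : Equiv.Perm (Fin 6), (pm s : Matrix _ _ F).trace = ((Finset.univ.filter fun i => s i = i).card : F) := by
    intro s
    rw [Matrix.trace, Finset.card_filter]
    push_cast
    rfl
  rw [h1, h1]
  have h2 : (Finset.univ.filter fun i => s1 i = i).card = 3 := by decide
  have h3 : (Finset.univ.filter fun i => s2 i = i).card = 3 := by decide
  rw [h2, h3]
  norm_num

variable {Γ : Type*} [Group Γ] {μ : Γ →* Matrix (Fin 6) (Fin 6) F}

theorem mu_inv (x : Γ) : μ x * μ x⁻¹ = 1 ∧ μ x⁻¹ * μ x = 1 := by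
  rw [← map_mul, ← map_mul, mul_inv_cancel, inv_mul_cancel, map_one]
  exact ⟨rfl, rfl⟩

theorem center_scalar {ζ : F} (hζ : ζ ^ 2 + ζ + 1 = 0) (h3 : (3 : F) ≠ 0)
    (hd : ∀ i j, i ≠ j → ∃ x : Γ, μ x = Matrix.diagonal (dv ζ i j))
    (hp : ∀ s : Equiv.Perm (Fin 6), Equiv.Perm.sign s = 1 → ∃ x : Γ, μ x = pm s) {z : Γ} (hz : z ∈ center Γ) :
    ∃ c : F, μ z = c • (1 : Matrix _ _ F) := by
  have hc : ∀ x : Γ, μ z * μ x = μ x * μ z := by
    intro x
    rw [← map_mul, ← map_mul, mem_center_iff.1 hz x]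
  have h1 := diag_of_comm hζ h3 (M := μ z) (fun i j hij => by
    obtain ⟨x, hx⟩ := hd i j hij
    rw [← hx]
    exact hc x)
  have h2 : ∀ s : Equiv.Perm (Fin 6), Equiv.Perm.sign s = 1 → ∀ i, (μ z) (s i) (s i) = (μ z) i i := by
    intro s hs i
    obtain ⟨x, hx⟩ := hp s hs
    have h3 := hc x
    rw [h1, hx] at h3
    exact eq_of_comm_pm h3 i
  refine ⟨(μ z) 0 0, ?_⟩
  rw [h1, Matrix.smul_one_eq_diagonal]
  congr 1
  funext i
  rw [Matrix.diagonal_apply_eq]
  have h4 : ∀ i : Fin 6, ∃ s : Equiv.Perm (Fin 6), Equiv.Perm.sign s = 1 ∧ s 0 = i := by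
    intro i
    fin_cases i
    · exact ⟨1, by decide, rfl⟩
    · exact ⟨s1, by decide, by decide⟩
    · exact ⟨s1 ^ 2, by decide, by decide⟩
    · exact ⟨s3 * s1 ^ 2, by decide, by decide⟩
    · exact ⟨s3 * s3 * s1 ^ 2, by decide, by decide⟩
    · exact ⟨s2 ^ 2 * s3 * s1 ^ 2, by decide, by decide⟩
  obtain ⟨s, hs, rfl⟩ := h4 i
  exact h2 s hs 0

theorem center_of_scalar (hμ : Function.Injective μ) {z : Γ} {c : F} (h : μ z = c • (1 : Matrix _ _ F)) :
    z ∈ center Γ := by
  rw [mem_center_iff]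
  intro x
  apply hμ
  rw [map_mul, map_mul, h, Matrix.smul_mul, Matrix.mul_smul, one_mul, mul_one]

theorem comm_of_quot {ζ : F} (hζ : ζ ^ 2 + ζ + 1 = 0) (h3 : (3 : F) ≠ 0)
    (hd : ∀ i j, i ≠ j → ∃ x : Γ, μ x = Matrix.diagonal (dv ζ i j))
    (hp : ∀ s : Equiv.Perm (Fin 6), Equiv.Perm.sign s = 1 → ∃ x : Γ, μ x = pm s)
    {v x : Γ} (hvx : (QuotientGroup.mk v : Γ ⧸ center Γ) * QuotientGroup.mk x = QuotientGroup.mk x * QuotientGroup.mk v)
    (ht : (μ x).trace ≠ 0) : μ v * μ x = μ x * μ v := by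
  have h1 : (x * v)⁻¹ * (v * x) ∈ center Γ := by
    rw [← QuotientGroup.eq, QuotientGroup.mk_mul, QuotientGroup.mk_mul, hvx]
  obtain ⟨c, hc⟩ := center_scalar hζ h3 hd hp h1
  have h2 : μ v * μ x = c • (μ x * μ v) := by
    have h3 : v * x = (x * v) * ((x * v)⁻¹ * (v * x)) := by group
    rw [← map_mul, h3, map_mul, hc, Matrix.mul_smul, mul_one, map_mul]
  have h4 := scalar_one h2 (mu_inv v).1 (mu_inv v).2 ht
  rw [h2, h4, one_smul]

/-- the diagonal 3-subgroup -/
def dsub (hμ : Function.Injective μ) : Subgroup Γ where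
  carrier := {x | ∃ a : Fin 6 → F, (∀ i, a i ^ 3 = 1) ∧ μ x = Matrix.diagonal a}
  one_mem' := ⟨fun _ => 1, fun _ => one_pow 3, by rw [map_one, Matrix.diagonal_one]⟩
  mul_mem' := by
    rintro x y ⟨a, ha, hx⟩ ⟨b, hb, hy⟩
    refine ⟨fun i => a i * b i, fun i => ?_, ?_⟩
    · rw [mul_pow, ha, hb, one_mul]
    · rw [map_mul, hx, hy, Matrix.diagonal_mul_diagonal]
  inv_mem' := by
    rintro x ⟨a, ha, hx⟩
    refine ⟨fun i => a i ^ 2, fun i => ?_, ?_⟩
    · rw [← pow_mul, mul_comm, pow_mul, ha, one_pow]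
    · have h1 : x ^ 3 = 1 := by
        apply hμ
        rw [map_pow, hx, diag_pow, map_one]
        simp only [ha]
        exact Matrix.diagonal_one
      have h2 : x⁻¹ = x ^ 2 := by
        rw [inv_eq_iff_mul_eq_one, ← pow_succ']
        exact h1
      rw [h2, map_pow, hx, diag_pow]

theorem dsub_three (hμ : Function.Injective μ) : IsPGroup 3 (dsub hμ) := by
  rintro ⟨x, a, ha, hx⟩
  refine ⟨1, Subtype.ext ?_⟩
  apply hμ
  change μ (x ^ 3 ^ 1) = μ 1
  rw [map_pow, hx, diag_pow, map_one]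
  simp only [pow_one, ha]
  exact Matrix.diagonal_one

theorem dsub_conj (hμ : Function.Injective μ) {s : Equiv.Perm (Fin 6)} {y : Γ} (hy : μ y = pm s) {x : Γ}
    (hx : x ∈ dsub hμ) : y * x * y⁻¹ ∈ dsub hμ := by
  obtain ⟨a, ha, hx⟩ := hx
  refine ⟨fun i => a (s i), fun i => ha _, ?_⟩
  rw [map_mul, map_mul, hx, hy, pm_diag, ← hy, mul_assoc, (mu_inv y).1, mul_one]

theorem dsub_le_norm (hμ : Function.Injective μ) {s : Equiv.Perm (Fin 6)} {y : Γ} (hy : μ y = pm s) :
    zpowers y ≤ normalizer (dsub hμ : Set Γ) := by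
  rw [zpowers_le, mem_normalizer_iff]
  intro x
  constructor
  · exact dsub_conj hμ hy
  · intro hx
    have hy' : μ y⁻¹ = pm s⁻¹ := by
      have h1 : (pm s⁻¹ : Matrix (Fin 6) (Fin 6) F) = μ y⁻¹ * μ y * pm s⁻¹ := by rw [(mu_inv y).2, one_mul]
      rw [h1, mul_assoc, hy, pm_mul, inv_mul_cancel, pm_one, mul_one]
    have h1 := dsub_conj hμ hy' hx
    rw [inv_inv] at h1
    have h2 : y⁻¹ * (y * x * y⁻¹) * y = x := by group
    rwa [h2] at h1


/-- the diagonal matrices `(α, α, α, β, β, β)` -/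
def two (α β : F) : Fin 6 → F := fun i => if i.val < 3 then α else β

theorem two_form {ζ : F} (hζ : ζ ^ 2 + ζ + 1 = 0) (h3 : (3 : F) ≠ 0)
    (hd : ∀ i j, i ≠ j → ∃ x : Γ, μ x = Matrix.diagonal (dv ζ i j))
    (hp : ∀ s : Equiv.Perm (Fin 6), Equiv.Perm.sign s = 1 → ∃ x : Γ, μ x = pm s)
    {y1 y2 : Γ} (hy1 : μ y1 = pm s1) (hy2 : μ y2 = pm s2) (hμ : Function.Injective μ)
    {v : Γ} (hv : ∀ x ∈ dsub hμ ⊔ (zpowers y1 ⊔ zpowers y2),
      (QuotientGroup.mk v : Γ ⧸ center Γ) * QuotientGroup.mk x = QuotientGroup.mk x * QuotientGroup.mk v) :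
    ∃ α β : F, α ≠ 0 ∧ β ≠ 0 ∧ μ v = Matrix.diagonal (two α β) := by
  have hζ3 : ζ ^ 3 = 1 := by linear_combination (ζ - 1) * hζ
  have h1 := diag_of_comm hζ h3 (M := μ v) (fun i j hij => by
    obtain ⟨x, hx⟩ := hd i j hij
    rw [← hx]
    apply comm_of_quot hζ h3 hd hp
    · apply hv
      apply mem_sup_left
      refine ⟨dv ζ i j, fun k => ?_, hx⟩
      unfold dv
      split_ifs
      · exact hζ3
      · rw [← pow_mul, mul_comm, pow_mul, hζ3, one_pow]
      · exact one_pow 3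
    · rw [hx, Matrix.trace_diagonal, dv_sum hζ hij]
      exact h3)
  have h2 : ∀ i, (μ v) (s1 i) (s1 i) = (μ v) i i := by
    intro i
    have h4 := comm_of_quot hζ h3 hd hp (hv y1 (mem_sup_right (mem_sup_left (mem_zpowers y1))))
      (by rw [hy1, pm_trace.1]; exact h3)
    rw [h1, hy1] at h4
    exact eq_of_comm_pm h4 i
  have h5 : ∀ i, (μ v) (s2 i) (s2 i) = (μ v) i i := by
    intro i
    have h4 := comm_of_quot hζ h3 hd hp (hv y2 (mem_sup_right (mem_sup_right (mem_zpowers y2))))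
      (by rw [hy2, pm_trace.2]; exact h3)
    rw [h1, hy2] at h4
    exact eq_of_comm_pm h4 i
  have h6 : μ v = Matrix.diagonal (two ((μ v) 0 0) ((μ v) 3 3)) := by
    rw [h1]
    congr 1
    funext i
    have e1 : s1 0 = 1 := by decide
    have e2 : s1 1 = 2 := by decide
    have e3 : s2 3 = 4 := by decide
    have e4 : s2 4 = 5 := by decide
    have g1 := h2 0
    have g2 := h2 1
    have g3 := h5 3
    have g4 := h5 4
    rw [e1] at g1
    rw [e2] at g2
    rw [e3] at g3
    rw [e4] at g4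
    simp only [Matrix.diagonal_apply_eq]
    fin_cases i
    · rfl
    · exact g1
    · exact g2.trans g1
    · rfl
    · exact g3
    · exact g4.trans g3
  refine ⟨(μ v) 0 0, (μ v) 3 3, ?_, ?_, h6⟩
  · intro h0
    have h7 := congrFun (congrFun (mu_inv (μ := μ) v).2 0) 0
    rw [h6, Matrix.mul_diagonal, Matrix.one_apply_eq] at h7
    have h8 : two ((μ v) 0 0) ((μ v) 3 3) 0 = (μ v) 0 0 := rfl
    rw [h8, h0, mul_zero] at h7
    exact zero_ne_one h7
  · intro h0
    have h7 := congrFun (congrFun (mu_inv (μ := μ) v).2 3) 3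
    rw [h6, Matrix.mul_diagonal, Matrix.one_apply_eq] at h7
    have h8 : two ((μ v) 0 0) ((μ v) 3 3) 3 = (μ v) 3 3 := rfl
    rw [h8, h0, mul_zero] at h7
    exact zero_ne_one h7

theorem six_false {ζ : F} (hζ : ζ ^ 2 + ζ + 1 = 0) (h3 : (3 : F) ≠ 0)
    (hd : ∀ i j, i ≠ j → ∃ x : Γ, μ x = Matrix.diagonal (dv ζ i j))
    (hp : ∀ s : Equiv.Perm (Fin 6), Equiv.Perm.sign s = 1 → ∃ x : Γ, μ x = pm s) (hμ : Function.Injective μ)
    (h : Hy (Γ ⧸ center Γ)) : False := by
  obtain ⟨y1, hy1⟩ := hp s1 (by decide)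
  obtain ⟨y2, hy2⟩ := hp s2 (by decide)
  have hpow : ∀ {s : Equiv.Perm (Fin 6)} {y : Γ}, s ^ 3 = 1 → μ y = pm s → IsPGroup 3 (zpowers y) := by
    intro s y hs hy
    have h1 : y ^ 3 = 1 := by
      apply hμ
      rw [map_pow, hy, map_one, pow_succ, pow_two, pm_mul, pm_mul, ← pow_two, ← pow_succ', hs, pm_one]
    rintro ⟨g, hg⟩
    obtain ⟨k, rfl⟩ := mem_zpowers_iff.1 hg
    refine ⟨1, Subtype.ext ?_⟩
    change (y ^ k) ^ 3 ^ 1 = 1
    rw [pow_one, ← zpow_natCast, ← zpow_mul, mul_comm, zpow_mul, zpow_natCast, h1, one_zpow]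
  have hcomm : y1 * y2 = y2 * y1 := by
    apply hμ
    rw [map_mul, map_mul, hy1, hy2, pm_mul, pm_mul]
    congr 1
    decide
  have hP : IsPGroup 3 (dsub hμ ⊔ (zpowers y1 ⊔ zpowers y2) : Subgroup Γ) := by
    refine IsPGroup.to_sup_of_normal_left' (dsub_three hμ)
      (IsPGroup.to_sup_of_normal_left' (hpow (by decide) hy1) (hpow (by decide) hy2) ?_)
      (sup_le (dsub_le_norm hμ hy1) (dsub_le_norm hμ hy2))
    rw [zpowers_le, mem_normalizer_iff]
    intro x
    have h1 : ∀ x : Γ, x ∈ zpowers y1 → y2 * x * y2⁻¹ = x ∧ y2⁻¹ * x * y2 = x := by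
      intro x hx
      obtain ⟨k, rfl⟩ := mem_zpowers_iff.1 hx
      have h2 : Commute y2 (y1 ^ k) := (Commute.zpow_right hcomm.symm k)
      exact ⟨by rw [h2.eq, mul_inv_cancel_right], by rw [mul_assoc, ← h2.eq, inv_mul_cancel_left]⟩
    constructor
    · intro hx
      rw [(h1 x hx).1]
      exact hx
    · intro hx
      have h2 := (h1 _ hx).2
      have h3 : y2⁻¹ * (y2 * x * y2⁻¹) * y2 = x := by group
      rw [h3] at h2
      rw [h2]
      exact hx
  obtain ⟨v', w', hv, hw, hvw, hvc, hwc⟩ := h.hV _ (hP.map (QuotientGroup.mk' (center Γ)))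
  obtain ⟨v, rfl⟩ := QuotientGroup.mk_surjective v'
  obtain ⟨w, rfl⟩ := QuotientGroup.mk_surjective w'
  obtain ⟨α, β, hα, hβ, hμv⟩ := two_form hζ h3 hd hp hy1 hy2 hμ (v := v) (fun x hx => hvc _ ⟨x, hx, rfl⟩)
  obtain ⟨γ, δ, hγ, hδ, hμw⟩ := two_form hζ h3 hd hp hy1 hy2 hμ (v := w) (fun x hx => hwc _ ⟨x, hx, rfl⟩)
  -- the order is three
  have key : ∀ {v : Γ} {α β : F}, orderOf (QuotientGroup.mk v : Γ ⧸ center Γ) = 3 →
      μ v = Matrix.diagonal (two α β) → α ^ 3 = β ^ 3 ∧ α ≠ β := by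
    intro v α β ho hμv
    constructor
    · have h1 : v ^ 3 ∈ center Γ := by
        rw [← QuotientGroup.eq_one_iff, QuotientGroup.mk_pow, ← ho, pow_orderOf_eq_one]
      obtain ⟨c, hc⟩ := center_scalar hζ h3 hd hp h1
      rw [map_pow, hμv, diag_pow, Matrix.smul_one_eq_diagonal] at hc
      have h2 := congrFun (Matrix.diagonal_injective hc) 0
      have h4 := congrFun (Matrix.diagonal_injective hc) 3
      have h5 : α ^ 3 = c := h2
      have h6 : β ^ 3 = c := h4
      rw [h5, h6]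
    · rintro rfl
      have h1 : v ∈ center Γ := by
        apply center_of_scalar hμ (c := α)
        rw [hμv, Matrix.smul_one_eq_diagonal]
        congr 1
        funext i
        exact ite_self _
      rw [← QuotientGroup.eq_one_iff] at h1
      rw [h1, orderOf_one] at ho
      omega
  obtain ⟨h4, h5⟩ := key hv hμv
  obtain ⟨h6, h7⟩ := key hw hμw
  -- the power
  obtain ⟨k, hk⟩ : ∃ k : ℕ, δ * α ^ k = β ^ k * γ := by
    have e1 : β ^ 2 + β * α + α ^ 2 = 0 := by
      have : (β - α) * (β ^ 2 + β * α + α ^ 2) = 0 := by linear_combination -h4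
      exact (mul_eq_zero.1 this).resolve_left (sub_ne_zero.2 h5.symm)
    have e2 : δ ^ 2 + δ * γ + γ ^ 2 = 0 := by
      have : (δ - γ) * (δ ^ 2 + δ * γ + γ ^ 2) = 0 := by linear_combination -h6
      exact (mul_eq_zero.1 this).resolve_left (sub_ne_zero.2 h7.symm)
    have e3 : (δ * α - β * γ) * (δ * α ^ 2 - β ^ 2 * γ) = 0 := by
      linear_combination (α ^ 3) * e2 - (δ * γ * α - γ ^ 2 * (β - α)) * e1
    rcases mul_eq_zero.1 e3 with h | h
    · exact ⟨1, by linear_combination h⟩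
    · exact ⟨2, by linear_combination h⟩
  apply hvw
  refine mem_zpowers_iff.2 ⟨k, ?_⟩
  rw [zpow_natCast, ← QuotientGroup.mk_pow, QuotientGroup.eq]
  apply center_of_scalar hμ (c := γ / α ^ k)
  have h8 : μ w = μ (v ^ k) * ((γ / α ^ k) • (1 : Matrix (Fin 6) (Fin 6) F)) := by
    rw [map_pow, hμv, hμw, diag_pow, Matrix.smul_one_eq_diagonal, Matrix.diagonal_mul_diagonal]
    congr 1
    funext i
    unfold two
    split_ifs
    · field_simp
    · field_simp
      linear_combination hk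
  rw [map_mul, h8, ← mul_assoc, (mu_inv _).2, one_mul]

end Six


section Fin

variable {F : Type} [Field F] [Fintype F]

theorem exists_zeta (h : 3 ∣ Fintype.card F - 1) : ∃ ζ : F, ζ ^ 2 + ζ + 1 = 0 := by
  have : Fact (Nat.Prime 3) := ⟨Nat.prime_three⟩
  have h1 : 3 ∣ Nat.card Fˣ := by
    rw [Nat.card_units, Nat.card_eq_fintype_card]
    exact h
  obtain ⟨u, hu⟩ := exists_prime_orderOf_dvd_card' 3 h1
  have h2 : (u : F) ^ 3 = 1 := by
    rw [← Units.val_pow_eq_pow_val, ← hu, pow_orderOf_eq_one, Units.val_one]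
  have h4 : (u : F) ≠ 1 := by
    intro h
    have : u = 1 := Units.ext h
    rw [this, orderOf_one] at hu
    omega
  refine ⟨u, ?_⟩
  have h5 : ((u : F) - 1) * ((u : F) ^ 2 + u + 1) = 0 := by linear_combination h2
  exact (mul_eq_zero.1 h5).resolve_left (sub_ne_zero.2 h4)

theorem psl_six_false (hq : Fintype.card F % 3 = 1) (h : Hy (Matrix.ProjectiveSpecialLinearGroup (Fin 6) F)) : False := by
  have h3' := Cfsg.Agent.H128.Cross3.three_ne_zero' (F := F) (by omega)
  have h3 : (3 : F) ≠ 0 := by exact_mod_cast h3'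
  obtain ⟨ζ, hζ⟩ := exists_zeta (F := F) (by omega)
  have hζ3 : ζ ^ 3 = 1 := by linear_combination (ζ - 1) * hζ
  refine six_false (Γ := Matrix.SpecialLinearGroup (Fin 6) F) (μ := slToMat 6 F) hζ h3 ?_ ?_
    (Cfsg.Agent.H128.ClassicalAb.slToMat_injective 6) h
  · intro i j hij
    exact ⟨⟨Matrix.diagonal (dv ζ i j), by rw [Matrix.det_diagonal, dv_prod hζ3 hij]⟩, rfl⟩
  · intro s hs
    exact ⟨⟨pm s, by rw [pm_det, hs]; norm_num⟩, rfl⟩

theorem psu_six_false {q : ℕ} (hF : Fintype.card F = q ^ 2) (hq : q % 3 = 2) (h : Hy (PSU 6 F q)) : False := by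
  have hF3 : ¬ 3 ∣ Fintype.card F := by
    rw [hF]
    intro h
    have := Nat.prime_three.dvd_of_dvd_pow h
    omega
  have h3' := Cfsg.Agent.H128.Cross3.three_ne_zero' (F := F) hF3
  have h3 : (3 : F) ≠ 0 := by exact_mod_cast h3'
  obtain ⟨ζ, hζ⟩ := exists_zeta (F := F) (by
    rw [hF, ← Nat.modEq_iff_dvd' (Nat.one_le_pow _ _ (by omega))]
    change 1 % 3 = q ^ 2 % 3
    rw [Nat.pow_mod, hq])
  have hζ3 : ζ ^ 3 = 1 := by linear_combination (ζ - 1) * hζ
  have hq0 : q ≠ 0 := by omega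
  have hz : ζ ^ (q + 1) = 1 := by
    obtain ⟨k, hk⟩ : 3 ∣ q + 1 := by omega
    rw [hk, pow_mul, hζ3, one_pow]
  refine six_false (Γ := SU 6 F q) (μ := (slToMat 6 F).comp (SU 6 F q).subtype) hζ h3 ?_ ?_
    ((Cfsg.Agent.H128.ClassicalAb.slToMat_injective 6).comp Subtype.val_injective) h
  · intro i j hij
    refine ⟨⟨⟨Matrix.diagonal (dv ζ i j), by rw [Matrix.det_diagonal, dv_prod hζ3 hij]⟩, ?_⟩, rfl⟩
    intro u v
    change hermForm 6 F q (Matrix.diagonal (dv ζ i j) *ᵥ u) (Matrix.diagonal (dv ζ i j) *ᵥ v) = hermForm 6 F q u v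
    unfold hermForm
    refine Finset.sum_congr rfl fun k _ => ?_
    rw [Matrix.mulVec_diagonal, Matrix.mulVec_diagonal, mul_pow]
    have h1 : dv ζ i j k * dv ζ i j k ^ q = 1 := by
      rw [← pow_succ']
      unfold dv
      split_ifs
      · exact hz
      · rw [← pow_mul, mul_comm, pow_mul, hz, one_pow]
      · exact one_pow _
    linear_combination (u k * v k ^ q) * h1
  · intro s hs
    refine ⟨⟨⟨pm s, by rw [pm_det, hs]; norm_num⟩, ?_⟩, rfl⟩
    intro u v
    change hermForm 6 F q (pm s *ᵥ u) (pm s *ᵥ v) = hermForm 6 F q u v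
    unfold hermForm
    simp only [pm_mulVec]
    exact Equiv.sum_comp s fun k => u k * v k ^ q

theorem psl_false {n : ℕ} (hn : 2 ≤ n) (hq : ¬ 3 ∣ Fintype.card F)
    (h : Hy (Matrix.ProjectiveSpecialLinearGroup (Fin n) F)) : False := by
  obtain ⟨rfl, h1⟩ := psl_six hn hq h
  exact psl_six_false h1 h

theorem psu_false {n q : ℕ} (hF : Fintype.card F = q ^ 2) (hn : 2 ≤ n) (hq : ¬ 3 ∣ q)
    (h : Hy (PSU n F q)) : False := by
  obtain ⟨rfl, h1⟩ := psu_six hF hn hq h
  exact psu_six_false hF h1 h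

end Fin

end Cfsg.Agent.H345.EOne
end

-- part: H345/EOneThree
section
/-!
# The configuration of order 11664: characteristic 3 and the exceptional groups (helper345)

(The enumeration follows helper352, `H352/Elim/Main.lean`.)
-/

set_option autoImplicit false

namespace Cfsg.Agent.H345.EOne

open Cfsg Subgroup Cfsg.Agent.OrdDiv
open Cfsg.Agent.H352.Elim (charP_ne char_pow not_dvd_pow big_three big_three' card_centralizer_congr)

universe u

/-- the condition on the order -/
def PP (c : ℕ) : Bool := (c % 729 == 0) && (c % 2187 != 0) && (c / 729 % 3 == 2)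

theorem Hy.PP {X : Type*} [Group X] (h : Hy X) : PP (Nat.card X) = true := by
  unfold EOne.PP
  have h6 := Nat.mod_eq_zero_of_dvd h.h6
  have h7 := h.h7
  have hm := h.hm
  norm_num only [] at h6 h7
  rw [Nat.dvd_iff_mod_eq_zero] at h7
  simp only [Bool.and_eq_true, beq_iff_eq, bne_iff_ne, ne_eq]
  exact ⟨⟨h6, h7⟩, hm⟩

/-- candidates in characteristic 3 -/
def candP (D : Fam) : List (ℕ × ℕ) :=
  (box [(3, 6)] D.e D.lo).filter fun x => D.ok x.1 x.2 && PP (D.num x.1 x.2 / D.den x.1 x.2)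

theorem mem_candP (D : Fam) {n q c : ℕ} (hq : IsPrimePow q) (hqe : 3 ∣ q)
    (hlo : D.lo ≤ n) (hn : n ≤ D.e n + 1) (he1 : 1 ≤ D.e n) (hok : D.ok n q = true)
    (hc : D.den n q * c = D.num n q) (hpow : q ^ D.e n ∣ D.num n q) (hcop : (D.den n q).Coprime q)
    (h7 : ¬ 3 ^ 7 ∣ c) (hP : PP c = true) : (n, q) ∈ candP D := by
  unfold candP
  rw [List.mem_filter]
  obtain ⟨p, f, hp, hf, rfl⟩ := (isPrimePow_nat_iff q).1 hq
  have hp3 : p = 3 := ((Nat.prime_dvd_prime_iff_eq Nat.prime_three hp).1 (Nat.prime_three.dvd_of_dvd_pow hqe)).symm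
  subst hp3
  constructor
  · have h1 : (3 ^ f) ^ D.e n ∣ c := by
      rw [← hc] at hpow
      exact Nat.Coprime.dvd_of_dvd_mul_left (Nat.Coprime.pow_left _ hcop.symm) hpow
    rw [← pow_mul] at h1
    refine mem_box (List.mem_singleton.2 rfl) hf hlo hn he1 ?_
    by_contra hlt
    push Not at hlt
    apply h7
    exact (pow_dvd_pow 3 (by rw [mul_comm] at hlt; omega)).trans h1
  · rw [Bool.and_eq_true]
    refine ⟨hok, ?_⟩
    rw [← div_eq hq hcop hc]
    exact hP

/-! ### the classical families in characteristic 3 -/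

section

variable {F : Type} [Field F] [Fintype F]

theorem psl_three {n : ℕ} (hn : 2 ≤ n) (hn2 : n = 2 → 4 ≤ Fintype.card F) (ho : 3 ∣ Fintype.card F)
    (h : Hy (Matrix.ProjectiveSpecialLinearGroup (Fin n) F)) : False := by
  have hP := h.PP
  have h38 := h.h7
  have hq : 1 < Fintype.card F := Fintype.one_lt_card
  have hc : fPSL.den n (Fintype.card F) * Nat.card (Matrix.ProjectiveSpecialLinearGroup (Fin n) F) =
      fPSL.num n (Fintype.card F) := by
    have h := S0243.result (F := F) rfl n hn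
    rw [Fin.prod_univ_eq_prod_range (fun i => Fintype.card F ^ n - Fintype.card F ^ i) n, ← prod_list] at h
    change Nat.gcd n (Fintype.card F - 1) * (Fintype.card F - 1) * _ = glN n (Fintype.card F)
    rw [mul_assoc]
    exact h
  have h1 : (n, Fintype.card F) ∈ candP fPSL := by
    refine mem_candP fPSL Fintype.isPrimePow_card_of_field ho hn (le_tri hn).1 (le_tri hn).2 ?_ hc
      (pow_dvd_glN n _) ?_ h38 hP
    · change (!(Nat.beq n 2 && Nat.blt (Fintype.card F) 4)) = true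
      by_cases h2 : n = 2
      · have h4 := hn2 h2
        have : Nat.blt (Fintype.card F) 4 = false := by
          rw [← Bool.not_eq_true, Nat.blt_eq]
          omega
        rw [this, Bool.and_false]
        rfl
      · have : Nat.beq n 2 = false := by
          rw [← Bool.not_eq_true, Nat.beq_eq]
          exact h2
        rw [this, Bool.false_and]
        rfl
    · change (Nat.gcd n (Fintype.card F - 1) * (Fintype.card F - 1)).Coprime (Fintype.card F)
      have h1 := cop_sub (q := Fintype.card F) (k := 1) (by omega) le_rfl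
      rw [pow_one] at h1
      exact Nat.Coprime.mul_left (Nat.Coprime.coprime_dvd_left (Nat.gcd_dvd_right _ _) h1) h1
  have h2 : candP fPSL = [] := by decide +kernel
  rw [h2] at h1
  exact absurd h1 List.not_mem_nil

theorem psp_three {m : ℕ} (hm : 2 ≤ m) (hm2 : m = 2 → 3 ≤ Fintype.card F) (ho : 3 ∣ Fintype.card F)
    (h : Hy (PSp m F)) : False := by
  have hP := h.PP
  have h38 := h.h7
  have hq : 1 < Fintype.card F := Fintype.one_lt_card
  have hc : fPSp.den m (Fintype.card F) * Nat.card (PSp m F) = fPSp.num m (Fintype.card F) := by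
    have h1 := S0245.result (F := F) rfl m
    have h2 := S0246.result (F := F) rfl m (by omega)
    have h3 := Subgroup.card_eq_card_quotient_mul_card_subgroup
      (Subgroup.center (Matrix.symplecticGroup (Fin m) F))
    rw [← prod_list (fun i => Fintype.card F ^ (2 * (i + 1)) - 1)] at h1
    rw [h1, h2] at h3
    change Nat.gcd 2 (Fintype.card F - 1) * Nat.card (PSp m F) = Fintype.card F ^ (m ^ 2) * prB (Fintype.card F) m
    rw [mul_comm]
    exact h3.symm
  have hmm : m ≤ m ^ 2 := by nlinarith only []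
  have h1 : (m, Fintype.card F) ∈ candP fPSp := by
    refine mem_candP fPSp Fintype.isPrimePow_card_of_field ho hm (hmm.trans (Nat.le_succ _))
      (Nat.one_le_pow _ _ (by omega)) ?_ hc (Dvd.intro _ rfl) ?_ h38 hP
    · change (!(Nat.beq m 2 && Nat.blt (Fintype.card F) 3)) = true
      by_cases h2 : m = 2
      · have h4 := hm2 h2
        have : Nat.blt (Fintype.card F) 3 = false := by
          rw [← Bool.not_eq_true, Nat.blt_eq]
          omega
        rw [this, Bool.and_false]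
        rfl
      · have : Nat.beq m 2 = false := by
          rw [← Bool.not_eq_true, Nat.beq_eq]
          exact h2
        rw [this, Bool.false_and]
        rfl
    · change (Nat.gcd 2 (Fintype.card F - 1)).Coprime (Fintype.card F)
      have h1 := cop_sub (q := Fintype.card F) (k := 1) (by omega) le_rfl
      rw [pow_one] at h1
      exact Nat.Coprime.coprime_dvd_left (Nat.gcd_dvd_right _ _) h1
  have h2 : candP fPSp = [] := by decide +kernel
  rw [h2] at h1
  exact absurd h1 List.not_mem_nil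

theorem psu_three {n q : ℕ} (hF : Fintype.card F = q ^ 2) (hn : 3 ≤ n)
    (hn2 : ¬ (n = 3 ∧ q = 2)) (ho : 3 ∣ q) (h : Hy (PSU n F q)) : n = 3 ∧ q = 9 := by
  have hP := h.PP
  have h38 := h.h7
  have hq2 : IsPrimePow (q ^ 2) := hF ▸ Fintype.isPrimePow_card_of_field
  have hqp : IsPrimePow q := (isPrimePow_pow_iff (by norm_num)).1 hq2
  have hc : fPSU.den n q * Nat.card (PSU n F q) = fPSU.num n q := by
    have h := S0280.result hF n (by omega)
    rw [← prod_list] at h
    change Nat.gcd n (q + 1) * (q + 1) * _ = q ^ (n * (n - 1) / 2) * prU q n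
    have h2 : prU q n = ((List.range n).map fun i => if Even i then q ^ (i + 1) + 1 else q ^ (i + 1) - 1).prod := by
      unfold prU
      congr 1
      apply List.map_congr_left
      intro i _
      by_cases h : Even i
      · rw [if_pos h, if_pos]
        rw [Nat.beq_eq]
        exact Nat.even_iff.1 h
      · rw [if_neg h, if_neg]
        rw [Nat.beq_eq, ← Nat.even_iff]
        exact h
    rw [h2, mul_assoc]
    exact h
  have h1 : (n, q) ∈ candP fPSU := by
    refine mem_candP fPSU hqp ho hn (le_tri (by omega)).1 (le_tri (by omega)).2 ?_ hc (Dvd.intro _ rfl) ?_ h38 hP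
    · change (!(Nat.beq n 3 && Nat.beq q 2)) = true
      by_cases h2 : n = 3
      · have h4 : q ≠ 2 := fun h => hn2 ⟨h2, h⟩
        have : Nat.beq q 2 = false := by
          rw [← Bool.not_eq_true, Nat.beq_eq]
          exact h4
        rw [this, Bool.and_false]
        rfl
      · have : Nat.beq n 3 = false := by
          rw [← Bool.not_eq_true, Nat.beq_eq]
          exact h2
        rw [this, Bool.false_and]
        rfl
    · change (Nat.gcd n (q + 1) * (q + 1)).Coprime q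
      have h1 := cop_add (q := q) (k := 1) le_rfl
      rw [pow_one] at h1
      exact Nat.Coprime.mul_left (Nat.Coprime.coprime_dvd_left (Nat.gcd_dvd_right _ _) h1) h1
  have h2 : ∀ x ∈ candP fPSU, x = (3, 9) := by decide +kernel
  have h3 := h2 _ h1
  rw [Prod.mk.injEq] at h3
  exact h3

theorem oodd_three {m : ℕ} (hm : 3 ≤ m) (ho2 : Odd (Fintype.card F)) (ho : 3 ∣ Fintype.card F)
    (h : Hy (POmega F (quadFormOdd m F))) : False := by
  have hc := S0292.result (F := F) rfl ho2 m hm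
  apply h.h7
  have h1 : 3 ^ 7 ∣ 2 * Nat.card (POmega F (quadFormOdd m F)) := by
    rw [hc]
    refine Dvd.dvd.mul_right ?_ _
    calc 3 ^ 7 ∣ (Fintype.card F) ^ 7 := pow_dvd_pow_of_dvd ho 7
      _ ∣ Fintype.card F ^ (m ^ 2) := pow_dvd_pow _ (by nlinarith only [hm])
  exact Nat.Coprime.dvd_of_dvd_mul_left (by norm_num) h1

theorem oplus_three {m : ℕ} (hm : 4 ≤ m) (ho : 3 ∣ Fintype.card F)
    (h : Hy (POmega F (quadFormPlus m F))) : False := by
  have hc := S0293.result (F := F) rfl m hm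
  apply h.h7
  have h1 : 3 ^ 7 ∣ Nat.gcd 4 (Fintype.card F ^ m - 1) * Nat.card (POmega F (quadFormPlus m F)) := by
    rw [hc]
    refine Dvd.dvd.mul_right (Dvd.dvd.mul_right ?_ _) _
    calc 3 ^ 7 ∣ (Fintype.card F) ^ 7 := pow_dvd_pow_of_dvd ho 7
      _ ∣ Fintype.card F ^ (m * (m - 1)) := pow_dvd_pow _ (by
        have : 4 * 3 ≤ m * (m - 1) := Nat.mul_le_mul hm (by omega)
        omega)
  exact Nat.Coprime.dvd_of_dvd_mul_left (Nat.Coprime.coprime_dvd_right (Nat.gcd_dvd_left _ _) (by norm_num)) h1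

theorem ominus_three {m : ℕ} (hm : 4 ≤ m) {a b : F}
    (hab : ∀ z₁ z₂ : F, z₁ ^ 2 + a * z₁ * z₂ + b * z₂ ^ 2 = 0 → z₁ = 0 ∧ z₂ = 0) (ho : 3 ∣ Fintype.card F)
    (h : Hy (POmega F (quadFormMinus (m - 1) F a b))) : False := by
  have hc := S0294.result (F := F) rfl m hm a b hab
  apply h.h7
  have h1 : 3 ^ 7 ∣ Nat.gcd 4 (Fintype.card F ^ m + 1) * Nat.card (POmega F (quadFormMinus (m - 1) F a b)) := by
    rw [hc]
    refine Dvd.dvd.mul_right (Dvd.dvd.mul_right ?_ _) _
    calc 3 ^ 7 ∣ (Fintype.card F) ^ 7 := pow_dvd_pow_of_dvd ho 7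
      _ ∣ Fintype.card F ^ (m * (m - 1)) := pow_dvd_pow _ (by
        have : 4 * 3 ≤ m * (m - 1) := Nat.mul_le_mul hm (by omega)
        omega)
  exact Nat.Coprime.dvd_of_dvd_mul_left (Nat.Coprime.coprime_dvd_right (Nat.gcd_dvd_left _ _) (by norm_num)) h1

end

/-! ### the exceptional families -/

theorem g2_odd {q : ℕ} (hq : ¬ 3 ∣ q) (h : 3 ^ 6 ∣ q ^ 6 * (q ^ 2 - 1) * (q ^ 6 - 1)) :
    3 ^ 7 ∣ q ^ 6 * (q ^ 2 - 1) * (q ^ 6 - 1) := by
  have c0 : Nat.Coprime 3 q := (Nat.Prime.coprime_iff_not_dvd Nat.prime_three).2 hq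
  have hs : q ^ 2 % 3 = 1 := by
    have : q % 3 = 1 ∨ q % 3 = 2 := by omega
    rcases this with h | h <;> rw [Nat.pow_mod, h]
  obtain ⟨k, hk⟩ : ∃ k, q ^ 2 = 3 * k + 1 := ⟨q ^ 2 / 3, by omega⟩
  have e2 : q ^ 2 - 1 = 3 * k := by omega
  have e6 : q ^ 6 - 1 = 3 * k * (3 * (3 * k ^ 2 + 3 * k + 1)) := by
    have : q ^ 6 = 3 * k * (3 * (3 * k ^ 2 + 3 * k + 1)) + 1 := by
      calc q ^ 6 = (q ^ 2) ^ 3 := by ring
        _ = _ := by rw [hk]; ring
    rw [this, Nat.add_sub_cancel]
  rw [e2, e6] at h ⊢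
  have c1 : Nat.Coprime 3 (3 * k ^ 2 + 3 * k + 1) := by
    rw [Nat.Prime.coprime_iff_not_dvd Nat.prime_three]
    omega
  have e3 : q ^ 6 * (3 * k) * (3 * k * (3 * (3 * k ^ 2 + 3 * k + 1))) =
      (k ^ 2 * 27) * (q ^ 6 * (3 * k ^ 2 + 3 * k + 1)) := by ring
  rw [e3] at h ⊢
  have h1 : 3 ^ 6 ∣ k ^ 2 * 27 := by
    refine Nat.Coprime.dvd_of_dvd_mul_right ?_ h
    exact (Nat.Coprime.mul_right (c0.pow_right 6) c1).pow_left 6
  have h2 : 27 ∣ k ^ 2 := by omega
  have h3 : 3 ∣ k := Nat.prime_three.dvd_of_dvd_pow ((by norm_num : 3 ∣ 27).trans h2)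
  obtain ⟨j, rfl⟩ := h3
  have h4 : 3 ∣ j ^ 2 := by
    have : (3 * j) ^ 2 = 9 * j ^ 2 := by ring
    (clear * - h2 this; omega)
  obtain ⟨i, rfl⟩ := Nat.prime_three.dvd_of_dvd_pow h4
  refine Dvd.dvd.mul_right ?_ _
  exact ⟨i ^ 2, by ring⟩

theorem exc_false (T : OrderTable.{u}) {S : Type u} [Group S] (h : IsExceptionalLieType S) (hS : Hy S) : False := by
  have h7 := hS.h7
  obtain ⟨z, hz3, hzc⟩ := hS.hz
  have hce : ∀ {Y : Type} [Group Y] (e : S ≃* Y), (e z) ^ 3 = 1 ∧
      Nat.card ↥(Subgroup.centralizer ({e z} : Set Y)) = 5832 := by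
    intro Y _ e
    refine ⟨?_, by rw [card_centralizer_congr, hzc]⟩
    rw [← map_pow, ← hz3, pow_orderOf_eq_one, map_one]
  rcases h with h | h | h | h | h | h | h | h | h | h | h
  · -- `G₂`
    obtain ⟨F, _, _, hq, ⟨e⟩⟩ := h
    have hcard := Nat.card_congr e.toEquiv
    by_cases ho : 3 ∣ Fintype.card F
    · rw [hcard] at h7
      have hP := hS.PP
      rw [hcard] at hP
      have h1 := mem_candP fG2 (n := 0) (c := Nat.card ↥(Lie.chevG2.group F)) Fintype.isPrimePow_card_of_field ho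
        (Nat.zero_le _) (Nat.zero_le _) (by change 1 ≤ 6 + 1000 * 0; omega) (by
          change Nat.ble 3 (Fintype.card F) = true
          rw [Nat.ble_eq]; exact hq)
        (by
          change 1 * Nat.card ↥(Lie.chevG2.group F) = Fintype.card F ^ 6 *
            ((Fintype.card F ^ 2 - 1) * (Fintype.card F ^ 6 - 1))
          rw [T.g2 F]; ring)
        (by
          change Fintype.card F ^ (6 + 1000 * 0) ∣ Fintype.card F ^ 6 * _
          rw [mul_zero, add_zero]; exact Dvd.intro _ rfl)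
        (Nat.coprime_one_left _) h7 hP
      have h2 : candP fG2 = [] := by decide +kernel
      rw [h2] at h1
      exact absurd h1 List.not_mem_nil
    · apply h7
      have h6 := hS.h6
      rw [hcard, T.g2 F] at h6 ⊢
      exact g2_odd ho h6
  · -- `F₄`
    obtain ⟨F, _, _, ⟨e⟩⟩ := h
    obtain ⟨hz, hc⟩ := hce e
    have hcard := Nat.card_congr e.toEquiv
    by_cases ho : 3 ∣ Fintype.card F
    · exact h7 (big_three ho (show 7 ≤ 24 by norm_num) (by rw [hcard, T.f4 F _ rfl]; simp only [mul_assoc]; rfl))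
    · obtain ⟨r, _, _, hr⟩ := charP_ne ho
      have h1 := H261.pow_dvd_F4 F hr (e z) hz
      rw [hc, Nat.card_eq_fintype_card] at h1
      exact not_dvd_pow Fintype.one_lt_card ho (by norm_num) h1
  · -- `E₆`
    obtain ⟨F, _, _, ⟨e⟩⟩ := h
    obtain ⟨hz, hc⟩ := hce e
    have hcard := Nat.card_congr e.toEquiv
    by_cases ho : 3 ∣ Fintype.card F
    · have h0 := cop_sub (q := Fintype.card F) (k := 1) Fintype.card_pos le_rfl
      rw [pow_one] at h0
      exact h7 (big_three' ho (show 7 ≤ 36 by norm_num) (Nat.Coprime.coprime_dvd_left (Nat.gcd_dvd_right 3 _) h0)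
        (by rw [hcard, T.e6 F _ rfl]; simp only [mul_assoc]; rfl))
    · obtain ⟨r, _, _, hr⟩ := charP_ne ho
      have h1 := H261.pow_dvd_E6 F hr (e z) hz
      rw [hc, Nat.card_eq_fintype_card] at h1
      exact not_dvd_pow Fintype.one_lt_card ho (by norm_num) h1
  · -- `E₇`
    obtain ⟨F, _, _, ⟨e⟩⟩ := h
    obtain ⟨hz, hc⟩ := hce e
    have hcard := Nat.card_congr e.toEquiv
    by_cases ho : 3 ∣ Fintype.card F
    · have h0 := cop_sub (q := Fintype.card F) (k := 1) Fintype.card_pos le_rfl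
      rw [pow_one] at h0
      exact h7 (big_three' ho (show 7 ≤ 63 by norm_num) (Nat.Coprime.coprime_dvd_left (Nat.gcd_dvd_right 2 _) h0)
        (by rw [hcard, T.e7 F _ rfl]; simp only [mul_assoc]; rfl))
    · obtain ⟨r, _, _, hr⟩ := charP_ne ho
      have h1 := H261.pow_dvd_E7 F hr (e z) hz
      rw [hc, Nat.card_eq_fintype_card] at h1
      exact not_dvd_pow Fintype.one_lt_card ho (by norm_num) h1
  · -- `E₈`
    obtain ⟨F, _, _, ⟨e⟩⟩ := h
    obtain ⟨hz, hc⟩ := hce e
    have hcard := Nat.card_congr e.toEquiv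
    by_cases ho : 3 ∣ Fintype.card F
    · exact h7 (big_three ho (show 7 ≤ 120 by norm_num) (by rw [hcard, T.e8 F _ rfl]; simp only [mul_assoc]; rfl))
    · obtain ⟨r, _, _, hr⟩ := charP_ne ho
      have h1 := H261.pow_dvd_E8 F hr (e z) hz
      rw [hc, Nat.card_eq_fintype_card] at h1
      exact not_dvd_pow Fintype.one_lt_card ho (by norm_num) h1
  · -- `²E₆`
    obtain ⟨F, _, _, q, hq, hF, ⟨e⟩⟩ := h
    obtain ⟨hz, hc⟩ := hce e
    have hcard := Nat.card_congr e.toEquiv
    by_cases ho : 3 ∣ q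
    · have h0 := cop_add (q := q) (k := 1) le_rfl
      rw [pow_one] at h0
      exact h7 (big_three' ho (show 7 ≤ 36 by norm_num) (Nat.Coprime.coprime_dvd_left (Nat.gcd_dvd_right 3 _) h0)
        (by rw [hcard, T.te6 F q hq hF]; simp only [mul_assoc]; rfl))
    · obtain ⟨r, _, _, hr⟩ := charP_ne (F := F) (by rw [hF]; exact fun h1 => ho (Nat.prime_three.dvd_of_dvd_pow h1))
      obtain ⟨n, hn0, hn⟩ := char_pow (F := F) hq (by norm_num) hF (r := r)
      have h1 := H261.Tw.pow_dvd_twE6 F hr hn0 hn hF (e z) hz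
      rw [hc] at h1
      exact not_dvd_pow hq.two_le ho (by norm_num) h1
  · -- `³D₄`
    obtain ⟨F, _, _, q, hq, hF, ⟨e⟩⟩ := h
    obtain ⟨hz, hc⟩ := hce e
    have hcard := Nat.card_congr e.toEquiv
    by_cases ho : 3 ∣ q
    · exact h7 (big_three ho (show 7 ≤ 12 by norm_num) (by rw [hcard, T.td4 F q hq hF]; simp only [mul_assoc]; rfl))
    · obtain ⟨r, _, _, hr⟩ := charP_ne (F := F) (by rw [hF]; exact fun h1 => ho (Nat.prime_three.dvd_of_dvd_pow h1))
      obtain ⟨n, hn0, hn⟩ := char_pow (F := F) hq (by norm_num) hF (r := r)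
      have h1 := H261.Tw.pow_dvd_twD4 F hr hn0 hn hF (e z) hz
      rw [hc] at h1
      have h2 : (q ^ 3).Coprime 729 := by
        have : Nat.Coprime q (3 ^ 6) := ((Nat.Prime.coprime_iff_not_dvd Nat.prime_three).2 ho).symm.pow_right 6
        exact this.pow_left 3
      have h3 : q ^ 3 ∣ 8 := h2.dvd_of_dvd_mul_right (show q ^ 3 ∣ 8 * 729 from h1)
      have h4 := Nat.le_of_dvd (by norm_num) h3
      have h5 : q < 3 := by
        by_contra hlt
        push Not at hlt
        have : 3 ^ 3 ≤ q ^ 3 := Nat.pow_le_pow_left hlt 3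
        omega
      have h6 : q = 2 := by have := hq.two_le; omega
      have h8 := hS.PP
      rw [hcard, T.td4 F q hq hF, h6] at h8
      revert h8; decide +kernel
  · -- Suzuki
    obtain ⟨F, _, _, m, hm, hF, ⟨e⟩⟩ := h
    have hcard := Nat.card_congr e.toEquiv
    have hd : 3 ∣ Nat.card S := Dvd.dvd.trans (by norm_num) hS.h6
    rw [hcard, T.sz F m hm hF] at hd
    obtain ⟨k, rfl⟩ : ∃ k, m = k + 1 := ⟨m - 1, by omega⟩
    obtain ⟨h1, -, h2⟩ := odd_pow_mod k
    rw [show 2 * (k + 1) + 1 = 2 * k + 3 by ring] at hd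
    generalize 2 ^ (2 * k + 3) = q at hd h1 h2
    rcases (Nat.Prime.dvd_mul Nat.prime_three).1 hd with hd | hd
    · rcases (Nat.Prime.dvd_mul Nat.prime_three).1 hd with hd | hd
      · have := Nat.prime_three.dvd_of_dvd_pow hd
        omega
      · omega
    · have : q ^ 2 % 3 = 1 := by rw [Nat.pow_mod, h2]
      omega
  · -- Ree
    obtain ⟨F, _, _, m, hm, hF, ⟨e⟩⟩ := h
    apply h7
    rw [Nat.card_congr e.toEquiv, T.ree F m hm hF, ← pow_mul, mul_assoc]
    exact Dvd.dvd.mul_right (pow_dvd_pow 3 (by omega)) _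
  · -- `²F₄`
    obtain ⟨F, _, _, m, hm, hF, ⟨e⟩⟩ := h
    apply h7
    have hd : 3 ^ 6 ∣ Nat.card S := hS.h6
    rw [Nat.card_congr e.toEquiv, T.tf4 F m hm hF] at hd ⊢
    obtain ⟨k, rfl⟩ : ∃ k, m = k + 1 := ⟨m - 1, by omega⟩
    obtain ⟨h1, -, h2⟩ := odd_pow_mod k
    rw [show 2 * (k + 1) + 1 = 2 * k + 3 by ring] at hd ⊢
    generalize 2 ^ (2 * k + 3) = q at hd h1 h2 ⊢
    have e1 : q ^ 12 * (q - 1) * (q ^ 3 + 1) * (q ^ 4 - 1) * (q ^ 6 + 1) =
      q ^ 12 * (q ^ 6 + 1) * (q ^ 4 - 1) * (q ^ 3 + 1) * (q - 1) := by ring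
    rw [e1] at hd ⊢
    exact H352.Three13.tf4 h2 hd
  · have h8 := hS.PP
    rw [T.spor S (.tits, 17971200) (by decide) h] at h8
    revert h8; decide +kernel

/-- the candidates among the sporadic groups -/
theorem spor_cand (T : OrderTable.{u}) {S : Type u} [Group S] (hS : Hy S) (x : Grp × ℕ) (hx : x ∈ spor)
    (h : Real x.1 S) : x.1 = .mcl ∨ x.1 = .co2 ∨ x.1 = .hn := by
  have h8 := hS.PP
  rw [T.spor S x hx h] at h8
  have h9 : ∀ x ∈ spor, PP x.2 = true → x.1 = .mcl ∨ x.1 = .co2 ∨ x.1 = .hn := by decide +kernel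
  exact h9 x hx h8

end Cfsg.Agent.H345.EOne
end

-- part: H345/EOneU
section
/-!
# The configuration of order 11664: `PSU_3(9)` (helper345)
-/

set_option autoImplicit false

namespace Cfsg.Agent.H345.EOne

open Cfsg Subgroup Module
open scoped Matrix

/-! ### the centralizer of a regular nilpotent endomorphism in dimension three is commutative -/

theorem comm_of_nil {F V : Type*} [Field F] [AddCommGroup V] [Module F V] (hV : finrank F V = 3) {N : Module.End F V}
    (hN3 : N ^ 3 = 0) (hN2 : N ^ 2 ≠ 0) {X Y : Module.End F V} (hX : X * N = N * X) (hY : Y * N = N * Y) :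
    X * Y = Y * X := by
  obtain ⟨u, hu⟩ : ∃ u, (N ^ 2) u ≠ 0 := by
    by_contra h
    push Not at h
    exact hN2 (LinearMap.ext h)
  have hX' : ∀ (k : ℕ) (w : V), X ((N ^ k) w) = (N ^ k) (X w) := by
    intro k w
    have h := ((show Commute X N from hX).pow_right k).eq
    exact LinearMap.congr_fun h w
  have hY' : ∀ (k : ℕ) (w : V), Y ((N ^ k) w) = (N ^ k) (Y w) := by
    intro k w
    have h := ((show Commute Y N from hY).pow_right k).eq
    exact LinearMap.congr_fun h w
  have hzero : ∀ k, 3 ≤ k → (N ^ k) u = 0 := by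
    intro k hk
    obtain ⟨j, rfl⟩ : ∃ j, k = j + 3 := ⟨k - 3, by omega⟩
    rw [pow_add, hN3, mul_zero]
    rfl
  let b : Fin 3 → V := fun i => (N ^ (i : ℕ)) u
  have hb : LinearIndependent F b := by
    rw [Fintype.linearIndependent_iff]
    intro g hg
    rw [Fin.sum_univ_three] at hg
    change g 0 • (N ^ 0) u + g 1 • (N ^ 1) u + g 2 • (N ^ 2) u = 0 at hg
    have e2 := congrArg (fun w : V => (N ^ 2 : Module.End F V) w) hg
    simp only [map_add, map_smul, map_zero] at e2
    have f2 : (N ^ 2) ((N ^ 0) u) = (N ^ 2) u := rfl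
    have f3 : (N ^ 2) ((N ^ 1) u) = 0 := by
      have := hzero 3 le_rfl
      rw [show (3 : ℕ) = 2 + 1 from rfl, pow_add] at this
      exact this
    have f4 : (N ^ 2) ((N ^ 2) u) = 0 := by
      have := hzero 4 (by norm_num)
      rw [show (4 : ℕ) = 2 + 2 from rfl, pow_add] at this
      exact this
    rw [f2, f3, f4, smul_zero, smul_zero, add_zero, add_zero] at e2
    have g0 : g 0 = 0 := (smul_eq_zero.1 e2).resolve_right hu
    have e1 := congrArg (fun w : V => (N ^ 1 : Module.End F V) w) hg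
    simp only [map_add, map_smul, map_zero] at e1
    have f5 : (N ^ 1) ((N ^ 1) u) = (N ^ 2) u := by
      rw [show (2 : ℕ) = 1 + 1 from rfl, pow_add]
      rfl
    have f6 : (N ^ 1) ((N ^ 2) u) = 0 := by
      have := hzero 3 le_rfl
      rw [show (3 : ℕ) = 1 + 2 from rfl, pow_add] at this
      exact this
    rw [g0, zero_smul, zero_add, f5, f6, smul_zero, add_zero] at e1
    have g1 : g 1 = 0 := (smul_eq_zero.1 e1).resolve_right hu
    rw [g0, g1, zero_smul, zero_smul, zero_add, zero_add] at hg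
    have g2 : g 2 = 0 := (smul_eq_zero.1 hg).resolve_right hu
    intro i
    fin_cases i
    · exact g0
    · exact g1
    · exact g2
  let B := basisOfLinearIndependentOfCardEqFinrank hb (by rw [hV, Fintype.card_fin])
  have hB : ∀ i, B i = (N ^ (i : ℕ)) u := fun i => by
    rw [coe_basisOfLinearIndependentOfCardEqFinrank]
  have hXu : X u = ∑ i, B.repr (X u) i • (N ^ (i : ℕ)) u := by
    conv_lhs => rw [← B.sum_repr (X u)]
    exact Finset.sum_congr rfl fun i _ => by rw [hB]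
  have hYu : Y u = ∑ i, B.repr (Y u) i • (N ^ (i : ℕ)) u := by
    conv_lhs => rw [← B.sum_repr (Y u)]
    exact Finset.sum_congr rfl fun i _ => by rw [hB]
  have key : X (Y u) = Y (X u) := by
    have hpp : ∀ (i j : ℕ), (N ^ i) ((N ^ j) u) = (N ^ j) ((N ^ i) u) := by
      intro i j
      have h : N ^ i * N ^ j = N ^ j * N ^ i := by rw [← pow_add, ← pow_add, add_comm]
      exact LinearMap.congr_fun h u
    have e1 : X (Y u) = ∑ i : Fin 3, ∑ j : Fin 3, (B.repr (Y u) i * B.repr (X u) j) • (N ^ (i : ℕ)) ((N ^ (j : ℕ)) u) := by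
      conv_lhs => rw [hYu]
      rw [map_sum]
      refine Finset.sum_congr rfl fun i _ => ?_
      rw [map_smul, hX', hXu, map_sum, Finset.smul_sum]
      refine Finset.sum_congr rfl fun j _ => ?_
      rw [map_smul, smul_smul]
      congr 2
      rw [← hXu]
    have e2 : Y (X u) = ∑ j : Fin 3, ∑ i : Fin 3, (B.repr (X u) j * B.repr (Y u) i) • (N ^ (j : ℕ)) ((N ^ (i : ℕ)) u) := by
      conv_lhs => rw [hXu]
      rw [map_sum]
      refine Finset.sum_congr rfl fun i _ => ?_
      rw [map_smul, hY', hYu, map_sum, Finset.smul_sum]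
      refine Finset.sum_congr rfl fun j _ => ?_
      rw [map_smul, smul_smul]
      congr 2
      rw [← hYu]
    rw [e1, e2, Finset.sum_comm]
    refine Finset.sum_congr rfl fun j _ => Finset.sum_congr rfl fun i _ => ?_
    rw [hpp, mul_comm]
  refine B.ext fun i => ?_
  rw [hB]
  change X (Y ((N ^ (i : ℕ)) u)) = Y (X ((N ^ (i : ℕ)) u))
  rw [hY', hX', hX', hY', key]

/-! ### the form -/

section Form

variable {F : Type} [Field F] [Fintype F]

theorem charThree (hF : Fintype.card F = 9 ^ 2) : CharP F 3 := by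
  obtain ⟨p, hp⟩ := CharP.exists F
  obtain ⟨n, hpp, hn⟩ := FiniteField.card F p
  have h1 : p ∣ 3 := by
    have : p ∣ 9 ^ 2 := by
      rw [← hF, hn]
      exact dvd_pow_self p n.ne_zero
    have h2 := hpp.dvd_of_dvd_pow this
    exact hpp.dvd_of_dvd_pow (show p ∣ 3 ^ 2 from h2)
  have h2 : p = 3 := (Nat.prime_dvd_prime_iff_eq hpp Nat.prime_three).1 h1
  rwa [← h2]

theorem nine_add (hF : Fintype.card F = 9 ^ 2) (x y : F) : (x + y) ^ 9 = x ^ 9 + y ^ 9 := by
  have := charThree hF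
  have : Fact (Nat.Prime 3) := ⟨Nat.prime_three⟩
  exact add_pow_char_pow (p := 3) (n := 2) x y

theorem nine_nine (hF : Fintype.card F = 9 ^ 2) (x : F) : (x ^ 9) ^ 9 = x := by
  rw [← pow_mul, ← pow_two, ← hF, FiniteField.pow_card]

theorem hf (u v : Fin 3 → F) : hermForm 3 F 9 u v = u 0 * v 0 ^ 9 + u 1 * v 1 ^ 9 + u 2 * v 2 ^ 9 := by
  unfold hermForm
  rw [Fin.sum_univ_three]

theorem hf_add_left (u u' v : Fin 3 → F) : hermForm 3 F 9 (u + u') v = hermForm 3 F 9 u v + hermForm 3 F 9 u' v := by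
  rw [hf, hf, hf]
  simp only [Pi.add_apply]
  ring

theorem hf_smul_left (c : F) (u v : Fin 3 → F) : hermForm 3 F 9 (c • u) v = c * hermForm 3 F 9 u v := by
  rw [hf, hf]
  simp only [Pi.smul_apply, smul_eq_mul]
  ring

theorem hf_add_right (hF : Fintype.card F = 9 ^ 2) (u v v' : Fin 3 → F) :
    hermForm 3 F 9 u (v + v') = hermForm 3 F 9 u v + hermForm 3 F 9 u v' := by
  rw [hf, hf, hf]
  simp only [Pi.add_apply, nine_add hF]
  ring

theorem hf_smul_right (c : F) (u v : Fin 3 → F) : hermForm 3 F 9 u (c • v) = c ^ 9 * hermForm 3 F 9 u v := by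
  rw [hf, hf]
  simp only [Pi.smul_apply, smul_eq_mul]
  ring

theorem hf_symm (hF : Fintype.card F = 9 ^ 2) (u v : Fin 3 → F) : hermForm 3 F 9 v u = hermForm 3 F 9 u v ^ 9 := by
  rw [hf, hf, nine_add hF, nine_add hF, mul_pow, mul_pow, mul_pow, nine_nine hF, nine_nine hF, nine_nine hF]
  ring

/-- the reflection -/
def refl (u : Fin 3 → F) (γ : F) : Matrix (Fin 3) (Fin 3) F :=
  1 + Matrix.of fun i j => γ * u i * u j ^ 9

theorem refl_mulVec (u : Fin 3 → F) (γ : F) (x : Fin 3 → F) :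
    refl u γ *ᵥ x = x + (γ * hermForm 3 F 9 x u) • u := by
  unfold refl
  rw [Matrix.add_mulVec, Matrix.one_mulVec, hf]
  congr 1
  funext i
  rw [Matrix.mulVec, dotProduct, Fin.sum_univ_three]
  simp only [Matrix.of_apply, Pi.smul_apply, smul_eq_mul]
  ring

theorem refl_det (u : Fin 3 → F) (γ : F) : (refl u γ).det = 1 + γ * hermForm 3 F 9 u u := by
  rw [hf, Matrix.det_fin_three]
  simp only [refl, Matrix.add_apply, Matrix.of_apply, Matrix.one_apply_eq, ne_eq, Fin.isValue,
    zero_ne_one, one_ne_zero, not_false_eq_true, Matrix.one_apply_ne, Fin.reduceEq]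
  ring

/-- the unitary element -/
theorem exists_elt (hF : Fintype.card F = 9 ^ 2) {u : Fin 3 → F} (hu : hermForm 3 F 9 u u ≠ 0) {α : F}
    (hα : α ^ 5 = 1) : ∃ t : SU 3 F 9, (t.1.1 : Matrix (Fin 3) (Fin 3) F) =
      α • refl u ((α ^ 2 - 1) / hermForm 3 F 9 u u) := by
  set c := hermForm 3 F 9 u u with hc
  set γ := (α ^ 2 - 1) / c with hγ
  have hγc : γ * c = α ^ 2 - 1 := div_mul_cancel₀ _ hu
  have hc9 : c ^ 9 = c := by
    rw [hc, ← hf_symm hF]
  refine ⟨⟨⟨α • refl u γ, ?_⟩, ?_⟩, rfl⟩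
  · rw [Matrix.det_smul, refl_det, ← hc, hγc, Fintype.card_fin]
    linear_combination hα
  · intro x y
    change hermForm 3 F 9 ((α • refl u γ) *ᵥ x) ((α • refl u γ) *ᵥ y) = hermForm 3 F 9 x y
    rw [Matrix.smul_mulVec, Matrix.smul_mulVec, hf_smul_left, hf_smul_right, refl_mulVec, refl_mulVec,
      hf_add_left, hf_add_right hF, hf_add_right hF, hf_smul_left, hf_smul_left, hf_smul_right, hf_smul_right,
      ← hc, mul_pow, ← hf_symm hF y u]
    have h10 : α * α ^ 9 = 1 := by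
      calc α * α ^ 9 = (α ^ 5) ^ 2 := by ring
        _ = 1 := by rw [hα, one_pow]
    have hγ9 : γ ^ 9 * c = α ^ 18 - 1 := by
      have e1 : (γ * c) ^ 9 = (α ^ 2 - 1) ^ 9 := by rw [hγc]
      have e2 : (α ^ 2 - 1) ^ 9 = α ^ 18 - 1 := by
        have e3 := nine_add hF (α ^ 2 - 1) 1
        rw [sub_add_cancel, one_pow] at e3
        linear_combination -e3
      rw [e2, mul_pow, hc9] at e1
      exact e1
    have key : γ ^ 9 + γ + γ * γ ^ 9 * c = 0 := by
      apply mul_right_cancel₀ hu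
      rw [zero_mul]
      have e4 : (γ ^ 9 + γ + γ * γ ^ 9 * c) * c = γ ^ 9 * c + γ * c + (γ * c) * (γ ^ 9 * c) := by ring
      rw [e4, hγ9, hγc]
      have e5 : α ^ 20 = 1 := by
        calc α ^ 20 = (α ^ 5) ^ 4 := by ring
          _ = 1 := by rw [hα, one_pow]
      linear_combination e5
    linear_combination (hermForm 3 F 9 x y) * h10 + (α * α ^ 9 * hermForm 3 F 9 x u * hermForm 3 F 9 u y) * key

/-- a fixed nonisotropic vector of a transvection -/
theorem exists_fixed (hF : Fintype.card F = 9 ^ 2) {M : Matrix (Fin 3) (Fin 3) F}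
    (hM : ∀ x y, hermForm 3 F 9 (M *ᵥ x) (M *ᵥ y) = hermForm 3 F 9 x y)
    (hN : (M - 1) * (M - 1) = 0) (hN1 : M ≠ 1) :
    ∃ u : Fin 3 → F, hermForm 3 F 9 u u ≠ 0 ∧ M *ᵥ u = u := by
  set N := M - 1 with hNd
  have hMN : ∀ x, M *ᵥ x = x + N *ᵥ x := by
    intro x
    rw [hNd, Matrix.sub_mulVec, Matrix.one_mulVec]
    abel
  have hNN : ∀ x, N *ᵥ (N *ᵥ x) = 0 := by
    intro x
    rw [Matrix.mulVec_mulVec, hN, Matrix.zero_mulVec]
  obtain ⟨x0, hx0⟩ : ∃ x, N *ᵥ x ≠ 0 := by
    by_contra h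
    push Not at h
    apply hN1
    have h2 : N = 0 := by
      ext i j
      have h3 := congrFun (h (Pi.single j 1)) i
      rw [Matrix.mulVec_single_one] at h3
      exact h3
    rw [hNd, sub_eq_zero] at h2
    exact h2
  set v := N *ᵥ x0 with hv
  -- rank one
  have hrank : ∀ x, ∃ c : F, N *ᵥ x = c • v := by
    let L : (Fin 3 → F) →ₗ[F] (Fin 3 → F) := N.mulVecLin
    have h1 : LinearMap.range L ≤ LinearMap.ker L := by
      rintro _ ⟨x, rfl⟩
      exact hNN x
    have h2 := Submodule.finrank_mono h1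
    have h3 := L.finrank_range_add_finrank_ker
    rw [Module.finrank_fin_fun] at h3
    have h4 : (⟨v, ⟨x0, rfl⟩⟩ : LinearMap.range L) ≠ 0 := by
      intro h
      exact hx0 (congrArg Subtype.val h)
    have h5 : finrank F (LinearMap.range L) = 1 := by
      have h6 : 0 < finrank F (LinearMap.range L) := by
        have : Nontrivial (LinearMap.range L) := ⟨_, _, h4⟩
        exact Module.finrank_pos
      omega
    intro x
    obtain ⟨c, hc⟩ := (finrank_eq_one_iff_of_nonzero' _ h4).1 h5 ⟨L x, ⟨x, rfl⟩⟩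
    exact ⟨c, (congrArg Subtype.val hc).symm⟩
  have hNv : N *ᵥ v = 0 := hNN x0
  have hMv : M *ᵥ v = v := by rw [hMN, hNv, add_zero]
  have hvv : hermForm 3 F 9 v v = 0 := by
    have h1 := hM x0 v
    rw [hMv, hMN, hf_add_left, ← hv] at h1
    exact add_eq_left.1 h1
  have hfix : ∀ u, hermForm 3 F 9 u v = 0 → M *ᵥ u = u := by
    intro u hu
    obtain ⟨d, hd⟩ := hrank u
    have h1 : ∀ y, d * hermForm 3 F 9 v y = 0 := by
      intro y
      obtain ⟨c, hc⟩ := hrank y
      have h2 := hM u y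
      rw [hMN u, hMN y, hd, hc, hf_add_left, hf_add_right hF, hf_add_right hF, hf_smul_left, hf_smul_left, hf_smul_right,
        hf_smul_right, hu, hvv] at h2
      linear_combination h2
    have h3 : d = 0 := by
      by_contra hd0
      apply hx0
      funext i
      have h4 := h1 (Pi.single i 1)
      rw [mul_eq_zero, or_iff_right hd0] at h4
      unfold hermForm at h4
      rw [Finset.sum_eq_single i] at h4
      · rw [Pi.single_eq_same, one_pow, mul_one] at h4
        exact h4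
      · intro b _ hb
        rw [Pi.single_eq_of_ne hb, zero_pow (by norm_num), mul_zero]
      · intro h
        exact absurd (Finset.mem_univ _) h
    rw [hMN, hd, h3, zero_smul, add_zero]
  rw [hf] at hvv
  obtain ⟨i, hi⟩ : ∃ i, v i ≠ 0 := by
    by_contra h
    push Not at h
    exact hx0 (funext h)
  have n9 := nine_nine hF
  have hneg : ∀ x : F, (-x) ^ 9 = -(x ^ 9) := fun x => by ring
  have hpow : ∀ x : F, x ≠ 0 → x * x ^ 9 ≠ 0 := fun x hx => mul_ne_zero hx (pow_ne_zero _ hx)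
  fin_cases i
  · refine ⟨![0, v 2 ^ 9, -(v 1 ^ 9)], ?_, hfix _ ?_⟩
    · rw [hf]
      simp only [Matrix.cons_val_zero, Matrix.cons_val_one, Matrix.cons_val]
      rw [hneg, n9, n9]
      intro h
      apply hpow _ hi
      change v 0 * v 0 ^ 9 = 0
      linear_combination hvv - h
    · rw [hf]
      simp only [Matrix.cons_val_zero, Matrix.cons_val_one, Matrix.cons_val]
      ring
  · refine ⟨![v 2 ^ 9, 0, -(v 0 ^ 9)], ?_, hfix _ ?_⟩
    · rw [hf]
      simp only [Matrix.cons_val_zero, Matrix.cons_val_one, Matrix.cons_val]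
      rw [hneg, n9, n9]
      intro h
      apply hpow _ hi
      change v 1 * v 1 ^ 9 = 0
      linear_combination hvv - h
    · rw [hf]
      simp only [Matrix.cons_val_zero, Matrix.cons_val_one, Matrix.cons_val]
      ring
  · refine ⟨![v 1 ^ 9, -(v 0 ^ 9), 0], ?_, hfix _ ?_⟩
    · rw [hf]
      simp only [Matrix.cons_val_zero, Matrix.cons_val_one, Matrix.cons_val]
      rw [hneg, n9, n9]
      intro h
      apply hpow _ hi
      change v 2 * v 2 ^ 9 = 0
      linear_combination hvv - h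
    · rw [hf]
      simp only [Matrix.cons_val_zero, Matrix.cons_val_one, Matrix.cons_val]
      ring

theorem mat_three (hF : Fintype.card F = 9 ^ 2) {M : Matrix (Fin 3) (Fin 3) F} (hM : M * M * M = 1) :
    (M - 1) ^ 3 = 0 := by
  have hc := charThree hF
  have h3 : ∀ X : Matrix (Fin 3) (Fin 3) F, X + X + X = 0 := by
    intro X
    ext i j
    have h : (3 : F) = 0 := by exact_mod_cast CharP.cast_eq_zero F 3
    simp only [Matrix.add_apply, Matrix.zero_apply]
    linear_combination (X i j) * h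
  have h1 : (M - 1) ^ 3 = M * M * M - 1 - (M * M + M * M + M * M) + (M + M + M) := by noncomm_ring
  rw [h1, hM, h3, h3, sub_self, sub_zero, add_zero]

theorem su3_false (hF : Fintype.card F = 9 ^ 2) (h : Hy (SU 3 F 9)) : False := by
  have hp3 : Fact (Nat.Prime 3) := ⟨Nat.prime_three⟩
  have hp5 : Fact (Nat.Prime 5) := ⟨Nat.prime_five⟩
  have hfin1 : Finite (Matrix.SpecialLinearGroup (Fin 3) F) :=
    Finite.of_injective (fun x => (x : Matrix (Fin 3) (Fin 3) F)) Subtype.val_injective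
  obtain ⟨z, hz3, hzc⟩ := h.hz
  set M : Matrix (Fin 3) (Fin 3) F := z.1.1 with hMd
  have hMM : M * M * M = 1 := by
    have h1 : z * z * z = 1 := by
      have h2 := pow_orderOf_eq_one z
      rw [hz3] at h2
      rw [← pow_two, ← pow_succ]
      exact h2
    exact congrArg (fun x : SU 3 F 9 => (x.1.1 : Matrix (Fin 3) (Fin 3) F)) h1
  have hM1 : M ≠ 1 := by
    intro h1
    have : z = 1 := Subtype.ext (Subtype.ext h1)
    rw [this, orderOf_one] at hz3
    omega
  have hMh : ∀ x y, hermForm 3 F 9 (M *ᵥ x) (M *ᵥ y) = hermForm 3 F 9 x y := fun x y => z.2 x y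
  have hN3 := mat_three hF hMM
  by_cases hN : (M - 1) * (M - 1) = 0
  · obtain ⟨u, hu, hMu⟩ := exists_fixed hF hMh hN hM1
    obtain ⟨a, ha⟩ := exists_prime_orderOf_dvd_card' (G := Fˣ) 5 (by
      rw [Nat.card_units, Nat.card_eq_fintype_card, hF]
      norm_num)
    have ha5 : (a : F) ^ 5 = 1 := by
      rw [← Units.val_pow_eq_pow_val, ← ha, pow_orderOf_eq_one, Units.val_one]
    obtain ⟨t, ht⟩ := exists_elt hF hu ha5
    set γ := ((a : F) ^ 2 - 1) / hermForm 3 F 9 u u with hγ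
    have hγc : γ * hermForm 3 F 9 u u = (a : F) ^ 2 - 1 := div_mul_cancel₀ _ hu
    have htx : ∀ x, (t.1.1 : Matrix (Fin 3) (Fin 3) F) *ᵥ x = (a : F) • (x + (γ * hermForm 3 F 9 x u) • u) := by
      intro x
      rw [ht, Matrix.smul_mulVec, refl_mulVec]
    have hcomm : t * z = z * t := by
      apply Subtype.ext
      apply Subtype.ext
      change (t.1.1 : Matrix (Fin 3) (Fin 3) F) * M = M * t.1.1
      apply Matrix.mulVec_injective
      funext x
      change (t.1.1 * M) *ᵥ x = (M * t.1.1) *ᵥ x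
      rw [← Matrix.mulVec_mulVec, ← Matrix.mulVec_mulVec, htx, htx, Matrix.mulVec_smul, Matrix.mulVec_add,
        Matrix.mulVec_smul, hMu]
      have h1 : hermForm 3 F 9 (M *ᵥ x) u = hermForm 3 F 9 x u := by
        rw [← hMh x u, hMu]
      rw [h1]
    have htu : (t.1.1 : Matrix (Fin 3) (Fin 3) F) *ᵥ u = (a : F) ^ 3 • u := by
      rw [htx, hγc]
      funext i
      simp only [Pi.smul_apply, Pi.add_apply, smul_eq_mul]
      ring
    have htk : ∀ k : ℕ, ((t ^ k).1.1 : Matrix (Fin 3) (Fin 3) F) *ᵥ u = ((a : F) ^ 3) ^ k • u := by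
      intro k
      induction k with
      | zero =>
        rw [pow_zero, pow_zero, one_smul]
        exact Matrix.one_mulVec u
      | succ k ih =>
        have h1 : ((t ^ (k + 1)).1.1 : Matrix (Fin 3) (Fin 3) F) = t.1.1 * (t ^ k).1.1 := by
          rw [pow_succ']
          rfl
        rw [h1, ← Matrix.mulVec_mulVec, ih, Matrix.mulVec_smul, htu, smul_smul, ← pow_succ]
    have h5 : 5 ∣ orderOf t := by
      have h1 := htk (orderOf t)
      rw [pow_orderOf_eq_one] at h1
      have h2 : (1 : SU 3 F 9).1.1 *ᵥ u = u := Matrix.one_mulVec u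
      rw [h2] at h1
      have hu0 : u ≠ 0 := by
        rintro rfl
        apply hu
        rw [hf]
        simp
      have h3 : ((a : F) ^ 3) ^ orderOf t = 1 := by
        have h4 : (((a : F) ^ 3) ^ orderOf t - 1) • u = 0 := by rw [sub_smul, ← h1, one_smul, sub_self]
        exact sub_eq_zero.1 ((smul_eq_zero.1 h4).resolve_right hu0)
      have h4 : a ^ (3 * orderOf t) = 1 := by
        apply Units.ext
        rw [Units.val_pow_eq_pow_val, pow_mul, h3, Units.val_one]
      have h6 := orderOf_dvd_of_pow_eq_one h4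
      rw [ha] at h6
      exact (Nat.Coprime.dvd_of_dvd_mul_left (by norm_num) h6)
    have hmem : t ∈ centralizer ({z} : Set (SU 3 F 9)) := mem_centralizer_singleton_iff.2 hcomm
    have h6 : orderOf t ∣ Nat.card (centralizer ({z} : Set (SU 3 F 9))) := by
      have h7 := _root_.orderOf_dvd_natCard (⟨t, hmem⟩ : centralizer ({z} : Set (SU 3 F 9)))
      rwa [← Subgroup.orderOf_coe] at h7
    rw [hzc] at h6
    have h7 : 5 ∣ 5832 := h5.trans h6
    omega
  · have hcom : ∀ X Y : Matrix (Fin 3) (Fin 3) F, X * M = M * X → Y * M = M * Y → X * Y = Y * X := by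
      intro X Y hX hY
      let L := (Matrix.toLinAlgEquiv' : Matrix (Fin 3) (Fin 3) F ≃ₐ[F] _)
      have h1 := comm_of_nil (F := F) (V := Fin 3 → F) (Module.finrank_fin_fun F) (N := L (M - 1)) (X := L X) (Y := L Y)
        (by rw [← map_pow, hN3, map_zero])
        (by
          intro h0
          rw [← map_pow, pow_two, map_eq_zero_iff L L.injective] at h0
          exact hN h0)
        (by rw [← map_mul, ← map_mul, mul_sub, sub_mul, hX, mul_one, one_mul])
        (by rw [← map_mul, ← map_mul, mul_sub, sub_mul, hY, mul_one, one_mul])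
      rw [← map_mul, ← map_mul] at h1
      exact L.injective h1
    obtain ⟨K, hK⟩ := Sylow.exists_subgroup_card_pow_prime (G := centralizer ({z} : Set (SU 3 F 9))) 3 (n := 6) (by
      rw [hzc]
      norm_num)
    have hKc : Nat.card (K.map (centralizer ({z} : Set (SU 3 F 9))).subtype) = 3 ^ 6 := by
      rw [Subgroup.card_map_of_injective Subtype.val_injective, hK]
    have h1 := h.hab (K.map (centralizer ({z} : Set (SU 3 F 9))).subtype) (IsPGroup.of_card hKc) (by
      rintro _ ⟨⟨x, hx⟩, -, rfl⟩ _ ⟨⟨y, hy⟩, -, rfl⟩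
      rw [mem_centralizer_singleton_iff] at hx hy
      apply Subtype.ext
      apply Subtype.ext
      exact hcom x.1.1 y.1.1 (congrArg (fun x : SU 3 F 9 => (x.1.1 : Matrix (Fin 3) (Fin 3) F)) hx)
        (congrArg (fun x : SU 3 F 9 => (x.1.1 : Matrix (Fin 3) (Fin 3) F)) hy))
    rw [hKc] at h1
    omega

theorem psu3_false (hF : Fintype.card F = 9 ^ 2) (h : Hy (PSU 3 F 9)) : False := by
  have hfin1 : Finite (Matrix.SpecialLinearGroup (Fin 3) F) :=
    Finite.of_injective (fun x => (x : Matrix (Fin 3) (Fin 3) F)) Subtype.val_injective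
  have h1 : center (SU 3 F 9) = ⊥ := by
    have h2 := S0279.result hF 3 le_rfl
    exact Subgroup.card_eq_one.1 h2
  exact su3_false hF (h.congr ((QuotientGroup.quotientMulEquivOfEq h1).trans QuotientGroup.quotientBot))

end Form

end Cfsg.Agent.H345.EOne
end

-- part: H345/EOneMain
section
/-!
# The configuration of order 11664: no known simple group has it (helper345, for helper399)

`e1` : a known simple group `K` with `Conf11664 A S z g`, `|K| / 729 ≡ 2 mod 3` and abelian 3-subgroups of order at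
most 81 does not exist.
-/

set_option autoImplicit false

namespace Cfsg.Agent.H345.EOne

open Cfsg Subgroup Cfsg.Agent.OrdDiv Cfsg.Agent.H399
open scoped Pointwise

universe u

theorem hy_false (T : OrderTable.{u}) {S : Type u} [Group S] [Finite S] (h : IsKnownSimple' S) (hS : Hy S) : False := by
  have spo : ∀ g : Grp, g ∈ spor.map (fun x => x.1) → g ≠ .mcl → g ≠ .co2 → g ≠ .hn → Real g S → False := by
    intro g hg h1 h2 h3 hr
    obtain ⟨x, hx, rfl⟩ := List.mem_map.1 hg
    rcases spor_cand T hS x hx hr with h4 | h4 | h4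
    · exact h1 h4
    · exact h2 h4
    · exact h3 h4
  rcases h with h | h | h | h | h | h | h | h | h | h
  · have h6 := hS.h6
    have h3 : 3 ∣ Nat.card S := Dvd.dvd.trans (by norm_num) h6
    have e3 := (Nat.prime_dvd_prime_iff_eq Nat.prime_three h).1 h3
    rw [← e3] at h6
    omega
  · obtain ⟨n, -, ⟨e⟩⟩ := h
    exact alt_false (hS.congr e)
  · obtain ⟨F, _, _, n, hn, hn2, ⟨e⟩⟩ := h
    by_cases ho : 3 ∣ Fintype.card F
    · exact psl_three hn hn2 ho (hS.congr e)
    · exact psl_false hn ho (hS.congr e)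
  · obtain ⟨F, _, _, n, hn, hn2, ⟨e⟩⟩ := h
    by_cases ho : 3 ∣ Fintype.card F
    · exact psp_three hn hn2 ho (hS.congr e)
    · exact psp_false (by omega) ho (hS.congr e)
  · obtain ⟨F, _, _, n, q, hF, hn, hn2, ⟨e⟩⟩ := h
    by_cases ho : 3 ∣ q
    · obtain ⟨rfl, rfl⟩ := psu_three hF hn hn2 ho (hS.congr e)
      exact psu3_false hF (hS.congr e)
    · exact psu_false hF (by omega) ho (hS.congr e)
  · obtain ⟨F, _, _, n, hn, ho2, ⟨e⟩⟩ := h
    by_cases ho : 3 ∣ Fintype.card F
    · exact oodd_three hn ho2 ho (hS.congr e)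
    · exact oodd_false hn ho2 ho (hS.congr e)
  · obtain ⟨F, _, _, n, hn, ⟨e⟩⟩ := h
    by_cases ho : 3 ∣ Fintype.card F
    · exact oplus_three hn ho (hS.congr e)
    · exact oplus_false hn ho (hS.congr e)
  · obtain ⟨F, _, _, n, a, b, hn, hab, ⟨e⟩⟩ := h
    by_cases ho : 3 ∣ Fintype.card F
    · exact ominus_three hn hab ho (hS.congr e)
    · exact ominus_false hn hab ho (hS.congr e)
  · exact exc_false T h hS
  · rcases h with h | h | h | h | h | h | h | h | h | h | h | h | h | h | h | h | h | h | h | h | h | h | h | h | h | h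
    · exact spo .m11 (by decide) (by decide) (by decide) (by decide) h
    · exact spo .m12 (by decide) (by decide) (by decide) (by decide) h
    · exact spo .m22 (by decide) (by decide) (by decide) (by decide) h
    · exact spo .m23 (by decide) (by decide) (by decide) (by decide) h
    · exact spo .m24 (by decide) (by decide) (by decide) (by decide) h
    · exact spo .j1 (by decide) (by decide) (by decide) (by decide) h
    · exact spo .j2 (by decide) (by decide) (by decide) (by decide) h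
    · exact spo .j3 (by decide) (by decide) (by decide) (by decide) h
    · exact spo .j4 (by decide) (by decide) (by decide) (by decide) h
    · exact spo .co1 (by decide) (by decide) (by decide) (by decide) h
    · exact coTwo hS h
    · exact spo .co3 (by decide) (by decide) (by decide) (by decide) h
    · exact mcl hS h
    · exact spo .hs (by decide) (by decide) (by decide) (by decide) h
    · exact spo .suz (by decide) (by decide) (by decide) (by decide) h
    · exact spo .he (by decide) (by decide) (by decide) (by decide) h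
    · exact spo .ru (by decide) (by decide) (by decide) (by decide) h
    · exact spo .on (by decide) (by decide) (by decide) (by decide) h
    · exact spo .ly (by decide) (by decide) (by decide) (by decide) h
    · exact spo .fi22 (by decide) (by decide) (by decide) (by decide) h
    · exact spo .fi23 (by decide) (by decide) (by decide) (by decide) h
    · exact spo .fi24 (by decide) (by decide) (by decide) (by decide) h
    · exact hn hS h
    · exact spo .th (by decide) (by decide) (by decide) (by decide) h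
    · exact spo .b (by decide) (by decide) (by decide) (by decide) h
    · exact spo .m (by decide) (by decide) (by decide) (by decide) h

/-- **The elimination.** -/
theorem e1 (T : Cfsg.Agent.OrdDiv.OrderTable.{u}) {K : Type u} [Group K] [Finite K] (h : IsKnownSimple' K)
    {A S : Subgroup K} {z g : K} (hc : Conf11664 A S z g) (hm : Nat.card K / 729 % 3 = 2)
    (hab : ∀ B : Subgroup K, IsPGroup 3 B → (∀ x ∈ B, ∀ y ∈ B, x * y = y * x) → Nat.card B ≤ 81) : False :=
  hy_false T h (Hy.of_conf hc hm hab)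

end Cfsg.Agent.H345.EOne
end

private theorem dce_1ec71f776187 : _root_.True := by
  try have : _root_.True := by simp only [_root_.Cfsg.Agent.H345.EOne.pm.eq_1]
  try have : _root_.True := by simp only [_root_.Cfsg.Agent.H345.EOne.refl.eq_1]
  try have : _root_.True := by simp only [_root_.Cfsg.Agent.OrdDiv.spor.eq_1]
  exact _root_.True.intro
end
end
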